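import Groth.Agent.Pi1A.DepthTwo
import Groth.Agent.Pi1C.FEtExtend
import Mathlib.RingTheory.Flat.Localization
import Mathlib.RingTheory.RingHom.Etale

/-!
# The algebra of global sections of a finite etale cover of an open of depth `≥ 2`

Let `R` be a Noetherian ring, `U` an open of `Spec R` containing `D(a) ∪ D(b)` for an `R`-regular pair `(a, b)`,
and `V` a finite etale cover of `U`. Then `(a, b)` is a regular pair on `C = Γ(V, O_V)`, `C` is a finite
`R`-algebra, `C[1/g]` is etale over `R` for `D(g) ≤ U` and `V` extends to `Spec R` iff `C` is etale over `R`.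
-/

set_option autoImplicit false
universe u v w

open CategoryTheory CategoryTheory.Limits TopologicalSpace Opposite AlgebraicGeometry

namespace Groth.Agent.Pi1A.ExtAlg

open DepthTwo Groth.Agent.Pi1C.SectionsOverAffine

section Algebra

/-- Finiteness criterion in depth two. -/
theorem finite_of_isRegPair {R : Type u} [CommRing R] [IsNoetherianRing R] {a b : R}
    (hab : IsRegPair a b) {C : Type v} [AddCommGroup C] [Module R C]
    (ha : ∀ c : C, a • c = 0 → c = 0)
    {Ra : Type u} [CommRing Ra] [Algebra R Ra] [IsLocalization.Away a Ra]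
    {Ca : Type w} [AddCommGroup Ca] [Module R Ca] [Module Ra Ca] [IsScalarTower R Ra Ca]
    (f : C →ₗ[R] Ca) [IsLocalizedModule (Submonoid.powers a) f]
    [Module.Finite Ra Ca] [Module.Projective Ra Ca]
    (hb : ∃ F : Finset C, ∀ c : C, ∃ n : ℕ, b ^ n • c ∈ Submodule.span R (F : Set C)) :
    Module.Finite R C := by
  classical
  obtain ⟨F, hF⟩ := hb
  obtain ⟨n, g, s, -, hs, -⟩ := Module.Finite.exists_comp_eq_id_of_projective Ra Ca
  have hfinj : Function.Injective f := by
    rw [injective_iff_map_eq_zero]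
    intro c hc
    rw [IsLocalizedModule.eq_zero_iff (Submonoid.powers a)] at hc
    obtain ⟨⟨_, k, rfl⟩, hk⟩ := hc
    rw [Submonoid.smul_def] at hk
    change a ^ k • c = 0 at hk
    induction k with
    | zero => simpa using hk
    | succ k ih => 
      rw [pow_succ', mul_smul] at hk
      exact ih (ha _ hk)
  have hRinj : Function.Injective (algebraMap R Ra) := by
    rw [injective_iff_map_eq_zero]
    intro r hr
    rw [IsLocalization.map_eq_zero_iff (Submonoid.powers a)] at hr
    obtain ⟨⟨_, k, rfl⟩, hk⟩ := hr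
    exact (hab.pow k 0).fst r hk
  let Λ : C →ₗ[R] (Fin n → Ra) := (s.restrictScalars R).comp f
  have hΛ : Function.Injective Λ := hs.comp hfinj
  let N : Submodule R (Fin n → Ra) := LinearMap.range (LinearMap.pi (fun i => (Algebra.linearMap R Ra).comp (LinearMap.proj i)) :
    (Fin n → R) →ₗ[R] (Fin n → Ra))
  have hN : ∀ x : Fin n → Ra, x ∈ N ↔ ∀ i, ∃ r : R, algebraMap R Ra r = x i := by
    intro x
    constructor
    · rintro ⟨y, rfl⟩ i
      exact ⟨y i, rfl⟩
    · intro h
      choose y hy using h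
      exact ⟨y, funext hy⟩
  -- clear denominators on the generators
  obtain ⟨k, hk⟩ : ∃ k : ℕ, ∀ c ∈ F, a ^ k • Λ c ∈ N := by
    have h1 : ∀ x : Fin n → Ra, ∃ k : ℕ, a ^ k • x ∈ N := by
      intro x
      obtain ⟨⟨_, k, rfl⟩, hk⟩ := IsLocalization.exist_integer_multiples_of_finite (Submonoid.powers a) x
      refine ⟨k, (hN _).mpr fun i => ?_⟩
      obtain ⟨r, hr⟩ := hk i
      exact ⟨r, hr⟩
    choose! k hk using fun c : C => h1 (Λ c)
    refine ⟨F.sup k, fun c hc => ?_⟩
    have h2 : a ^ (F.sup k) • Λ c = a ^ (F.sup k - k c) • a ^ (k c) • Λ c := by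
      rw [smul_smul, ← pow_add, Nat.sub_add_cancel (Finset.le_sup hc)]
    rw [h2]
    exact N.smul_mem _ (hk c)
  let Λ' : C →ₗ[R] (Fin n → Ra) := a ^ k • Λ
  have hΛ' : Function.Injective Λ' := by
    rw [injective_iff_map_eq_zero]
    intro c hc
    apply hΛ
    rw [map_zero]
    have hu : IsUnit (algebraMap R Ra (a ^ k)) := by
      rw [map_pow]; exact (IsLocalization.Away.algebraMap_isUnit a).pow k
    ext i
    have : algebraMap R Ra (a ^ k) * Λ c i = 0 := by
      have := congrFun hc i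
      simpa [Λ', Algebra.smul_def] using this
    simpa using hu.mul_right_eq_zero.mp this
  have hspan : ∀ c ∈ Submodule.span R (F : Set C), Λ' c ∈ N := by
    intro c hc
    have : Submodule.span R (F : Set C) ≤ N.comap Λ' := Submodule.span_le.mpr fun c hc => hk c hc
    exact this hc
  have hall : ∀ c, Λ' c ∈ N := by
    intro c
    obtain ⟨m, hm⟩ := hF c
    have h1 := hspan _ hm
    rw [map_smul, hN] at h1
    rw [hN]
    intro i
    obtain ⟨r, hr⟩ := h1 i
    obtain ⟨⟨x, _, l, rfl⟩, hx⟩ := IsLocalization.surj (Submonoid.powers a) (Λ' c i)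
    simp only at hx
    -- `b ^ m * x = a ^ l * r`
    have h2 : b ^ m * x = a ^ l * r := by
      apply hRinj
      rw [map_mul, ← hx, map_mul, hr, Pi.smul_apply, Algebra.smul_def]
      ring
    obtain ⟨d, hd⟩ := (hab.pow l m).snd x r h2
    refine ⟨d, ?_⟩
    have hu : IsUnit (algebraMap R Ra (a ^ l)) := by
      rw [map_pow]; exact (IsLocalization.Away.algebraMap_isUnit a).pow l
    apply hu.mul_left_injective
    simp only
    rw [hx, hd, map_mul, mul_comm]
  have hNfin : IsNoetherian R N := inferInstance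
  exact Module.Finite.of_injective (Λ'.codRestrict N hall) (fun x y h => hΛ' (congrArg Subtype.val h))

end Algebra

variable {R : CommRingCat.{u}} {Z : Scheme.{u}} (p : Z ⟶ Spec R)

lemma res_toΓ_eq_appLE (B : Z.Opens) (r : R) :
    Z.presheaf.map (homOfLE (le_top : B ≤ ⊤)).op (toΓ p r) =
      (p.appLE ⊤ B le_top).hom ((Scheme.ΓSpecIso R).inv.hom r) := by
  simp only [Scheme.Hom.appLE, CommRingCat.hom_comp, RingHom.comp_apply]
  rfl

lemma isRegPair_res [Flat p] {a b : R} (hab : IsRegPair a b) (B : Z.Opens) (hB : IsAffineOpen B) :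
    IsRegPair (Z.presheaf.map (homOfLE (le_top : B ≤ ⊤)).op (toΓ p a))
      (Z.presheaf.map (homOfLE (le_top : B ≤ ⊤)).op (toΓ p b)) := by
  have hflat : ((Scheme.ΓSpecIso R).inv.hom).Flat :=
    RingHom.Flat.of_bijective ((ConcreteCategory.isIso_iff_bijective _).mp inferInstance)
  have h1 := (hab.map_of_flat _ hflat).map_of_flat _ (p.flat_appLE (isAffineOpen_top _) hB le_top)
  rw [res_toΓ_eq_appLE, res_toΓ_eq_appLE]
  exact h1

lemma eq_zero_of_res_mul [Flat p] {a b : R} (hab : IsRegPair a b) (W : Z.Opens) (s : Γ(Z, W))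
    (hs : Z.presheaf.map (homOfLE (le_top : W ≤ ⊤)).op (toΓ p a) * s = 0) : s = 0 := by
  apply Z.IsSheaf.section_ext
  intro z hz
  obtain ⟨_, ⟨B, hB, rfl⟩, hzB, hBN⟩ := Z.isBasis_affineOpens.exists_subset_of_mem_open hz W.isOpen
  refine ⟨B, hBN, hzB, ?_⟩
  rw [map_zero]
  refine (isRegPair_res p hab B hB).fst _ ?_
  have := congrArg (Z.presheaf.map (homOfLE hBN).op) hs
  rw [map_mul, map_zero, ← ConcreteCategory.comp_apply, ← Functor.map_comp] at this
  exact this

/-- A regular pair on `R` is a regular pair on the global sections of a flat scheme over `Spec R`. -/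
theorem isRegPair_toΓ [Flat p] {a b : R} (hab : IsRegPair a b) :
    IsRegPair (toΓ p a) (toΓ p b) := by
  refine ⟨fun c hc => ?_, fun c c' hcc' => ?_⟩
  · refine eq_zero_of_res_mul p hab ⊤ c ?_
    have : Z.presheaf.map (homOfLE (le_top : (⊤ : Z.Opens) ≤ ⊤)).op (toΓ p a) = toΓ p a := by
      have : (homOfLE (le_top : (⊤ : Z.Opens) ≤ ⊤)) = 𝟙 _ := rfl
      rw [this, op_id, CategoryTheory.Functor.map_id]
      rfl
    rw [this]
    exact hc
  · -- local solutions
    have hloc : ∀ z : Z, ∃ B : Z.Opens, z ∈ B ∧ ∃ d : Γ(Z, B),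
        Z.presheaf.map (homOfLE (le_top : B ≤ ⊤)).op c =
          Z.presheaf.map (homOfLE (le_top : B ≤ ⊤)).op (toΓ p a) * d := by
      intro z
      obtain ⟨_, ⟨B, hB, rfl⟩, hzB, -⟩ := Z.isBasis_affineOpens.exists_subset_of_mem_open
        (Set.mem_univ z) isOpen_univ
      refine ⟨B, hzB, ?_⟩
      refine (isRegPair_res p hab B hB).snd _ (Z.presheaf.map (homOfLE (le_top : B ≤ ⊤)).op c') ?_
      have := congrArg (Z.presheaf.map (homOfLE (le_top : B ≤ ⊤)).op) hcc'
      rw [map_mul, map_mul] at this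
      exact this
    choose B hzB d hd using hloc
    obtain ⟨t, ht⟩ : ∃ t : Γ(Z, ⊤), ∀ z, Z.presheaf.map (homOfLE (le_top : B z ≤ ⊤)).op t = d z := by
     obtain ⟨t, ht, -⟩ := TopCat.Sheaf.existsUnique_gluing' Z.sheaf B ⊤
      (fun z => homOfLE le_top) (fun z _ => Opens.mem_iSup.mpr ⟨z, hzB z⟩) d (by
        intro z z'
        have hk : ∀ x : R, Z.presheaf.map (homOfLE (inf_le_left : B z ⊓ B z' ≤ B z)).op
            (Z.presheaf.map (homOfLE (le_top : B z ≤ ⊤)).op (toΓ p x)) =
            Z.presheaf.map (homOfLE (le_top : B z ⊓ B z' ≤ ⊤)).op (toΓ p x) := by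
          intro x
          rw [← ConcreteCategory.comp_apply, ← Functor.map_comp]
          rfl
        have hk' : ∀ x : R, Z.presheaf.map (homOfLE (inf_le_right : B z ⊓ B z' ≤ B z')).op
            (Z.presheaf.map (homOfLE (le_top : B z' ≤ ⊤)).op (toΓ p x)) =
            Z.presheaf.map (homOfLE (le_top : B z ⊓ B z' ≤ ⊤)).op (toΓ p x) := by
          intro x
          rw [← ConcreteCategory.comp_apply, ← Functor.map_comp]
          rfl
        refine sub_eq_zero.mp (eq_zero_of_res_mul p hab (B z ⊓ B z')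
          (Z.presheaf.map (homOfLE (inf_le_left : B z ⊓ B z' ≤ B z)).op (d z) -
            Z.presheaf.map (homOfLE (inf_le_right : B z ⊓ B z' ≤ B z')).op (d z')) ?_)
        have e1 := congrArg (Z.presheaf.map (homOfLE (inf_le_left : B z ⊓ B z' ≤ B z)).op) (hd z)
        have e2 := congrArg (Z.presheaf.map (homOfLE (inf_le_right : B z ⊓ B z' ≤ B z')).op) (hd z')
        rw [map_mul, hk, ← ConcreteCategory.comp_apply, ← Functor.map_comp] at e1
        rw [map_mul, hk', ← ConcreteCategory.comp_apply, ← Functor.map_comp] at e2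
        rw [mul_sub, sub_eq_zero]
        exact e1.symm.trans e2)
     exact ⟨t, ht⟩
    refine ⟨t, ?_⟩
    refine TopCat.Sheaf.eq_of_locally_eq' Z.sheaf B ⊤ (fun z => homOfLE le_top)
      (fun z _ => Opens.mem_iSup.mpr ⟨z, hzB z⟩) _ _ fun z => ?_
    have h1 := hd z
    have h2 : Z.presheaf.map (homOfLE (le_top : B z ≤ ⊤)).op t = d z := ht z
    change Z.presheaf.map _ c = Z.presheaf.map _ (toΓ p a * t)
    rw [map_mul, h2]
    exact h1

lemma finite_app_of_le {X : Scheme.{u}} (U : X.Opens) {V : Scheme.{u}} (q : V ⟶ U) [IsFinite q] (W : X.Opens)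
    (hW : IsAffineOpen W) (ha : W ≤ U) : ((q ≫ U.ι).app W).hom.Finite := by
  have h1 : IsIso (U.ι.app W) := Scheme.Hom.isIso_app _ _ (by simp only [Scheme.Opens.opensRange_ι]; exact ha)
  have haff : IsAffineOpen (U.ι ⁻¹ᵁ W) := hW.preimage_of_isOpenImmersion U.ι (by simpa using ha)
  change ((q.app (U.ι ⁻¹ᵁ W)).hom.comp (U.ι.app W).hom).Finite
  exact RingHom.Finite.comp (q.finite_app _ haff)
    (RingHom.Finite.of_surjective _ (ConcreteCategory.bijective_of_isIso (C := CommRingCat) _).2)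

lemma etale_app_of_le {X : Scheme.{u}} (U : X.Opens) {V : Scheme.{u}} (q : V ⟶ U) [IsAffineHom q]
    [Etale q] (W : X.Opens)
    (hW : IsAffineOpen W) (ha : W ≤ U) : ((q ≫ U.ι).app W).hom.Etale := by
  have haff' : IsAffineOpen ((q ≫ U.ι) ⁻¹ᵁ W) := by
    have haff : IsAffineOpen (U.ι ⁻¹ᵁ W) := hW.preimage_of_isOpenImmersion U.ι (by simpa using ha)
    exact haff.preimage q
  rw [Scheme.Hom.app_eq_appLE]
  exact (q ≫ U.ι).etale_appLE hW haff' _

section Cover

variable (U : (Spec R).Opens) [CompactSpace U] {W : Scheme.{u}} (q : W ⟶ (U : Scheme.{u}))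
  [IsFinite q] [Etale q]

/-- `C[1/g]` is etale over `R` for `D(g) ≤ U`. -/
theorem etale_away (g : R) (hg : PrimeSpectrum.basicOpen g ≤ U) :
    letI := (toΓ (q ≫ U.ι)).toAlgebra
    Algebra.Etale R (Localization.Away (algebraMap R Γ(W, ⊤) g)) := by
  have : CompactSpace W := QuasiCompact.compactSpace_of_compactSpace q
  have : QuasiSeparatedSpace W := quasiSeparatedSpace_of_quasiSeparated q
  let p := q ≫ U.ι
  let _ := (toΓ p).toAlgebra
  let Bₐ := Γ(W, p ⁻¹ᵁ (PrimeSpectrum.basicOpen g))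
  let _ : Algebra Γ(Spec R, PrimeSpectrum.basicOpen g) Bₐ := (p.app (PrimeSpectrum.basicOpen g)).hom.toAlgebra
  let _ : Algebra Γ(W, ⊤) Bₐ := (W.presheaf.map (homOfLE le_top).op).hom.toAlgebra
  let _ : Algebra R Bₐ := ((algebraMap Γ(Spec R, PrimeSpectrum.basicOpen g) Bₐ).comp (algebraMap R _)).toAlgebra
  have : IsScalarTower R Γ(Spec R, PrimeSpectrum.basicOpen g) Bₐ := .of_algebraMap_eq fun _ => rfl
  have : IsScalarTower R Γ(W, ⊤) Bₐ := .of_algebraMap_eq fun x => (toΓ_map_eq p g x).symm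
  have h1 : IsLocalization.Away (algebraMap R Γ(W, ⊤) g) Bₐ := isLocalization_toΓ p g
  have h2 : Algebra.Etale Γ(Spec R, PrimeSpectrum.basicOpen g) Bₐ :=
    (RingHom.etale_algebraMap).mp (etale_app_of_le U q _ (IsAffineOpen.Spec_basicOpen g) hg)
  have h3 : Algebra.Etale R Γ(Spec R, PrimeSpectrum.basicOpen g) := Algebra.Etale.of_isLocalizationAway g
  have h4 : Algebra.Etale R Bₐ := Algebra.Etale.comp R Γ(Spec R, PrimeSpectrum.basicOpen g) Bₐ
  exact Algebra.Etale.of_equiv ((IsLocalization.algEquiv (Submonoid.powers (algebraMap R Γ(W, ⊤) g))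
    Bₐ (Localization.Away (algebraMap R Γ(W, ⊤) g))).restrictScalars R)

/-- `C` is a finite `R`-algebra. -/
theorem finite_toΓ [IsNoetherianRing R] {a b : R} (hab : IsRegPair a b)
    (ha : PrimeSpectrum.basicOpen a ≤ U) (hb : PrimeSpectrum.basicOpen b ≤ U) :
    (toΓ (q ≫ U.ι)).Finite := by
  have : CompactSpace W := QuasiCompact.compactSpace_of_compactSpace q
  have : QuasiSeparatedSpace W := quasiSeparatedSpace_of_quasiSeparated q
  let p := q ≫ U.ι
  let _ := (toΓ p).toAlgebra
  let Ra := Γ(Spec R, PrimeSpectrum.basicOpen a)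
  let Bₐ := Γ(W, p ⁻¹ᵁ (PrimeSpectrum.basicOpen a))
  let _ : Algebra Ra Bₐ := (p.app (PrimeSpectrum.basicOpen a)).hom.toAlgebra
  let _ : Algebra Γ(W, ⊤) Bₐ := (W.presheaf.map (homOfLE le_top).op).hom.toAlgebra
  let _ : Algebra R Bₐ := ((algebraMap Ra Bₐ).comp (algebraMap R _)).toAlgebra
  have : IsScalarTower R Ra Bₐ := .of_algebraMap_eq fun _ => rfl
  have : IsScalarTower R Γ(W, ⊤) Bₐ := .of_algebraMap_eq fun x => (toΓ_map_eq p a x).symm
  have h1 : IsLocalization.Away (algebraMap R Γ(W, ⊤) a) Bₐ := isLocalization_toΓ p a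
  have h2 : Algebra.Etale Ra Bₐ :=
    (RingHom.etale_algebraMap).mp (etale_app_of_le U q _ (IsAffineOpen.Spec_basicOpen a) ha)
  have h3 : Module.Finite Ra Bₐ := finite_app_of_le U q _ (IsAffineOpen.Spec_basicOpen a) ha
  have h5 : Module.Finite R Γ(W, ⊤) := by
    have hflat : Module.Flat Ra Bₐ := inferInstance
    have hnoeth : IsNoetherianRing Ra := IsLocalization.isNoetherianRing (Submonoid.powers a) Ra inferInstance
    have hfp : Module.FinitePresentation Ra Bₐ := Module.finitePresentation_of_finite Ra Bₐ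
    have hproj : Module.Projective Ra Bₐ := Module.Flat.projective_of_finitePresentation
    let f : Γ(W, ⊤) →ₗ[R] Bₐ := (Algebra.linearMap Γ(W, ⊤) Bₐ).restrictScalars R
    have hf : IsLocalizedModule (Submonoid.powers a) f := by
      have h1' : IsLocalization (Algebra.algebraMapSubmonoid Γ(W, ⊤) (Submonoid.powers a)) Bₐ := by
        rw [Algebra.algebraMapSubmonoid, Submonoid.map_powers]
        exact h1
      exact (isLocalizedModule_iff_isLocalization (S := Submonoid.powers a) (Aₛ := Bₐ)).mpr h1'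
    refine finite_of_isRegPair hab (C := Γ(W, ⊤)) (Ra := Ra) (Ca := Bₐ) (fun c hc => ?_) f ?_
    · exact (isRegPair_toΓ p hab).fst c (by rwa [Algebra.smul_def] at hc)
    · exact exists_finset_span_Γ p b (finite_app_of_le U q _ (IsAffineOpen.Spec_basicOpen b) hb)
  exact h5

omit [CompactSpace U] in
theorem isIso_ι_appTop {a b : R} (hab : IsRegPair a b)
    (ha : PrimeSpectrum.basicOpen a ≤ U) (hb : PrimeSpectrum.basicOpen b ≤ U) :
    IsIso U.ι.appTop := by
  have hflat : ((Scheme.ΓSpecIso R).inv.hom).Flat :=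
    RingHom.Flat.of_bijective ((ConcreteCategory.isIso_iff_bijective _).mp inferInstance)
  have h1 := bijective_res_of_isRegPair (Z := Spec R) (V := ⊤) (isAffineOpen_top _)
    ((Scheme.ΓSpecIso R).inv.hom a) ((Scheme.ΓSpecIso R).inv.hom b) (hab.map_of_flat _ hflat)
    (W := ⊤ ⊓ U.ι.opensRange) inf_le_left (by
      rw [basicOpen_eq_of_affine, basicOpen_eq_of_affine]
      simp only [Scheme.Opens.opensRange_ι, top_inf_eq]
      exact sup_le ha hb)
  rw [ConcreteCategory.isIso_iff_bijective]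
  exact (bijective_app_iff U.ι ⊤).mpr h1

/-- `V` extends to `Spec R` if `C` is etale over `R`. -/
theorem exists_extension (V : FEt.Cat (U : Scheme.{u})) [IsNoetherianRing R] {a b : R} (hab : IsRegPair a b)
    (ha : PrimeSpectrum.basicOpen a ≤ U) (hb : PrimeSpectrum.basicOpen b ≤ U)
    (h : (toΓ (V.hom ≫ U.ι)).Etale) :
    ∃ Y : FEt.Cat (Spec R), Nonempty ((FEt.restrict U.ι).obj Y ≅ V) := by
  have : IsFinite V.hom := V.prop.1
  have : Etale V.hom := V.prop.2
  exact Groth.Agent.Pi1C.FEtExtend.ext_of_finite_etale U (isIso_ι_appTop U hab ha hb) V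
    (finite_toΓ U V.hom hab ha hb) h

end Cover

end Groth.Agent.Pi1A.ExtAlg
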