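import Groth.Agent.Pi1A.PSPurity
import Groth.Agent.Pi1A.ExtAlg
import Groth.Agent.Pi1A.DepthPunctured
import Groth.Agent.Pi1C.PurityQuot
import Mathlib.RingTheory.PowerSeries.Inverse
import Mathlib.RingTheory.MvPowerSeries.Inverse

/-!
# Purity for power series rings over local rings of depth at least two (Stacks 0EYA)
-/

set_option autoImplicit false
universe u

open CategoryTheory CategoryTheory.Limits AlgebraicGeometry PowerSeries

namespace Groth.Agent.Pi1A.PSPurityHolds

open DepthTwo Groth.Agent.Pi1C.SectionsOverAffine IsLocalRing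

/-- A regular pair stays regular in `MvPowerSeries`. -/
theorem isRegPair_mvPowerSeries {σ : Type*} {A : Type*} [CommRing A] {a b : A} (h : IsRegPair a b) :
    IsRegPair (MvPowerSeries.C a : MvPowerSeries σ A) (MvPowerSeries.C b) := by
  refine ⟨fun p hp => ?_, fun p q hpq => ?_⟩
  · ext n
    have := congrArg (MvPowerSeries.coeff n) hp
    rw [MvPowerSeries.coeff_C_mul, map_zero] at this
    rw [map_zero]
    exact h.fst _ this
  · have h1 : ∀ n, ∃ d, MvPowerSeries.coeff n p = a * d := by
      intro n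
      have := congrArg (MvPowerSeries.coeff n) hpq
      rw [MvPowerSeries.coeff_C_mul, MvPowerSeries.coeff_C_mul] at this
      exact h.snd _ _ this
    choose d hd using h1
    refine ⟨fun n => d n, ?_⟩
    ext n
    rw [MvPowerSeries.coeff_C_mul, hd]
    rfl

/-- In a Noetherian local ring both elements of a regular pair are regular. -/
theorem IsRegPair.regular_snd {A : Type u} [CommRing A] [IsNoetherianRing A] [IsLocalRing A]
    {a b : A} (h : IsRegPair a b) (ha : a ∈ maximalIdeal A) (r : A) (hr : b * r = 0) : r = 0 := by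
  let N : Ideal A := LinearMap.ker (LinearMap.mulLeft A b)
  have hN : ∀ r, r ∈ N ↔ b * r = 0 := fun r => Iff.rfl
  have h1 : N ≤ Ideal.span {a} • N := by
    intro r hr
    rw [hN] at hr
    obtain ⟨d, rfl⟩ := h.snd r 0 (by rw [hr, mul_zero])
    have hd : b * d = 0 := h.fst _ (by rw [← hr]; ring)
    exact Submodule.smul_mem_smul (Ideal.mem_span_singleton_self a) ((hN d).mpr hd)
  have h2 : N = ⊥ := Submodule.eq_bot_of_le_smul_of_le_jacobson_bot _ _
    (IsNoetherian.noetherian N) h1 (by
      rw [IsLocalRing.jacobson_eq_maximalIdeal ⊥ bot_ne_top]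
      exact (Ideal.span_singleton_le_iff_mem _).mpr ha)
  have : r ∈ N := (hN r).mpr hr
  rw [h2] at this
  exact this

theorem C_mem_maximalIdeal {A : Type u} [CommRing A] [IsLocalRing A] {a : A}
    (ha : a ∈ maximalIdeal A) : (C a : A⟦X⟧) ∈ maximalIdeal A⟦X⟧ := by
  rw [mem_maximalIdeal, mem_nonunits_iff] at ha ⊢
  intro hu
  apply ha
  have := hu.map (constantCoeff (R := A))
  simpa using this

theorem X_mem_maximalIdeal {A : Type u} [CommRing A] [IsLocalRing A] :
    (X : A⟦X⟧) ∈ maximalIdeal A⟦X⟧ := by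
  rw [mem_maximalIdeal, mem_nonunits_iff]
  intro hu
  have := hu.map (constantCoeff (R := A))
  simp at this

/-- Purity for `A⟦X⟧` when `A` is a Noetherian local ring with a regular pair. -/
theorem purityHolds_powerSeries (A : Type u) [CommRing A] [IsNoetherianRing A] [IsLocalRing A]
    {a b : A} (ha : a ∈ maximalIdeal A) (hb : b ∈ maximalIdeal A) (hab : IsRegPair a b)
    (hb' : ∀ r : A, b * r = 0 → r = 0) :
    FEt.PurityHolds A⟦X⟧ := by
  constructor
  intro V
  let R : CommRingCat.{u} := CommRingCat.of A⟦X⟧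
  let U : (Spec R).Opens := FEt.puncturedSpec A⟦X⟧
  have hNoeth : IsNoetherianRing R := inferInstanceAs (IsNoetherianRing A⟦X⟧)
  have hUc : CompactSpace U := by
    have hN : TopologicalSpace.NoetherianSpace (PrimeSpectrum R) := inferInstance
    have h0 : IsCompact (U : Set (Spec R)) :=
      @TopologicalSpace.NoetherianSpace.isCompact (PrimeSpectrum R) _ hN _
    exact isCompact_iff_compactSpace.mp h0
  have hflatC : (C : A →+* A⟦X⟧).Flat := by
    have := PSPurity.flat_powerSeries A
    have h0 : (algebraMap A A⟦X⟧).Flat := RingHom.flat_algebraMap_iff.mpr this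
    exact h0
  have hab' : IsRegPair (C a : A⟦X⟧) (C b) := hab.map_of_flat _ hflatC
  have hbb' : ∀ r : A⟦X⟧, C b * r = 0 → r = 0 := by
    intro r hr
    ext n
    have := congrArg (coeff n) hr
    rw [coeff_C_mul, map_zero] at this
    rw [map_zero]
    exact hb' _ this
  have hle : ∀ x : A⟦X⟧, x ∈ maximalIdeal A⟦X⟧ → PrimeSpectrum.basicOpen x ≤ U := by
    intro x hx q hq hq'
    have hq'' : q = IsLocalRing.closedPoint A⟦X⟧ := hq'
    subst hq''
    exact hq hx
  have h1 : IsFinite V.hom := V.prop.1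
  have h2 : Etale V.hom := V.prop.2
  let p : V.left ⟶ Spec R := V.hom ≫ U.ι
  have hflat : Flat p := inferInstance
  refine ExtAlg.exists_extension (R := R) U V hab' (hle _ (C_mem_maximalIdeal ha))
    (hle _ (C_mem_maximalIdeal hb)) ?_
  let E := Γ(V.left, ⊤)
  let _ : Algebra A⟦X⟧ E := (toΓ p).toAlgebra
  have hfin : Module.Finite A⟦X⟧ E := ExtAlg.finite_toΓ (R := R) U V.hom hab'
    (hle _ (C_mem_maximalIdeal ha)) (hle _ (C_mem_maximalIdeal hb))
  have hreg : IsRegPair (algebraMap A⟦X⟧ E (C a)) (algebraMap A⟦X⟧ E (C b)) :=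
    ExtAlg.isRegPair_toΓ (R := R) p hab'
  have hregb : ∀ r : E, algebraMap A⟦X⟧ E (C b) * r = 0 → r = 0 := by
    have h3 : IsRegPair (C b : A⟦X⟧) 1 := ⟨hbb', fun r s hrs => ⟨s, by simpa using hrs⟩⟩
    exact (ExtAlg.isRegPair_toΓ (R := R) p h3).fst
  have het : ∀ x : A⟦X⟧, x ∈ maximalIdeal A⟦X⟧ →
      Algebra.Etale A⟦X⟧ (Localization.Away (algebraMap A⟦X⟧ E x)) := fun x hx =>
    ExtAlg.etale_away (R := R) U V.hom x (hle x hx)
  have : Algebra.Etale A⟦X⟧ E := PSPurity.etale_of_etale_away a b hreg.fst hregb hreg.snd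
    (het _ (C_mem_maximalIdeal ha)) (het _ (C_mem_maximalIdeal hb)) (het _ X_mem_maximalIdeal)
  exact RingHom.etale_algebraMap.mpr this

theorem purityHolds_of_ringEquiv {A B : Type u} [CommRing A] [CommRing B] [IsLocalRing A]
    [IsLocalRing B] (e : A ≃+* B) (h : FEt.PurityHolds A) : FEt.PurityHolds B := by
  have : IsIso (Spec.map (CommRingCat.ofHom (e : A →+* B))) := by
    have : IsIso (CommRingCat.ofHom (e : A →+* B)) := by
      rw [ConcreteCategory.isIso_iff_bijective]
      exact e.bijective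
    infer_instance
  refine Groth.Agent.Pi1C.PurityQuot.purityHolds_of_surjective A B (e : A →+* B) e.surjective h ?_
  infer_instance

end Groth.Agent.Pi1A.PSPurityHolds
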