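import Mathlib.AlgebraicGeometry.Morphisms.Etale
import Mathlib.AlgebraicGeometry.Morphisms.Flat
import Mathlib.AlgebraicGeometry.Stalk
import Mathlib.RingTheory.Unramified.LocalRing
import Mathlib.RingTheory.Etale.Field
import Mathlib.RingTheory.DedekindDomain.IntegralClosure
import Mathlib.RingTheory.DedekindDomain.Dvr
import Mathlib.RingTheory.DiscreteValuationRing.TFAE
import Mathlib.RingTheory.Filtration
import Mathlib.RingTheory.Flat.TorsionFree

/-!
# Extensions of discrete valuation rings through étale covers (S3226-EXT)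

`exists_dvr`: `R` a DVR, `v : V ⟶ Spec R` étale, `x ∈ V` over the closed point, `w` an étale cover of the generic
fibre of `V`. Then there is a DVR `A`, a morphism `Spec A ⟶ V` sending the closed point to `x`, whose restriction to
the generic point factors through `w`.
-/

set_option autoImplicit false
set_option linter.style.haveILetI false
universe u

open CategoryTheory CategoryTheory.Limits AlgebraicGeometry Opposite TopologicalSpace IsLocalRing

namespace Groth.Agent.Pi1A.PicExtDvr

theorem exists_unit_pow {O : Type*} [CommRing O] [IsLocalRing O] [IsNoetherianRing O] (p : O)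
    (hm : maximalIdeal O = Ideal.span {p}) (a : O) (ha : a ≠ 0) :
    ∃ (n : ℕ) (u : O), IsUnit u ∧ a = u * p ^ n := by
  by_contra! H
  have key : ∀ n : ℕ, ∃ b : O, a = b * p ^ n := by
    intro n
    induction n with
    | zero => exact ⟨a, by simp⟩
    | succ n ih =>
      obtain ⟨b, hb⟩ := ih
      have hb' : ¬ IsUnit b := fun h => H n b h hb
      have : b ∈ maximalIdeal O := (mem_maximalIdeal b).mpr hb'
      rw [hm, Ideal.mem_span_singleton] at this
      obtain ⟨c, hc⟩ := this
      exact ⟨c, by rw [hb, hc, pow_succ]; ring⟩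
  have hkr : (⨅ n : ℕ, (maximalIdeal O) ^ n) = ⊥ :=
    Ideal.iInf_pow_eq_bot_of_isLocalRing _ (maximalIdeal.isMaximal O).ne_top
  have : a ∈ (⨅ n : ℕ, (maximalIdeal O) ^ n) := by
    rw [Ideal.mem_iInf]
    intro n
    obtain ⟨b, hb⟩ := key n
    rw [hm, Ideal.span_singleton_pow, hb]
    exact Ideal.mul_mem_left _ _ (Ideal.mem_span_singleton_self _)
  rw [hkr] at this
  exact ha (by simpa using this)

theorem isDomain_of_principal {O : Type*} [CommRing O] [IsLocalRing O] [IsNoetherianRing O] (p : O)
    (hp : p ∈ nonZeroDivisors O) (hm : maximalIdeal O = Ideal.span {p}) : IsDomain O := by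
  have : NoZeroDivisors O := by
    refine ⟨fun {a b} hab => ?_⟩
    by_contra! hne
    obtain ⟨n, u, hu, ha⟩ := exists_unit_pow p hm a hne.1
    obtain ⟨m, v, hv, hb⟩ := exists_unit_pow p hm b hne.2
    have h1 : (u * v) * p ^ (n + m) = 0 := by
      rw [← hab, ha, hb]; ring
    have h2 : u * v = 0 := by
      have := (pow_mem hp (n + m))
      exact (mem_nonZeroDivisors_iff_right.mp this) _ h1
    exact (hu.mul hv).ne_zero h2
  exact NoZeroDivisors.to_isDomain O

theorem isDVR_of_principal {O : Type*} [CommRing O] [IsLocalRing O] [IsNoetherianRing O] [IsDomain O] (p : O)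
    (hp : p ≠ 0) (hm : maximalIdeal O = Ideal.span {p}) : IsDiscreteValuationRing O := by
  have hf : ¬ IsField O := by
    intro h
    rw [isField_iff_maximalIdeal_eq, hm, Ideal.span_singleton_eq_bot] at h
    exact hp h
  have h5 : (maximalIdeal O).IsPrincipal := ⟨⟨p, hm⟩⟩
  exact ((IsDiscreteValuationRing.TFAE O hf).out 0 4).mpr h5

/-- The local rings of an étale algebra over a DVR, at primes over the maximal ideal, are DVRs. -/
theorem isDVR_localization_of_etale {R B : Type u} [CommRing R] [IsDomain R] [IsDiscreteValuationRing R]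
    [CommRing B] [Algebra R B] [Algebra.Etale R B] (q : Ideal B) [q.IsPrime]
    (hq : q.comap (algebraMap R B) = maximalIdeal R) :
    ∃ _ : IsDomain (Localization.AtPrime q), IsDiscreteValuationRing (Localization.AtPrime q) ∧
      Function.Injective (algebraMap R (Localization.AtPrime q)) ∧
      IsLocalHom (algebraMap R (Localization.AtPrime q)) := by
  have hnB : IsNoetherianRing B := Algebra.FiniteType.isNoetherianRing R B
  have hn : IsNoetherianRing (Localization.AtPrime q) :=
    IsLocalization.isNoetherianRing q.primeCompl _ hnB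
  have hloc : IsLocalHom (algebraMap R (Localization.AtPrime q)) := by
    refine ⟨fun r hr => ?_⟩
    by_contra hr'
    have h1 : r ∈ maximalIdeal R := (mem_maximalIdeal r).mpr hr'
    rw [← hq, Ideal.mem_comap] at h1
    have h2 : algebraMap B (Localization.AtPrime q) (algebraMap R B r) ∈ maximalIdeal (Localization.AtPrime q) := by
      rw [← Localization.AtPrime.map_eq_maximalIdeal]
      exact Ideal.mem_map_of_mem _ h1
    rw [← IsScalarTower.algebraMap_apply] at h2
    exact (mem_maximalIdeal _).mp h2 hr
  haveI : Algebra.FormallyUnramified B (Localization.AtPrime q) :=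
    Algebra.FormallyUnramified.of_isLocalization q.primeCompl
  haveI : Algebra.FormallyUnramified R (Localization.AtPrime q) :=
    Algebra.FormallyUnramified.comp R B _
  haveI : Algebra.EssFiniteType B (Localization.AtPrime q) := Algebra.EssFiniteType.of_isLocalization _ q.primeCompl
  haveI : Algebra.EssFiniteType R (Localization.AtPrime q) := Algebra.EssFiniteType.comp R B _
  have hmax := Algebra.FormallyUnramified.map_maximalIdeal (R := R) (S := Localization.AtPrime q)
  obtain ⟨ϖ, hϖ⟩ := IsDiscreteValuationRing.exists_irreducible R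
  have hm : maximalIdeal (Localization.AtPrime q) =
      Ideal.span {algebraMap R (Localization.AtPrime q) ϖ} := by
    rw [← hmax, hϖ.maximalIdeal_eq, Ideal.map_span, Set.image_singleton]
  haveI : Module.Flat B (Localization.AtPrime q) := IsLocalization.flat _ q.primeCompl
  haveI : Module.Flat R (Localization.AtPrime q) := Module.Flat.trans R B _
  have hreg : algebraMap R (Localization.AtPrime q) ϖ ∈ nonZeroDivisors (Localization.AtPrime q) := by
    have h0 : IsSMulRegular R ϖ := (IsRegular.of_ne_zero hϖ.ne_zero).left.isSMulRegular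
    have h1 : IsSMulRegular (Localization.AtPrime q) (algebraMap R (Localization.AtPrime q) ϖ) := h0.of_flat
    rw [mem_nonZeroDivisors_iff_right]
    intro z hz
    have : (algebraMap R (Localization.AtPrime q) ϖ) • z =
        (algebraMap R (Localization.AtPrime q) ϖ) • (0 : Localization.AtPrime q) := by
      rw [smul_eq_mul, mul_comm, hz, smul_zero]
    exact h1 this
  haveI hdom : IsDomain (Localization.AtPrime q) := isDomain_of_principal _ hreg hm
  have hdvr := isDVR_of_principal (algebraMap R (Localization.AtPrime q) ϖ) (nonZeroDivisors.ne_zero hreg) hm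
  refine ⟨hdom, hdvr, ?_, hloc⟩
  rw [injective_iff_map_eq_zero]
  intro r hr
  by_contra hr0
  have h0 : IsSMulRegular R r := (IsRegular.of_ne_zero hr0).left.isSMulRegular
  have h1 : IsSMulRegular (Localization.AtPrime q) (algebraMap R (Localization.AtPrime q) r) := h0.of_flat
  have : (algebraMap R (Localization.AtPrime q) r) • (1 : Localization.AtPrime q) =
      (algebraMap R (Localization.AtPrime q) r) • (0 : Localization.AtPrime q) := by
    rw [hr, smul_eq_mul, smul_eq_mul, zero_mul, mul_zero]
  exact one_ne_zero (h1 this)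

/-- Extension of a DVR along a finite separable extension of its fraction field. -/
theorem exists_extension {O : Type u} [CommRing O] [IsDomain O] [IsDiscreteValuationRing O]
    (F : Type u) [Field F] [Algebra O F] [IsFractionRing O F]
    (L : Type u) [Field L] [Algebra F L] [FiniteDimensional F L] [Algebra.IsSeparable F L] :
    ∃ (A : Type u) (_ : CommRing A) (_ : IsDomain A) (_ : IsDiscreteValuationRing A)
      (ι : O →+* A) (ψ : L →+* FractionRing A), IsLocalHom ι ∧ Function.Injective ι ∧
      ψ.comp ((algebraMap F L).comp (algebraMap O F)) = (algebraMap A (FractionRing A)).comp ι := by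
  letI : Algebra O L := ((algebraMap F L).comp (algebraMap O F)).toAlgebra
  haveI : IsScalarTower O F L := IsScalarTower.of_algebraMap_eq' rfl
  let D := integralClosure O L
  haveI : IsDedekindDomain D := integralClosure.isDedekindDomain O F L
  haveI : IsFractionRing D L := integralClosure.isFractionRing_of_finite_extension F L
  have hinj : Function.Injective (algebraMap O D) := by
    have h1 : Function.Injective (algebraMap O L) :=
      (algebraMap F L).injective.comp (IsFractionRing.injective O F)
    have h2 : algebraMap O L = (algebraMap D L).comp (algebraMap O D) := IsScalarTower.algebraMap_eq O D L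
    rw [h2] at h1
    exact Function.Injective.of_comp (f := algebraMap D L) h1
  haveI : FaithfulSMul O D := (faithfulSMul_iff_algebraMap_injective O D).mpr hinj
  obtain ⟨M, hM, hlo⟩ := Ideal.exists_maximal_ideal_liesOver_of_isIntegral (maximalIdeal O) (S := D)
  haveI := hM
  have hMbot : M ≠ ⊥ := by
    intro h
    have h1 : maximalIdeal O = M.comap (algebraMap O D) := hlo.over
    rw [h, ← RingHom.ker_eq_comap_bot, (RingHom.injective_iff_ker_eq_bot _).mp hinj] at h1
    exact IsDiscreteValuationRing.not_a_field O h1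
  haveI hdom : IsDomain (Localization.AtPrime M) :=
    IsLocalization.isDomain_localization (Ideal.primeCompl_le_nonZeroDivisors M)
  have hdvr : IsDiscreteValuationRing (Localization.AtPrime M) :=
    IsLocalization.AtPrime.isDiscreteValuationRing_of_dedekind_domain D hMbot _
  have hinjA : Function.Injective (algebraMap D (Localization.AtPrime M)) :=
    IsLocalization.injective _ (Ideal.primeCompl_le_nonZeroDivisors M)
  have hinjK : Function.Injective ((algebraMap (Localization.AtPrime M) (FractionRing (Localization.AtPrime M))).comp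
      (algebraMap D (Localization.AtPrime M))) :=
    (IsFractionRing.injective (Localization.AtPrime M) (FractionRing (Localization.AtPrime M))).comp hinjA
  refine ⟨Localization.AtPrime M, inferInstance, hdom, hdvr, (algebraMap D _).comp (algebraMap O D),
    IsFractionRing.lift hinjK, ?_, hinjA.comp hinj, ?_⟩
  · refine ⟨fun r hr => ?_⟩
    by_contra hr'
    have h1 : r ∈ maximalIdeal O := (mem_maximalIdeal r).mpr hr'
    have h2 : algebraMap O D r ∈ M := by
      have h3 : maximalIdeal O = M.comap (algebraMap O D) := hlo.over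
      rw [h3] at h1
      exact h1
    have h4 : algebraMap D (Localization.AtPrime M) (algebraMap O D r) ∈ maximalIdeal (Localization.AtPrime M) := by
      rw [← Localization.AtPrime.map_eq_maximalIdeal]
      exact Ideal.mem_map_of_mem _ h2
    exact (mem_maximalIdeal _).mp h4 hr
  · ext r
    have h5 : (algebraMap F L).comp (algebraMap O F) r = algebraMap D L (algebraMap O D r) := rfl
    rw [RingHom.comp_apply, h5, IsFractionRing.lift_algebraMap]
    rfl

/-- An étale morphism to `Spec R`, on an affine open, in ring form. -/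
theorem exists_ringHom {R : Type u} [CommRing R] {Y : Scheme.{u}} (g : Y ⟶ Spec (CommRingCat.of R)) [Etale g]
    {U : Y.Opens} (hU : IsAffineOpen U) :
    ∃ φ : R →+* Γ(Y, U), φ.Etale ∧ hU.fromSpec ≫ g = Spec.map (CommRingCat.ofHom φ) := by
  have h1 := g.etale_appLE (isAffineOpen_top _) hU le_top
  have h2 := IsAffineOpen.SpecMap_appLE_fromSpec g (isAffineOpen_top _) hU le_top
  refine ⟨((Scheme.ΓSpecIso (CommRingCat.of R)).inv ≫ g.appLE ⊤ U le_top).hom, ?_, ?_⟩
  · have := RingHom.Etale.respectsIso.2 (g.appLE ⊤ U le_top).hom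
      (Scheme.ΓSpecIso (CommRingCat.of R)).symm.commRingCatIsoToRingEquiv h1
    exact this
  · rw [← h2, IsAffineOpen.fromSpec_top, Scheme.isoSpec_Spec_inv]
    rw [← Spec.map_comp]
    rfl

/-- The local ring of an étale scheme over a DVR at a point over the closed point. -/
theorem exists_localRing {R : Type u} [CommRing R] [IsDomain R] [IsDiscreteValuationRing R]
    {V : Scheme.{u}} (v : V ⟶ Spec (CommRingCat.of R)) [Etale v] (x : V)
    (hx : v x = IsLocalRing.closedPoint R) :
    ∃ (O : Type u) (_ : CommRing O) (_ : IsDomain O) (_ : IsDiscreteValuationRing O) (j : R →+* O)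
      (o : Spec (CommRingCat.of O) ⟶ V), Function.Injective j ∧ IsLocalHom j ∧
      o ≫ v = Spec.map (CommRingCat.ofHom j) ∧ o (IsLocalRing.closedPoint O) = x := by
  obtain ⟨U, hU, hxU, -⟩ := exists_isAffineOpen_mem_and_subset (x := x) (U := ⊤) trivial
  obtain ⟨φ, hφ, hφv⟩ := exists_ringHom v hU
  letI : Algebra R Γ(V, U) := φ.toAlgebra
  haveI : Algebra.Etale R Γ(V, U) := hφ
  have hqx : hU.fromSpec (hU.primeIdealOf ⟨x, hxU⟩) = x := hU.fromSpec_primeIdealOf ⟨x, hxU⟩
  have hq : (hU.primeIdealOf ⟨x, hxU⟩).asIdeal.comap (algebraMap R Γ(V, U)) = maximalIdeal R := by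
    have h1 : (hU.fromSpec ≫ v) (hU.primeIdealOf ⟨x, hxU⟩) = IsLocalRing.closedPoint R := by
      rw [Scheme.Hom.comp_apply, hqx, hx]
    rw [hφv] at h1
    exact congrArg PrimeSpectrum.asIdeal h1
  obtain ⟨hdom, hdvr, hinj, hloc⟩ := isDVR_localization_of_etale (hU.primeIdealOf ⟨x, hxU⟩).asIdeal hq
  refine ⟨Localization.AtPrime (hU.primeIdealOf ⟨x, hxU⟩).asIdeal, inferInstance, hdom, hdvr,
    algebraMap R _, Spec.map (CommRingCat.ofHom (algebraMap Γ(V, U) _)) ≫ hU.fromSpec, hinj, hloc, ?_, ?_⟩
  · rw [Category.assoc, hφv, ← Spec.map_comp, ← CommRingCat.ofHom_comp]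
  · rw [Scheme.Hom.comp_apply]
    refine Eq.trans ?_ hqx
    congr 1
    apply PrimeSpectrum.ext
    exact Localization.AtPrime.under_maximalIdeal

/-- A nonempty étale scheme over a field has a point with values in a finite separable extension. -/
theorem exists_point {F : Type u} [Field F] {Z : Scheme.{u}} (g : Z ⟶ Spec (CommRingCat.of F)) [Etale g] (z : Z) :
    ∃ (L : Type u) (_ : Field L) (_ : Algebra F L) (_ : FiniteDimensional F L) (_ : Algebra.IsSeparable F L)
      (s : Spec (CommRingCat.of L) ⟶ Z), s ≫ g = Spec.map (CommRingCat.ofHom (algebraMap F L)) := by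
  obtain ⟨U', hU', hzU', -⟩ := exists_isAffineOpen_mem_and_subset (x := z) (U := ⊤) trivial
  obtain ⟨φ', hφ', hφ's⟩ := exists_ringHom g hU'
  letI : Algebra F Γ(Z, U') := φ'.toAlgebra
  haveI : Algebra.Etale F Γ(Z, U') := hφ'
  haveI : Nontrivial Γ(Z, U') := by
    have : Nonempty (PrimeSpectrum Γ(Z, U')) := ⟨hU'.primeIdealOf ⟨z, hzU'⟩⟩
    exact (PrimeSpectrum.nonempty_iff_nontrivial).mp this
  obtain ⟨I, hI, Ai, instF, instA, e, hfin⟩ :=
    (Algebra.Etale.iff_exists_algEquiv_prod F Γ(Z, U')).mp inferInstance
  haveI : Nonempty I := by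
    by_contra hne
    rw [not_nonempty_iff] at hne
    haveI : Subsingleton (Π i, Ai i) := ⟨fun a b => funext fun i => (hne.false i).elim⟩
    have := e.toEquiv.subsingleton
    exact not_subsingleton Γ(Z, U') this
  refine ⟨Ai (Classical.arbitrary I), instF _, instA _, (hfin _).1, (hfin _).2,
    Spec.map (CommRingCat.ofHom ((Pi.evalAlgHom F Ai (Classical.arbitrary I)).comp e.toAlgHom).toRingHom) ≫
      hU'.fromSpec, ?_⟩
  rw [Category.assoc, hφ's, ← Spec.map_comp, ← CommRingCat.ofHom_comp]
  congr 2
  exact ((Pi.evalAlgHom F Ai (Classical.arbitrary I)).comp e.toAlgHom).comp_algebraMap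

theorem surjective_flat {R A : Type u} [CommRing R] [IsDomain R] [IsDiscreteValuationRing R]
    [CommRing A] [IsDomain A] [IsLocalRing A] (j : R →+* A) (hj : Function.Injective j) (hl : IsLocalHom j) :
    Surjective (Spec.map (CommRingCat.ofHom j)) ∧ Flat (Spec.map (CommRingCat.ofHom j)) := by
  constructor
  · refine ⟨fun y => ?_⟩
    by_cases hy : y.asIdeal = ⊥
    · refine ⟨⟨⊥, Ideal.isPrime_bot⟩, ?_⟩
      apply PrimeSpectrum.ext
      rw [hy]
      exact (RingHom.injective_iff_ker_eq_bot j).mp hj
    · refine ⟨IsLocalRing.closedPoint A, ?_⟩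
      have h1 : (Spec.map (CommRingCat.ofHom j)) (IsLocalRing.closedPoint A) = IsLocalRing.closedPoint R :=
        IsLocalRing.comap_closedPoint j
      refine h1.trans ?_
      apply PrimeSpectrum.ext
      exact ((IsLocalRing.eq_maximalIdeal (y.isPrime.isMaximal hy)).symm)
  · rw [Flat.SpecMap_iff]
    letI : Algebra R A := j.toAlgebra
    change Module.Flat R A
    haveI : FaithfulSMul R A := (faithfulSMul_iff_algebraMap_injective R A).mpr hj
    infer_instance

theorem exists_lift {R K F : Type u} [CommRing R] [IsDomain R] [Field K] [Algebra R K] [IsFractionRing R K]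
    [Field F] (g : R →+* F) (hg : Function.Injective g) :
    ∃ κ : K →+* F, κ.comp (algebraMap R K) = g :=
  ⟨IsFractionRing.lift hg, RingHom.ext fun r => IsFractionRing.lift_algebraMap hg r⟩

/-- (S3226-EXT) extension of discrete valuation rings through étale covers -/
theorem exists_dvr {R : Type u} [CommRing R] [IsDomain R] [IsDiscreteValuationRing R]
    {V W : Scheme.{u}} (v : V ⟶ Spec (CommRingCat.of R)) [Etale v] (x : V)
    (hx : v x = IsLocalRing.closedPoint R)
    (w : W ⟶ pullback v (Spec.map (CommRingCat.ofHom (algebraMap R (FractionRing R))))) [Etale w] [Surjective w] :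
    ∃ (A : Type u) (_ : CommRing A) (_ : IsDomain A) (_ : IsDiscreteValuationRing A)
      (a : Spec (CommRingCat.of A) ⟶ V)
      (b : Spec (CommRingCat.of (FractionRing A)) ⟶ W),
      a (IsLocalRing.closedPoint A) = x ∧
      b ≫ w ≫ pullback.fst _ _ = Spec.map (CommRingCat.ofHom (algebraMap A (FractionRing A))) ≫ a ∧
      Surjective (a ≫ v) ∧ Flat (a ≫ v) := by
  obtain ⟨O, iO, dO, vO, j, o, hj, hjl, hov, hox⟩ := exists_localRing v x hx
  have hRF : Function.Injective ((algebraMap O (FractionRing O)).comp j) :=
    (IsFractionRing.injective O (FractionRing O)).comp hj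
  obtain ⟨κ, hκ⟩ : ∃ κ : FractionRing R →+* FractionRing O,
      κ.comp (algebraMap R (FractionRing R)) = (algebraMap O (FractionRing O)).comp j :=
    exists_lift _ hRF
  obtain ⟨p, hp⟩ : ∃ p : Spec (CommRingCat.of (FractionRing O)) ⟶
      pullback v (Spec.map (CommRingCat.ofHom (algebraMap R (FractionRing R)))),
      p ≫ pullback.fst _ _ = Spec.map (CommRingCat.ofHom (algebraMap O (FractionRing O))) ≫ o := by
    refine ⟨pullback.lift (Spec.map (CommRingCat.ofHom (algebraMap O (FractionRing O))) ≫ o)
      (Spec.map (CommRingCat.ofHom κ)) ?_, pullback.lift_fst _ _ _⟩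
    rw [Category.assoc, hov, ← Spec.map_comp, ← Spec.map_comp, ← CommRingCat.ofHom_comp,
      ← CommRingCat.ofHom_comp, hκ]
  obtain ⟨z, -⟩ := (pullback.snd w p).surjective (IsLocalRing.closedPoint (FractionRing O))
  obtain ⟨L, iL, aL, fL, sL, s, hs⟩ := exists_point (pullback.snd w p) z
  obtain ⟨A, iA, dA, vA, ι, ψ, hιloc, hιinj, hψ⟩ := exists_extension (O := O) (FractionRing O) L
  refine ⟨A, iA, dA, vA, Spec.map (CommRingCat.ofHom ι) ≫ o,
    Spec.map (CommRingCat.ofHom ψ) ≫ s ≫ pullback.fst w p, ?_, ?_, ?_⟩
  · rw [Scheme.Hom.comp_apply]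
    have : (Spec.map (CommRingCat.ofHom ι)) (IsLocalRing.closedPoint A) = IsLocalRing.closedPoint O :=
      IsLocalRing.comap_closedPoint ι
    rw [this, hox]
  · have h1 : s ≫ pullback.fst w p ≫ w = (s ≫ pullback.snd w p) ≫ p := by
      rw [Category.assoc, pullback.condition]
    calc (Spec.map (CommRingCat.ofHom ψ) ≫ s ≫ pullback.fst w p) ≫ w ≫ pullback.fst _ _
        = Spec.map (CommRingCat.ofHom ψ) ≫ (s ≫ pullback.fst w p ≫ w) ≫ pullback.fst _ _ := by
          simp only [Category.assoc]
      _ = Spec.map (CommRingCat.ofHom ψ) ≫ Spec.map (CommRingCat.ofHom (algebraMap (FractionRing O) L)) ≫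
            Spec.map (CommRingCat.ofHom (algebraMap O (FractionRing O))) ≫ o := by
          rw [h1, hs, Category.assoc, hp]
      _ = Spec.map (CommRingCat.ofHom (algebraMap A (FractionRing A))) ≫
            Spec.map (CommRingCat.ofHom ι) ≫ o := by
          rw [← Spec.map_comp_assoc, ← Spec.map_comp_assoc, ← Spec.map_comp_assoc,
            ← CommRingCat.ofHom_comp, ← CommRingCat.ofHom_comp, ← CommRingCat.ofHom_comp, ← hψ]
  · have h2 : (Spec.map (CommRingCat.ofHom ι) ≫ o) ≫ v = Spec.map (CommRingCat.ofHom (ι.comp j)) := by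
      rw [Category.assoc, hov, ← Spec.map_comp, ← CommRingCat.ofHom_comp]
    rw [h2]
    exact surjective_flat (ι.comp j) (hιinj.comp hj) (RingHom.isLocalHom_comp _ _)

end Groth.Agent.Pi1A.PicExtDvr
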