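import Groth.Agent.Pi1A.ExtNhdLocal
import Groth.Agent.FlatA.GlueTwo

/-!
# Extending a finite étale cover over a neighbourhood of a point

`X` locally Noetherian, `U` open, `V` finite étale over `U`, `x : X`. If the restriction of `V` to
`U ×_X Spec 𝒪_{X,x}` extends to a finite étale cover of `Spec 𝒪_{X,x}`, then `V` extends to a finite
étale cover of an open `U' ⊇ U` containing `x`.
-/

set_option autoImplicit false
set_option linter.style.haveILetI false

universe u

open AlgebraicGeometry CategoryTheory Limits TopologicalSpace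

namespace Groth.Agent.Pi1A.ExtNhd

open IsoAway QAffGlue FEtFormalGlue SpreadFEt ExtNhdAux ExtNhdLocal

lemma isPullback_of_mono {C : Type*} [Category C] {P X Y Z W : C} {p : P ⟶ X} {q : P ⟶ Y}
    {a : X ⟶ Z} {b : Y ⟶ Z} (i : Z ⟶ W) [Mono i] (h : IsPullback p q (a ≫ i) (b ≫ i)) :
    IsPullback p q a b := by
  refine ⟨⟨?_⟩, ⟨PullbackCone.IsLimit.mk _ (fun s => h.lift s.fst s.snd ?_) ?_ ?_ ?_⟩⟩
  · rw [← cancel_mono i, Category.assoc, Category.assoc, h.w]
  · rw [← Category.assoc, s.condition, Category.assoc]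
  · intro s
    exact h.lift_fst _ _ _
  · intro s
    exact h.lift_snd _ _ _
  · intro s m h1 h2
    apply h.hom_ext
    · rw [h1, h.lift_fst]
    · rw [h2, h.lift_snd]

lemma isLocalization_toAlgebra {R S : Type*} [CommRing R] [CommRing S] (f : R)
    [alg : Algebra R S] [h : IsLocalization.Away f S] :
    @IsLocalization.Away R _ f S _ (algebraMap R S).toAlgebra := by
  have e : (algebraMap R S).toAlgebra = alg := Algebra.algebra_ext _ _ (fun r => rfl)
  rw [e]
  exact h

theorem exists_nhd_aux {X : Scheme.{u}} [IsLocallyNoetherian X] (U : X.Opens) (V : FEt.Cat (U : Scheme.{u}))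
    (x : X) {Y' V' : Scheme.{u}} (y' : Y' ⟶ Spec (X.presheaf.stalk x)) [IsFinite y'] [Etale y']
    (w : V.left ⟶ U) (hw : V.hom = w)
    (g' : V' ⟶ V.left) (v' : V' ⟶ Spec (X.presheaf.stalk x))
    (hV' : IsPullback g' v' (w ≫ U.ι) (X.fromSpecStalk x)) (ψ : V' ⟶ Y') [IsOpenImmersion ψ]
    (hψ : ψ ≫ y' = v') (hr : y' ⁻¹ᵁ ((X.fromSpecStalk x) ⁻¹ᵁ U) ≤ ψ.opensRange) :
    ∃ (U' : X.Opens) (hUU' : U ≤ U') (V' : FEt.Cat (U' : Scheme.{u})), x ∈ U' ∧
      Nonempty ((FEt.restrict (X.homOfLE hUU')).obj V' ≅ V) := by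
  obtain ⟨W, hW, hxW, -⟩ := exists_isAffineOpen_mem_and_subset (X := X) (x := x) (U := ⊤) trivial
  have hR : IsNoetherianRing Γ(X, W) := IsLocallyNoetherian.component_noetherian ⟨W, hW⟩
  have hVf : IsFinite w := hw ▸ V.prop.1
  have hVe : Etale w := hw ▸ V.prop.2
  have hfs : X.fromSpecStalk x = Spec.map (X.presheaf.germ W x hxW) ≫ hW.fromSpec :=
    (hW.fromSpecStalk_eq_fromSpecStalk hxW).symm
  have hloc : letI := (X.presheaf.germ W x hxW).hom.toAlgebra
      IsLocalization (hW.primeIdealOf ⟨x, hxW⟩).asIdeal.primeCompl (X.presheaf.stalk x) :=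
    hW.isLocalization_stalk ⟨x, hxW⟩
  rw [hfs] at hV' hr
  -- the local step
  obtain ⟨f, hf, key⟩ := exists_local hW.fromSpec (X.presheaf.germ W x hxW) _ hloc U w y' _ v'
    hV' ψ hψ hr
  obtain ⟨B, β, hβ1, hβ2, q, hq⟩ := key
    (CommRingCat.ofHom (algebraMap Γ(X, W) (Localization.Away f)))
    (isLocalization_toAlgebra f)
  set ρ := CommRingCat.ofHom (algebraMap Γ(X, W) (Localization.Away f)) with hρ
  have hρo : IsOpenImmersion (Spec.map ρ) := by
    rw [hρ]
    infer_instance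
  set t : Spec (CommRingCat.of (Localization.Away f)) ⟶ X := Spec.map ρ ≫ hW.fromSpec with ht
  have hxt : x ∈ t.opensRange := by
    have h1 : hW.primeIdealOf ⟨x, hxW⟩ ∈ Set.range (Spec.map ρ) := by
      have h2 := PrimeSpectrum.localization_away_comap_range (Localization.Away f) f
      have h3 : hW.primeIdealOf ⟨x, hxW⟩ ∈
        (PrimeSpectrum.basicOpen f : Set (PrimeSpectrum Γ(X, W))) := hf
      rw [← h2] at h3
      exact h3
    obtain ⟨z, hz⟩ := h1
    refine ⟨z, ?_⟩
    change (Spec.map ρ ≫ hW.fromSpec) z = x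
    rw [Scheme.Hom.comp_apply, hz]
    exact hW.fromSpec_primeIdealOf ⟨x, hxW⟩
  let U' : X.Opens := U ⊔ t.opensRange
  have hUU' : U ≤ U' := le_sup_left
  let b : Spec (CommRingCat.of (Localization.Away f)) ⟶ U' :=
    IsOpenImmersion.lift U'.ι t (by
      rw [Scheme.Opens.range_ι]
      exact (le_sup_right : t.opensRange ≤ U'))
  have hb : b ≫ U'.ι = t := IsOpenImmersion.lift_fac _ _ _
  have hbo : IsOpenImmersion b := by
    have : IsOpenImmersion (b ≫ U'.ι) := by rw [hb]; infer_instance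
    exact IsOpenImmersion.of_comp b U'.ι
  have hE : IsPullback (t ∣_ U) (t ⁻¹ᵁ U).ι (X.homOfLE hUU') b := by
    refine isPullback_of_mono U'.ι ?_
    rw [hb, Scheme.homOfLE_ι]
    exact isPullback_morphismRestrict t U
  obtain ⟨Y, π, i₁, i₂, -, -, hp1, hp2, -, -⟩ := FlatA.GlueTwo.exists_glued hE
    (isPullback_wT w t) hq.flip
  have hcov : ∀ z : U', z ∈ Set.range (X.homOfLE hUU') ∨ z ∈ Set.range b := by
    intro z
    rcases z.2 with h | h
    · exact Or.inl ⟨⟨z.1, h⟩, Subtype.ext (by simp)⟩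
    · obtain ⟨y, hy⟩ := h
      refine Or.inr ⟨y, Subtype.ext ?_⟩
      change U'.ι (b y) = z.1
      rw [← Scheme.Hom.comp_apply, hb]
      exact hy
  have : IsFinite (Spec.map β) := (IsFinite.SpecMap_iff β).2 hβ1
  have : Etale (Spec.map β) := (HasRingHomProperty.Spec_iff (P := @Etale)).2 hβ2
  have hπ1 : IsFinite π := FlatA.GlueTwo.of_isPullback_pair @IsFinite hcov hp1 hp2 hVf inferInstance
  have hπ2 : Etale π := FlatA.GlueTwo.of_isPullback_pair @Etale hcov hp1 hp2 hVe inferInstance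
  refine ⟨U', hUU', MorphismProperty.Over.mk _ π ⟨hπ1, hπ2⟩, Or.inr hxt, ?_⟩
  subst hw
  exact nonempty_iso_of_isPullback (X.homOfLE hUU') _ V i₁ hp1.flip

theorem exists_extension_nhd {X : Scheme.{u}} [IsLocallyNoetherian X] (U : X.Opens)
    (V : FEt.Cat (U : Scheme.{u})) (x : X) (Yx : FEt.Cat (Spec (X.presheaf.stalk x)))
    (e : (FEt.restrict (pullback.snd U.ι (X.fromSpecStalk x))).obj Yx ≅
      (FEt.restrict (pullback.fst U.ι (X.fromSpecStalk x))).obj V) :
    ∃ (U' : X.Opens) (hUU' : U ≤ U') (V' : FEt.Cat (U' : Scheme.{u})), x ∈ U' ∧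
      Nonempty ((FEt.restrict (X.homOfLE hUU')).obj V' ≅ V) := by
  let w : V.left ⟶ U := V.hom
  let y' : Yx.left ⟶ Spec (X.presheaf.stalk x) := Yx.hom
  have hYf : IsFinite y' := Yx.prop.1
  have hYe : Etale y' := Yx.prop.2
  -- the comparison over the local ring
  let V' : Scheme.{u} := pullback w (pullback.fst U.ι (X.fromSpecStalk x))
  let v' : V' ⟶ Spec (X.presheaf.stalk x) := pullback.snd w (pullback.fst U.ι (X.fromSpecStalk x)) ≫
    pullback.snd U.ι (X.fromSpecStalk x)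
  have hV' : IsPullback (pullback.fst w (pullback.fst U.ι (X.fromSpecStalk x))) v' (w ≫ U.ι)
      (X.fromSpecStalk x) :=
    ((IsPullback.of_hasPullback w (pullback.fst U.ι (X.fromSpecStalk x))).flip.paste_horiz
      (IsPullback.of_hasPullback U.ι (X.fromSpecStalk x)).flip).flip
  let e' : V' ⟶ pullback y' (pullback.snd U.ι (X.fromSpecStalk x)) := e.inv.left
  have he' : IsIso e' :=
    inferInstanceAs (IsIso ((MorphismProperty.Over.forget _ _ _ ⋙ Over.forget _).map e.inv))
  have he'' : e' ≫ pullback.snd y' (pullback.snd U.ι (X.fromSpecStalk x)) =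
      pullback.snd w (pullback.fst U.ι (X.fromSpecStalk x)) :=
    MorphismProperty.Over.w e.inv
  let ψ : V' ⟶ Yx.left := e' ≫ pullback.fst y' (pullback.snd U.ι (X.fromSpecStalk x))
  have hψ : ψ ≫ y' = v' := by
    simp only [ψ, v', Category.assoc, pullback.condition]
    rw [reassoc_of% he'']
  have hr : y' ⁻¹ᵁ ((X.fromSpecStalk x) ⁻¹ᵁ U) ≤ ψ.opensRange := by
    intro z hz
    have h1 : y' z ∈ Set.range (pullback.snd U.ι (X.fromSpecStalk x)) := by
      rw [Scheme.Pullback.range_snd]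
      simpa using hz
    have h2 : z ∈ Set.range (pullback.fst y' (pullback.snd U.ι (X.fromSpecStalk x))) := by
      rw [Scheme.Pullback.range_fst]
      exact h1
    obtain ⟨z', rfl⟩ := h2
    obtain ⟨z'', rfl⟩ := e'.surjective z'
    exact ⟨z'', by simp [ψ]⟩
  exact exists_nhd_aux U V x y' w rfl _ v' hV' ψ hψ hr

end Groth.Agent.Pi1A.ExtNhd
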