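import Groth.Agent.Pi1A.RegPair
import Mathlib.RingTheory.Unramified.Finite
import Mathlib.RingTheory.Smooth.Fiber
import Mathlib.RingTheory.Etale.Basic

/-!
# Purity for flat algebras

If `(u, v)` is a regular pair in `A`, `S` is a flat (finite type) `A`-algebra which is unramified
over `D(u)` and `D(v)`, then `S` is unramified over `A`. The proof glues the separability
idempotents.
-/

open TensorProduct

namespace Groth.Agent.Pi1A.Purity

variable {A S : Type*} [CommRing A] [CommRing S] [Algebra A S]

theorem exists_elem_of_away (u : A) (hu : ∀ a : A, u * a = 0 → a = 0) [Module.Flat A S]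
    (L : Type*) [CommRing L] [Algebra A L] [Algebra S L] [IsScalarTower A S L]
    [IsLocalization.Away (algebraMap A S u) L]
    (t : L ⊗[A] L) (ht : ∀ s, ((1 : L) ⊗ₜ[A] s - s ⊗ₜ[A] (1 : L)) * t = 0)
    (ht1 : Algebra.TensorProduct.lmul' A t = 1) :
    ∃ (n : ℕ) (p : S ⊗[A] S), (∀ s, ((1 : S) ⊗ₜ[A] s - s ⊗ₜ[A] (1 : S)) * p = 0) ∧
      Algebra.TensorProduct.lmul' A p = algebraMap A S (u ^ n) := by
  let j1 : S →ₐ[A] L := IsScalarTower.toAlgHom A S L
  let j : S ⊗[A] S →ₐ[A] L ⊗[A] L := Algebra.TensorProduct.map j1 j1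
  have hur : IsSMulRegular A u := fun a b hab => by
    have := hu (a - b) (by
      simp only [smul_eq_mul] at hab
      rw [mul_sub, hab, sub_self])
    exact sub_eq_zero.mp this
  have hflatL : Module.Flat A L := by
    have : Module.Flat S L := IsLocalization.flat L (Submonoid.powers (algebraMap A S u))
    exact Module.Flat.trans A S L
  have hS : IsSMulRegular S u := by
    have := hur.lTensor S
    exact ((TensorProduct.rid A S).isSMulRegular_congr u).mp this
  have hj1 : Function.Injective j1 := by
    change Function.Injective (algebraMap S L)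
    rw [IsLocalization.injective_iff_isRegular (Submonoid.powers (algebraMap A S u))]
    rintro ⟨_, n, rfl⟩
    have h2 : ∀ a b : S, algebraMap A S u ^ n * a = algebraMap A S u ^ n * b → a = b := by
      intro a b hab
      apply hS.pow n
      simpa [Algebra.smul_def] using hab
    exact (Commute.isRegular_iff (fun b => Commute.all _ b)).mpr h2
  have hj : Function.Injective j :=
    TensorProduct.map_injective_of_flat_flat j1.toLinearMap j1.toLinearMap hj1 hj1
  have key : ∀ t : L ⊗[A] L, ∃ (n : ℕ) (p : S ⊗[A] S), j p = u ^ n • t := by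
    intro t
    induction t using TensorProduct.induction_on with
    | zero => exact ⟨0, 0, by simp⟩
    | tmul a b =>
      obtain ⟨n, a', ha'⟩ := IsLocalization.Away.surj (algebraMap A S u) a
      obtain ⟨m, b', hb'⟩ := IsLocalization.Away.surj (algebraMap A S u) b
      refine ⟨n + m, a' ⊗ₜ b', ?_⟩
      have e1 : algebraMap S L a' = u ^ n • a := by
        rw [← ha', mul_comm, Algebra.smul_def, map_pow, IsScalarTower.algebraMap_apply A S L]
      have e2 : algebraMap S L b' = u ^ m • b := by
        rw [← hb', mul_comm, Algebra.smul_def, map_pow, IsScalarTower.algebraMap_apply A S L]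
      change (algebraMap S L a') ⊗ₜ[A] (algebraMap S L b') = _
      rw [e1, e2, TensorProduct.smul_tmul_smul, pow_add]
    | add a b ha hb =>
      obtain ⟨n, p, hp⟩ := ha
      obtain ⟨m, q, hq⟩ := hb
      refine ⟨n + m, u ^ m • p + u ^ n • q, ?_⟩
      rw [map_add, map_smul, map_smul, hp, hq, smul_add, smul_smul, smul_smul, pow_add,
        mul_comm (u ^ m)]
  obtain ⟨n, p, hp⟩ := key t
  refine ⟨n, p, fun s => ?_, ?_⟩
  · apply hj
    rw [map_zero, map_mul, map_sub, hp, Algebra.TensorProduct.map_tmul,
      Algebra.TensorProduct.map_tmul, map_one, mul_smul_comm, ht, smul_zero]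
  · apply hj1
    have h3 : j1.comp (Algebra.TensorProduct.lmul' A) =
        (Algebra.TensorProduct.lmul' A).comp j := by
      ext <;> simp [j]
    have h4 : j1 (Algebra.TensorProduct.lmul' A p) = Algebra.TensorProduct.lmul' A (j p) :=
      DFunLike.congr_fun h3 p
    rw [h4, hp, map_smul, ht1, Algebra.smul_def, mul_one]
    exact (IsScalarTower.algebraMap_apply A S L _)

theorem mul_eq_of_annihilates {t p : S ⊗[A] S}
    (hp : ∀ s, ((1 : S) ⊗ₜ[A] s - s ⊗ₜ[A] (1 : S)) * p = 0) :
    t * p = (Algebra.TensorProduct.lmul' A t) ⊗ₜ[A] (1 : S) * p := by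
  have h1 : ∀ s, ((1 : S) ⊗ₜ[A] s) * p = (s ⊗ₜ[A] (1 : S)) * p := fun s => by
    have := hp s
    rwa [sub_mul, sub_eq_zero] at this
  induction t using TensorProduct.induction_on with
  | zero => simp
  | tmul a b =>
    have : a ⊗ₜ[A] b = (a ⊗ₜ[A] (1 : S)) * ((1 : S) ⊗ₜ[A] b) := by simp
    rw [this, mul_assoc, h1, ← mul_assoc]
    simp
  | add a b ha hb => rw [add_mul, ha, hb, map_add, TensorProduct.add_tmul, add_mul]

/-- A flat algebra of finite type which is unramified over `D(u) ∪ D(v)`, with `(u, v)` a regular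
pair, is unramified. -/
theorem formallyUnramified_of_regPair {u v : A} (h : RegPair u v A)
    (hv : ∀ a : A, v * a = 0 → a = 0) [Module.Flat A S] [Algebra.EssFiniteType A S]
    (Lu Lv : Type*) [CommRing Lu] [Algebra A Lu] [Algebra S Lu] [IsScalarTower A S Lu]
    [IsLocalization.Away (algebraMap A S u) Lu]
    [CommRing Lv] [Algebra A Lv] [Algebra S Lv] [IsScalarTower A S Lv]
    [IsLocalization.Away (algebraMap A S v) Lv]
    [Algebra.FormallyUnramified A Lu] [Algebra.FormallyUnramified A Lv] :
    Algebra.FormallyUnramified A S := by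
  have : Algebra.EssFiniteType A Lu := by
    have : Algebra.EssFiniteType S Lu :=
      Algebra.EssFiniteType.of_isLocalization Lu (Submonoid.powers (algebraMap A S u))
    exact Algebra.EssFiniteType.comp A S Lu
  have : Algebra.EssFiniteType A Lv := by
    have : Algebra.EssFiniteType S Lv :=
      Algebra.EssFiniteType.of_isLocalization Lv (Submonoid.powers (algebraMap A S v))
    exact Algebra.EssFiniteType.comp A S Lv
  obtain ⟨t, ht, ht1⟩ := Algebra.FormallyUnramified.iff_exists_tensorProduct.mp
    (inferInstance : Algebra.FormallyUnramified A Lu)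
  obtain ⟨t', ht', ht1'⟩ := Algebra.FormallyUnramified.iff_exists_tensorProduct.mp
    (inferInstance : Algebra.FormallyUnramified A Lv)
  obtain ⟨n, p, hp, hp1⟩ := exists_elem_of_away (S := S) u h.reg Lu t ht ht1
  obtain ⟨m, q, hq, hq1⟩ := exists_elem_of_away (S := S) v hv Lv t' ht' ht1'
  have hT : RegPair u v (S ⊗[A] S) := h.of_flat _
  have hS : RegPair u v S := h.of_flat _
  have hpq : v ^ m • p = u ^ n • q := by
    have e1 := mul_eq_of_annihilates (t := q) hp
    have e2 := mul_eq_of_annihilates (t := p) hq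
    rw [hq1, Algebra.algebraMap_eq_smul_one, ← TensorProduct.smul_tmul',
      smul_mul_assoc, ← Algebra.TensorProduct.one_def, one_mul] at e1
    rw [hp1, Algebra.algebraMap_eq_smul_one, ← TensorProduct.smul_tmul',
      smul_mul_assoc, ← Algebra.TensorProduct.one_def, one_mul] at e2
    rw [← e1, ← e2, mul_comm]
  obtain ⟨e, he1, he2⟩ := hT.glue n m hpq
  rw [Algebra.FormallyUnramified.iff_exists_tensorProduct]
  refine ⟨e, fun s => ?_, ?_⟩
  · apply hT.pow_reg n
    rw [← mul_smul_comm, ← he1, hp]
  · apply hS.pow_inj n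
    rw [← map_smul, ← he1, hp1, Algebra.algebraMap_eq_smul_one]

/-- A flat finitely presented algebra which is étale over `D(u) ∪ D(v)`, with `(u, v)` a regular
pair, is étale. -/
theorem etale_of_regPair {u v : A} (h : RegPair u v A)
    (hv : ∀ a : A, v * a = 0 → a = 0) [Module.Flat A S] [Algebra.FinitePresentation A S]
    (Lu Lv : Type*) [CommRing Lu] [Algebra A Lu] [Algebra S Lu] [IsScalarTower A S Lu]
    [IsLocalization.Away (algebraMap A S u) Lu]
    [CommRing Lv] [Algebra A Lv] [Algebra S Lv] [IsScalarTower A S Lv]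
    [IsLocalization.Away (algebraMap A S v) Lv]
    [Algebra.FormallyUnramified A Lu] [Algebra.FormallyUnramified A Lv] :
    Algebra.Etale A S := by
  have := formallyUnramified_of_regPair (S := S) h hv Lu Lv
  exact Algebra.Etale.of_formallyUnramified_of_flat

end Groth.Agent.Pi1A.Purity
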