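import Groth.Agent.Pi1A.HomGlue
import Groth.Agent.Pi1A.EtaleGlue
import Mathlib.RingTheory.Flat.EquationalCriterion
import Mathlib.RingTheory.Localization.Module
import Mathlib.Algebra.Module.LocalizedModule.Basic
import Mathlib.RingTheory.Noetherian.Basic

/-!
# Sections over the punctured spectrum, algebraically

`hull m x B` is the `A`-algebra of elements `z` of `B_x` such that for every `a ∈ m` some
`a ^ n • z` comes from `B`. When `B` is flat over the complement of `V(m)`, `x ∈ m` is a
nonzerodivisor and `(x, u)` is a regular pair in `m`, this is the algebra of sections of `B` over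
the complement of `V(m)`.
-/

namespace Groth.Agent.Pi1A.Purity

variable {A : Type*} [CommRing A]

/-- The algebra of sections of `B` over the complement of `V(m)`, inside `B_x`. -/
def hull (m : Ideal A) (x : A) (B : Type*) [CommRing B] [Algebra A B] :
    Subalgebra A (Loc x B) where
  carrier := {z | ∀ a ∈ m, ∃ (n : ℕ) (b : B), a ^ n • z = algebraMap B (Loc x B) b}
  mul_mem' := by
    intro z w hz hw a ha
    obtain ⟨n, b, hb⟩ := hz a ha
    obtain ⟨k, c, hc⟩ := hw a ha
    refine ⟨n + k, b * c, ?_⟩
    rw [map_mul, ← hb, ← hc, smul_mul_smul_comm, pow_add]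
  add_mem' := by
    intro z w hz hw a ha
    obtain ⟨n, b, hb⟩ := hz a ha
    obtain ⟨k, c, hc⟩ := hw a ha
    refine ⟨n + k, a ^ k • b + a ^ n • c, ?_⟩
    have h1 : ∀ (l : ℕ) (t : B), algebraMap B (Loc x B) (a ^ l • t) =
        a ^ l • algebraMap B (Loc x B) t := fun l t =>
      (IsScalarTower.toAlgHom A B (Loc x B)).map_smul_of_tower _ _
    rw [map_add, h1, h1, ← hb, ← hc, smul_add, smul_smul, smul_smul, pow_add, mul_comm (a ^ n)]
  algebraMap_mem' := by
    intro r a _
    exact ⟨0, algebraMap A B r, by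
      rw [pow_zero, one_smul, ← IsScalarTower.algebraMap_apply A B (Loc x B)]⟩

variable (m : Ideal A) (x : A) (B : Type*) [CommRing B] [Algebra A B]

theorem algebraMap_loc_smul' (a b : A) (e : B) :
    algebraMap B (Loc a B) (b • e) = b • algebraMap B (Loc a B) e :=
  (IsScalarTower.toAlgHom A B (Loc a B)).map_smul_of_tower _ _

/-- The map `B → hull m x B`. -/
noncomputable def toHull : B →ₐ[A] hull m x B :=
  (IsScalarTower.toAlgHom A B (Loc x B)).codRestrict (hull m x B) (fun b a _ =>
    ⟨0, b, by simp⟩)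

theorem coe_toHull (b : B) : (toHull m x B b : Loc x B) = algebraMap B (Loc x B) b := rfl

variable {m x B}

theorem exists_toHull_eq (z : hull m x B) {a : A} (ha : a ∈ m) :
    ∃ (n : ℕ) (b : B), toHull m x B b = a ^ n • z := by
  obtain ⟨n, b, hb⟩ := z.2 a ha
  exact ⟨n, b, Subtype.ext (by rw [coe_toHull, ← hb]; rfl)⟩

theorem exists_pow_smul_eq_zero_of_toHull_eq_zero (b : B) (hb : toHull m x B b = 0) :
    ∃ n : ℕ, x ^ n • b = 0 := by
  have h1 : algebraMap B (Loc x B) b = algebraMap B (Loc x B) 0 := by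
    rw [map_zero]
    exact congrArg Subtype.val hb
  obtain ⟨n, hn⟩ := exists_smul_eq_of_eq x h1
  exact ⟨n, by rw [hn, smul_zero]⟩

theorem hull_reg (z : hull m x B) (hz : x • z = 0) : z = 0 := by
  apply Subtype.ext
  have h1 : x • (z : Loc x B) = 0 := congrArg Subtype.val hz
  rw [Algebra.smul_def] at h1
  exact (isUnit_loc x B).mul_right_eq_zero.mp h1

/-- If `x` is a nonzerodivisor on the flat `A`-module `B_a`, then `x`-power torsion of `B` dies in
`B_a`. -/
theorem exists_pow_smul_eq_zero {a : A} (hx : ∀ c : Loc a B, x • c = 0 → c = 0) (b : B)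
    {n : ℕ} (hb : x ^ n • b = 0) : ∃ k : ℕ, a ^ k • b = 0 := by
  have h1 : algebraMap B (Loc a B) b = 0 := by
    induction n generalizing b with
    | zero => rw [pow_zero, one_smul] at hb; rw [hb, map_zero]
    | succ n ih =>
      rw [pow_succ, mul_smul] at hb
      apply hx
      rw [← algebraMap_loc_smul']
      exact ih _ hb
  obtain ⟨k, hk⟩ := exists_smul_eq_of_eq (e := b) (e' := 0) a (by rw [h1, map_zero])
  exact ⟨k, by rw [hk, smul_zero]⟩

/-- `toHull` becomes injective after inverting `a ∈ m`. -/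
theorem toHull_injective_away {a : A} (hx : ∀ c : Loc a B, x • c = 0 → c = 0) (b : B)
    (hb : toHull m x B b = 0) : ∃ k : ℕ, a ^ k • b = 0 := by
  obtain ⟨n, hn⟩ := exists_pow_smul_eq_zero_of_toHull_eq_zero b hb
  exact exists_pow_smul_eq_zero hx b hn

theorem locMap_toHull_bijective {a : A} (ha : a ∈ m) (hx : ∀ c : Loc a B, x • c = 0 → c = 0) :
    Function.Bijective (locMap a (toHull m x B)) := by
  constructor
  · rw [injective_iff_map_eq_zero]
    intro z hz
    obtain ⟨n, b, hb⟩ := exists_smul_eq a z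
    have h1 : algebraMap (hull m x B) (Loc a (hull m x B)) (toHull m x B b) =
        algebraMap (hull m x B) (Loc a (hull m x B)) 0 := by
      rw [← locMap_algebraMap, ← hb, map_smul, hz, smul_zero, map_zero]
    obtain ⟨k, hk⟩ := exists_smul_eq_of_eq a h1
    rw [smul_zero, ← map_smul] at hk
    obtain ⟨l, hl⟩ := toHull_injective_away hx _ hk
    apply smul_cancel a (l + k + n)
    rw [smul_zero, pow_add, mul_smul, hb, ← algebraMap_loc_smul', pow_add, mul_smul, hl, map_zero]
  · intro z
    obtain ⟨n, s, hs⟩ := exists_smul_eq a z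
    obtain ⟨k, b, hb⟩ := exists_toHull_eq s ha
    obtain ⟨w, hw⟩ := ((isUnit_loc a B).pow (k + n)).exists_right_inv
    refine ⟨w * algebraMap B _ b, ?_⟩
    apply smul_cancel a (k + n)
    rw [← map_smul, Algebra.smul_def, map_pow, ← mul_assoc, hw, one_mul, locMap_algebraMap, hb,
      algebraMap_loc_smul', ← hs, smul_smul, pow_add]

/-- `(x, u)` is regular on the hull. -/
theorem regPair_hull {u : A} (h : ∀ a ∈ m, RegPair x u (Loc a B)) : RegPair x u (hull m x B) where
  reg := hull_reg
  reg' := by
    intro s t hst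
    obtain ⟨w, hw⟩ := (isUnit_loc x B).exists_left_inv
    have hst' : u • (s : Loc x B) = x • (t : Loc x B) := congrArg Subtype.val hst
    have hxw : ∀ y : Loc x B, x • (w * y) = y := fun y => by
      rw [Algebra.smul_def, ← mul_assoc, mul_comm _ w, hw, one_mul]
    have hmem : w * (s : Loc x B) ∈ hull m x B := by
      intro a ha
      obtain ⟨n, bs, hbs⟩ := s.2 a ha
      obtain ⟨k, bt, hbt⟩ := t.2 a ha
      have hR := h a ha
      have h1 : algebraMap B (Loc x B) (u • a ^ k • bs) =
          algebraMap B (Loc x B) (x • a ^ n • bt) := by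
        rw [algebraMap_loc_smul', algebraMap_loc_smul', algebraMap_loc_smul',
          algebraMap_loc_smul', ← hbs, ← hbt, smul_comm (a ^ k) (a ^ n), smul_comm u (a ^ n),
          smul_comm u (a ^ k), hst', smul_comm x (a ^ n), smul_comm x (a ^ k)]
      obtain ⟨l, hl⟩ := exists_smul_eq_of_eq x h1
      obtain ⟨l', hl'⟩ := exists_pow_smul_eq_zero (a := a) hR.reg
        (u • a ^ k • bs - x • a ^ n • bt) (n := l) (by rw [smul_sub, hl, sub_self])
      have h2 : u • algebraMap B (Loc a B) (a ^ k • bs) =
          x • algebraMap B (Loc a B) (a ^ n • bt) := by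
        have h3 := congrArg (algebraMap B (Loc a B)) hl'
        rw [algebraMap_loc_smul', map_zero, map_sub, algebraMap_loc_smul',
          algebraMap_loc_smul' B a x] at h3
        have h4 := smul_cancel a l' (w := (0 : Loc a B)) (by rw [h3, smul_zero])
        exact sub_eq_zero.mp h4
      obtain ⟨y, hy⟩ := hR.reg' _ _ h2
      obtain ⟨p, b, hb⟩ := exists_smul_eq a y
      have h5 : algebraMap B (Loc a B) (a ^ p • a ^ k • bs) =
          algebraMap B (Loc a B) (x • b) := by
        rw [algebraMap_loc_smul', hy, smul_comm, hb, algebraMap_loc_smul']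
      obtain ⟨q, hq⟩ := exists_smul_eq_of_eq a h5
      have h6 := congrArg (algebraMap B (Loc x B)) hq
      simp only [algebraMap_loc_smul'] at h6
      rw [← hbs] at h6
      refine ⟨q + p + k + n, a ^ q • b, ?_⟩
      obtain ⟨w', hw'⟩ := (isUnit_loc x B).exists_left_inv
      have h7 : ∀ y z : Loc x B, x • y = x • z → y = z := fun y z hyz => by
        rw [Algebra.smul_def, Algebra.smul_def] at hyz
        exact (isUnit_loc x B).mul_left_cancel hyz
      apply h7
      rw [smul_comm, hxw, algebraMap_loc_smul', smul_comm x, ← h6]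
      simp only [smul_smul, pow_add, mul_assoc]
    refine ⟨⟨w * s, hmem⟩, Subtype.ext ?_⟩
    exact (hxw _).symm

/-- Extension of a functional `B → F` to the hull. -/
theorem exists_hull_extension {u : A} (hu : u ∈ m) (h : RegPair x u A) {F : Type*}
    [AddCommGroup F] [Module A F] [Module.Flat A F] (f : B →ₗ[A] F) :
    ∃ g : hull m x B →ₗ[A] F, ∀ (z : hull m x B) (n : ℕ) (b : B), toHull m x B b = x ^ n • z →
      f b = x ^ n • g z := by
  have hF : RegPair x u F := h.of_flat F
  have hf0 : ∀ b : B, toHull m x B b = 0 → f b = 0 := by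
    intro b hb
    obtain ⟨n, hn⟩ := exists_pow_smul_eq_zero_of_toHull_eq_zero b hb
    apply hF.pow_reg n
    rw [← map_smul, hn, map_zero]
  have hff : ∀ b b' : B, toHull m x B b = toHull m x B b' → f b = f b' := by
    intro b b' hbb
    have := hf0 (b - b') (by rw [map_sub, hbb, sub_self])
    rwa [map_sub, sub_eq_zero] at this
  have hsec : ∀ z : hull m x B, ∃ (n : ℕ) (b : B), toHull m x B b = x ^ n • z := by
    intro z
    obtain ⟨n, b, hb⟩ := exists_smul_eq x (z : Loc x B)
    exact ⟨n, b, Subtype.ext (by rw [coe_toHull, ← hb]; rfl)⟩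
  have hex : ∀ z : hull m x B, ∃ y : F, ∀ (n : ℕ) (b : B), toHull m x B b = x ^ n • z →
      f b = x ^ n • y := by
    intro z
    obtain ⟨n, b, hb⟩ := hsec z
    obtain ⟨k, c, hc⟩ := exists_toHull_eq z hu
    have h1 : u ^ k • f b = x ^ n • f c := by
      rw [← map_smul, ← map_smul]
      apply hff
      rw [map_smul, map_smul, hb, hc, smul_comm]
    obtain ⟨y, hy⟩ := (hF.pow n k).reg' _ _ h1
    refine ⟨y, fun n' b' hb' => ?_⟩
    apply hF.pow_inj n
    rw [smul_comm, ← hy, ← map_smul, ← map_smul]
    apply hff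
    rw [map_smul, map_smul, hb, hb', smul_comm]
  choose g hg using hex
  have hguniq : ∀ (z : hull m x B) (y : F) (n : ℕ) (b : B), toHull m x B b = x ^ n • z →
      f b = x ^ n • y → g z = y := by
    intro z y n b h1 h2
    apply hF.pow_inj n
    rw [← hg z n b h1, h2]
  refine ⟨{ toFun := g, map_add' := ?_, map_smul' := ?_ }, hg⟩
  · intro z w
    obtain ⟨n, b, hb⟩ := hsec z
    obtain ⟨k, c, hc⟩ := hsec w
    refine hguniq (z + w) _ (n + k) (x ^ k • b + x ^ n • c) ?_ ?_
    · rw [map_add, map_smul, map_smul, hb, hc, smul_add, smul_smul, smul_smul, pow_add,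
        mul_comm (x ^ n)]
    · rw [map_add, map_smul, map_smul, hg z n b hb, hg w k c hc, smul_add, smul_smul, smul_smul,
        pow_add, mul_comm (x ^ n)]
  · intro r z
    obtain ⟨n, b, hb⟩ := hsec z
    refine hguniq (r • z) _ n (r • b) ?_ ?_
    · rw [map_smul, hb, smul_comm]
    · rw [map_smul, hg z n b hb, smul_comm, RingHom.id_apply]

/-- The hull is finite. -/
theorem finite_hull {u : A} (hu : u ∈ m) (h : RegPair x u A) [IsNoetherianRing A]
    [Module.Finite A B] [Module.Flat A (Loc x B)] : Module.Finite A (hull m x B) := by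
  let q : B →ₗ[A] Loc x B := (IsScalarTower.toAlgHom A B (Loc x B)).toLinearMap
  have : Module.FinitePresentation A B := Module.finitePresentation_of_finite A B
  obtain ⟨k, h₂, h₃, hh⟩ := Module.Flat.exists_factorization_of_finitePresentation q
  obtain ⟨g, hg⟩ := exists_hull_extension hu h h₂
  refine Module.Finite.of_injective g ?_
  rw [injective_iff_map_eq_zero]
  intro z hz
  obtain ⟨n, b, hb⟩ := exists_smul_eq x (z : Loc x B)
  have hb' : toHull m x B b = x ^ n • z := Subtype.ext (by rw [coe_toHull, ← hb]; rfl)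
  have h1 : h₂ b = 0 := by rw [hg z n b hb', hz, smul_zero]
  have h2 : algebraMap B (Loc x B) b = 0 := by
    have : q b = h₃ (h₂ b) := DFunLike.congr_fun hh b
    rw [h1, map_zero] at this
    exact this
  apply Subtype.ext
  apply smul_cancel x n
  rw [hb, h2]
  simp

end Groth.Agent.Pi1A.Purity
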