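import Groth.Agent.Pi1A.PurityStep
import Groth.Agent.Pi1A.PurityHull
import Groth.Agent.CalgA.RegBasic

/-!
# Algebraic purity (Zariski–Nagata, for covers étale over the punctured spectrum)

`AlgPurity A` : every finite `A`-algebra which is étale over the punctured spectrum of the local
ring `A` agrees there with a finite étale `A`-algebra.
-/

open TensorProduct IsLocalRing Pointwise

namespace Groth.Agent.Pi1A.Purity

universe u

/-- Algebraic purity. -/
def AlgPurity (A : Type u) [CommRing A] [IsLocalRing A] : Prop :=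
  ∀ (B : Type u) [CommRing B] [Algebra A B] [Module.Finite A B],
    (∀ a ∈ maximalIdeal A, Algebra.Etale A (Loc a B)) →
    ∃ (C : Type u) (_ : CommRing C) (_ : Algebra A C) (φ : B →ₐ[A] C),
      Module.Finite A C ∧ Algebra.Etale A C ∧
      (∀ a ∈ maximalIdeal A, ∀ b, φ b = 0 → ∃ n : ℕ, a ^ n • b = 0) ∧
      (∀ a ∈ maximalIdeal A, ∀ c, ∃ (n : ℕ) (b : B), φ b = a ^ n • c)

/-- Freeness from freeness modulo a nonzerodivisor. -/
theorem free_of_surjective {A : Type*} [CommRing A] [IsLocalRing A] [IsNoetherianRing A] {x : A}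
    (hx : x ∈ maximalIdeal A) {S C : Type*} [AddCommGroup S] [Module A S] [Module.Finite A S]
    (hS : ∀ s : S, x • s = 0 → s = 0) [AddCommGroup C] [Module A C]
    [Module (A ⧸ Ideal.span {x}) C] [IsScalarTower A (A ⧸ Ideal.span {x}) C]
    [Module.Flat (A ⧸ Ideal.span {x}) C] (φ : S →ₗ[A] C) (hφ : Function.Surjective φ)
    (hker : ∀ s, φ s = 0 → ∃ t, s = x • t) : Module.Free A S := by
  have hxC : ∀ c : C, x • c = 0 := by
    intro c
    rw [← algebraMap_smul (A ⧸ Ideal.span {x}), Ideal.Quotient.algebraMap_eq,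
      Ideal.Quotient.eq_zero_iff_mem.mpr (Ideal.mem_span_singleton_self _), zero_smul]
  have hker' : LinearMap.ker φ = (x • ⊤ : Submodule A S) := by
    ext s
    rw [LinearMap.mem_ker, Submodule.mem_smul_pointwise_iff_exists]
    constructor
    · intro h
      obtain ⟨t, ht⟩ := hker s h
      exact ⟨t, trivial, ht.symm⟩
    · rintro ⟨t, -, rfl⟩
      rw [map_smul, hxC]
  let e : QuotSMulTop x S ≃ₗ[A] C :=
    (Submodule.quotEquivOfEq _ _ hker'.symm).trans (φ.quotKerEquivOfSurjective hφ)
  let e' : QuotSMulTop x S ≃ₗ[A ⧸ Ideal.span {x}] C :=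
    e.extendScalarsOfSurjective Ideal.Quotient.mk_surjective
  have hne : Ideal.span {x} ≠ ⊤ := by
    intro h
    have : Ideal.span {x} ≤ maximalIdeal A := by
      rw [Ideal.span_singleton_le_iff_mem]; exact hx
    rw [h, top_le_iff] at this
    exact (maximalIdeal.isMaximal A).ne_top this
  have : IsLocalRing (A ⧸ Ideal.span {x}) := CalgA.RegBasic.isLocalRing_quotient _ hne
  have : Module.Finite A C := Module.Finite.of_surjective φ hφ
  have : Module.Finite (A ⧸ Ideal.span {x}) C :=
    Module.Finite.of_restrictScalars_finite A (A ⧸ Ideal.span {x}) C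
  have : Module.Free (A ⧸ Ideal.span {x}) C := Module.free_of_flat_of_isLocalRing
  have : Module.Free (A ⧸ Ideal.span {x}) (QuotSMulTop x S) := Module.Free.of_equiv e'.symm
  have : Module.FinitePresentation A S := Module.finitePresentation_of_finite A S
  refine (Module.free_quotSMulTop_iff_free A S (x := x) ?_ ?_).mp ‹_›
  · rw [IsLocalRing.jacobson_eq_maximalIdeal ⊥ bot_ne_top]
    exact hx
  · intro s t hst
    exact sub_eq_zero.mp (hS (s - t) (by
      have : x • s = x • t := hst
      rw [smul_sub, this, sub_self]))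

/-- A finite module with depth two over a local ring whose maximal ideal is generated by a
pair of elements which is regular on the module is free. -/
theorem free_of_regPair {A : Type*} [CommRing A] [IsLocalRing A] [IsNoetherianRing A] {x u : A}
    (hm : maximalIdeal A = Ideal.span {x, u}) {S : Type*} [AddCommGroup S] [Module A S]
    [Module.Finite A S] (h : RegPair x u S) : Module.Free A S := by
  have hx : x ∈ maximalIdeal A := by
    rw [hm]; exact Ideal.subset_span (by simp)
  have hu : u ∈ maximalIdeal A := by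
    rw [hm]; exact Ideal.subset_span (by simp)
  have hne : Ideal.span {x} ≠ ⊤ := by
    intro h
    have : Ideal.span {x} ≤ maximalIdeal A := by
      rw [Ideal.span_singleton_le_iff_mem]; exact hx
    rw [h, top_le_iff] at this
    exact (maximalIdeal.isMaximal A).ne_top this
  let R := A ⧸ Ideal.span {x}
  have : IsLocalRing R := CalgA.RegBasic.isLocalRing_quotient _ hne
  let u' : R := Ideal.Quotient.mk _ u
  have hmR : maximalIdeal R = Ideal.span {u'} := by
    rw [← CalgA.RegBasic.map_maximalIdeal_quotient, hm, Ideal.map_span, Set.image_pair,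
      Ideal.Quotient.eq_zero_iff_mem.mpr (Ideal.mem_span_singleton_self x), Ideal.span_insert_zero]
  have hmax : (Ideal.span {u'}).IsMaximal := by
    rw [← hmR]; exact maximalIdeal.isMaximal R
  let M := QuotSMulTop x S
  have hM : RegPair x u S ↔ RingTheory.Sequence.IsWeaklyRegular S [x, u] := regPair_iff
  have hM' := hM.mp h
  rw [RingTheory.Sequence.isWeaklyRegular_cons_iff,
    RingTheory.Sequence.isWeaklyRegular_singleton_iff] at hM'
  have huM : IsSMulRegular M u := hM'.2
  have hfinM : Module.Finite A M := inferInstance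
  have : Module.Finite R M := Module.Finite.of_restrictScalars_finite A R M
  have hu' : ∀ s : M, u' • s = 0 → s = 0 := by
    intro s hs
    apply huM
    simp only [smul_zero]
    rw [← algebraMap_smul R u s]
    exact hs
  let _ : Field (R ⧸ Ideal.span {u'}) := Ideal.Quotient.field _
  have hMfree : Module.Free R M := by
    refine free_of_surjective (A := R) (x := u') (by rw [hmR]; exact Ideal.mem_span_singleton_self _)
      hu' (C := QuotSMulTop u' M) (Submodule.mkQ _) (Submodule.mkQ_surjective _) ?_
    intro s hs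
    rw [Submodule.mkQ_apply, Submodule.Quotient.mk_eq_zero,
      Submodule.mem_smul_pointwise_iff_exists] at hs
    obtain ⟨t, -, ht⟩ := hs
    exact ⟨t, ht.symm⟩
  refine free_of_surjective hx h.reg (C := M) (Submodule.mkQ _) (Submodule.mkQ_surjective _) ?_
  intro s hs
  rw [Submodule.mkQ_apply, Submodule.Quotient.mk_eq_zero,
    Submodule.mem_smul_pointwise_iff_exists] at hs
  obtain ⟨t, -, ht⟩ := hs
  exact ⟨t, ht.symm⟩

section hull

variable {A : Type u} [CommRing A] [IsLocalRing A]

theorem etale_loc_hull {x : A} {B : Type u} [CommRing B] [Algebra A B]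
    (hx : ∀ a : A, x * a = 0 → a = 0)
    (hB : ∀ a ∈ maximalIdeal A, Algebra.Etale A (Loc a B)) :
    ∀ a ∈ maximalIdeal A, Algebra.Etale A (Loc a (hull (maximalIdeal A) x B)) := by
  intro a ha
  have := hB a ha
  have hflat : Module.Flat A (Loc a B) := inferInstance
  have hxr : IsSMulRegular A x := fun b c hbc => by
    have := hx (b - c) (by
      simp only [smul_eq_mul] at hbc
      rw [mul_sub, hbc, sub_self])
    exact sub_eq_zero.mp this
  have hxL : ∀ c : Loc a B, x • c = 0 → c = 0 := by
    have h1 := hxr.lTensor (Loc a B)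
    have h2 := ((TensorProduct.rid A (Loc a B)).isSMulRegular_congr x).mp h1
    intro c hc
    exact h2 (by simpa using hc)
  exact Algebra.Etale.of_equiv (AlgEquiv.ofBijective (locMap a (toHull (maximalIdeal A) x B))
    (locMap_toHull_bijective ha hxL))

omit [IsLocalRing A] in
theorem etale_loc_quotient {x a : A} {S : Type u} [CommRing S] [Algebra A S]
    [Algebra.Etale A (Loc a S)] :
    Algebra.Etale (A ⧸ Ideal.span {x})
      (Loc (Ideal.Quotient.mk (Ideal.span {x}) a) ((A ⧸ Ideal.span {x}) ⊗[A] S)) := by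
  let R := A ⧸ Ideal.span {x}
  have heq : algebraMap R (R ⊗[A] S) (Ideal.Quotient.mk (Ideal.span {x}) a) =
      (1 : R) ⊗ₜ[A] algebraMap A S a := by
    rw [Algebra.TensorProduct.algebraMap_apply, Algebra.algebraMap_self, RingHom.id_apply,
      Algebra.algebraMap_eq_smul_one, ← TensorProduct.smul_tmul, Algebra.smul_def, mul_one]
    rfl
  change Algebra.Etale R (Localization.Away (algebraMap R (R ⊗[A] S) _))
  rw [heq]
  exact Algebra.Etale.of_equiv
    (IsLocalization.Away.tensorProductEquivTMulRight A R (algebraMap A S a) (Loc a S))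

/-- The hypersurface step of purity. -/
theorem algPurity_step [IsNoetherianRing A] {x u v : A} (hx : x ∈ maximalIdeal A)
    (hu : u ∈ maximalIdeal A) (hv : v ∈ maximalIdeal A) (h : RegTriple x u v)
    (hureg : ∀ a : A, u * a = 0 → a = 0) [IsLocalRing (A ⧸ Ideal.span {x})]
    (IH : AlgPurity (A ⧸ Ideal.span {x})) : AlgPurity A := by
  intro B _ _ _ hB
  let m := maximalIdeal A
  let R := A ⧸ Ideal.span {x}
  have hflat : ∀ a ∈ m, Module.Flat A (Loc a B) := fun a ha => by
    have := hB a ha
    infer_instance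
  have hRB : ∀ a ∈ m, RegPair x u (Loc a B) := fun a ha => by
    have := hflat a ha
    exact h.regPair.of_flat _
  let S := hull m x B
  have := hflat x hx
  have hfin : Module.Finite A S := finite_hull hu h.regPair
  have hS : RegPair x u S := regPair_hull hRB
  have hSet : ∀ a ∈ m, Algebra.Etale A (Loc a S) := etale_loc_hull h.reg hB
  have hSet' : ∀ r ∈ maximalIdeal R, Algebra.Etale R (Loc r (R ⊗[A] S)) := by
    intro r hr
    rw [← CalgA.RegBasic.map_maximalIdeal_quotient,
      Ideal.mem_map_iff_of_surjective _ Ideal.Quotient.mk_surjective] at hr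
    obtain ⟨a, ha, rfl⟩ := hr
    have := hSet a ha
    exact etale_loc_quotient
  obtain ⟨C, _, _, φ₁, hCfin, hCet, hφinj, hφsurj⟩ := IH (R ⊗[A] S) hSet'
  let _ : Algebra A C := ((algebraMap R C).comp (algebraMap A R)).toAlgebra
  have tower : IsScalarTower A R C := IsScalarTower.of_algebraMap_eq' rfl
  let φ : S →ₐ[A] C := (φ₁.restrictScalars A).comp
    (Algebra.TensorProduct.includeRight : S →ₐ[A] R ⊗[A] S)
  have hφ : ∀ s, φ s = φ₁ ((1 : R) ⊗ₜ[A] s) := fun s => rfl
  have hmk : ∀ a ∈ m, Ideal.Quotient.mk (Ideal.span {x}) a ∈ maximalIdeal R := by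
    intro a ha
    rw [← CalgA.RegBasic.map_maximalIdeal_quotient]
    exact Ideal.mem_map_of_mem _ ha
  have hsm : ∀ (a : A) (n : ℕ) (s : S), (Ideal.Quotient.mk (Ideal.span {x}) a) ^ n •
      ((1 : R) ⊗ₜ[A] s) = (1 : R) ⊗ₜ[A] (a ^ n • s) := by
    intro a n s
    rw [← TensorProduct.smul_tmul, TensorProduct.smul_tmul', Algebra.smul_def, Algebra.smul_def,
      ← map_pow]
    rfl
  have hinj : ∀ s, φ s = 0 → ∃ (n : ℕ) (t : S), u ^ n • s = x • t := by
    intro s hs
    obtain ⟨n, hn⟩ := hφinj _ (hmk u hu) ((1 : R) ⊗ₜ[A] s) hs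
    rw [hsm] at hn
    have h1 := mem_map_ker_of_one_tmul_eq_zero (R₀ := A) (R := R)
      Ideal.Quotient.mk_surjective _ hn
    have h2 : RingHom.ker (algebraMap A R) = Ideal.span {x} := Ideal.mk_ker
    rw [h2, Ideal.map_span, Set.image_singleton, Ideal.mem_span_singleton'] at h1
    obtain ⟨t, ht⟩ := h1
    exact ⟨n, t, by rw [← ht, Algebra.smul_def, mul_comm]⟩
  have hsurj : ∀ a ∈ m, ∀ c, ∃ (n : ℕ) (s : S), φ s = a ^ n • c := by
    intro a ha c
    obtain ⟨n, b, hb⟩ := hφsurj _ (hmk a ha) c
    have h1 : ∀ b : R ⊗[A] S, ∃ s : S, b = (1 : R) ⊗ₜ[A] s := by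
      intro b
      induction b using TensorProduct.induction_on with
      | zero => exact ⟨0, by simp⟩
      | tmul r s =>
        obtain ⟨r, rfl⟩ := Ideal.Quotient.mk_surjective r
        refine ⟨r • s, ?_⟩
        rw [← TensorProduct.smul_tmul, Algebra.smul_def, mul_one]
        rfl
      | add a b ha hb =>
        obtain ⟨s, rfl⟩ := ha
        obtain ⟨t, rfl⟩ := hb
        exact ⟨s + t, by rw [TensorProduct.tmul_add]⟩
    obtain ⟨s, rfl⟩ := h1 b
    refine ⟨n, s, ?_⟩
    rw [hφ, hb, ← algebraMap_smul R (a ^ n) c, map_pow]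
    rfl
  have hfp : Module.FinitePresentation A S := Module.finitePresentation_of_finite A S
  have := hSet x hx
  have := hSet u hu
  have := hSet v hv
  obtain ⟨hsur, hker⟩ := hypersurface_bijective h hS C φ hinj (hsurj u hu) (hsurj v hv)
  have hfree : Module.Free A S := free_of_surjective hx hS.reg φ.toLinearMap hsur hker
  have hSe : Algebra.Etale A S := by
    have : Algebra.FinitePresentation A S := Algebra.FinitePresentation.of_finiteType.mp inferInstance
    exact etale_of_regPair h.regPair hureg (Loc x S) (Loc u S)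
  refine ⟨S, inferInstance, inferInstance, toHull m x B, hfin, hSe, ?_, ?_⟩
  · intro a ha b hb
    exact toHull_injective_away (hRB a ha).reg b hb
  · intro a ha c
    exact exists_toHull_eq c ha

/-- Purity in dimension two. -/
theorem algPurity_base [IsNoetherianRing A] {x u : A} (hm : maximalIdeal A = Ideal.span {x, u})
    (h : RegPair x u A) (hureg : ∀ a : A, u * a = 0 → a = 0) : AlgPurity A := by
  intro B _ _ _ hB
  have hx : x ∈ maximalIdeal A := by
    rw [hm]; exact Ideal.subset_span (by simp)
  have hu : u ∈ maximalIdeal A := by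
    rw [hm]; exact Ideal.subset_span (by simp)
  let m := maximalIdeal A
  have hflat : ∀ a ∈ m, Module.Flat A (Loc a B) := fun a ha => by
    have := hB a ha
    infer_instance
  have hRB : ∀ a ∈ m, RegPair x u (Loc a B) := fun a ha => by
    have := hflat a ha
    exact h.of_flat _
  let S := hull m x B
  have := hflat x hx
  have hfin : Module.Finite A S := finite_hull hu h
  have hS : RegPair x u S := regPair_hull hRB
  have hSet : ∀ a ∈ m, Algebra.Etale A (Loc a S) := etale_loc_hull h.reg hB
  have := hSet x hx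
  have := hSet u hu
  have hfree : Module.Free A S := free_of_regPair hm hS
  have hSe : Algebra.Etale A S := by
    have : Algebra.FinitePresentation A S := Algebra.FinitePresentation.of_finiteType.mp inferInstance
    exact etale_of_regPair h hureg (Loc x S) (Loc u S)
  refine ⟨S, inferInstance, inferInstance, toHull m x B, hfin, hSe, ?_, ?_⟩
  · intro a ha b hb
    exact toHull_injective_away (hRB a ha).reg b hb
  · intro a ha c
    exact exists_toHull_eq c ha

end hull

section regular

/-- A regular parameter. -/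
theorem exists_param (A : Type u) [CommRing A] [IsRegularLocalRing A] {n : ℕ}
    (h : ringKrullDim A = (n + 1 : ℕ)) :
    ∃ x ∈ maximalIdeal A, x ≠ 0 ∧ IsRegularLocalRing (A ⧸ Ideal.span {x}) ∧
      ringKrullDim (A ⧸ Ideal.span {x}) = n := by
  have hex : ∃ x ∈ maximalIdeal A, x ∉ maximalIdeal A ^ 2 := by
    by_contra hcon
    push Not at hcon
    have hle : maximalIdeal A ≤ maximalIdeal A • maximalIdeal A := by
      intro x hx
      have := hcon x hx
      rwa [pow_two] at this
    have hbot : maximalIdeal A = ⊥ :=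
      Submodule.eq_bot_of_le_smul_of_le_jacobson_bot (maximalIdeal A) (maximalIdeal A)
        (maximalIdeal A).fg_of_isNoetherianRing hle (IsLocalRing.maximalIdeal_le_jacobson _)
    have h1 := IsRegularLocalRing.spanFinrank_maximalIdeal (R := A)
    rw [hbot, Submodule.spanFinrank_bot, h] at h1
    have : (0 : ℕ) = n + 1 := by exact_mod_cast h1
    lia
  obtain ⟨x, hx, hx2⟩ := hex
  obtain ⟨h1, h2⟩ := CalgA.RegBasic.quotient_of_notMem_sq x hx hx2
  refine ⟨x, hx, ?_, h1, ?_⟩
  · rintro rfl
    exact hx2 (Ideal.zero_mem _)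
  · obtain ⟨d, hd⟩ := CalgA.RegBasic.ringKrullDim_eq_natCast (A ⧸ Ideal.span {x})
    rw [hd, h] at h2
    rw [hd]
    have : d + 1 = n + 1 := by exact_mod_cast h2
    have : d = n := by lia
    rw [this]

theorem eq_mul_of_mk {A : Type*} [CommRing A] {x a : A}
    (h : Ideal.Quotient.mk (Ideal.span {x}) a = 0) : ∃ c, a = x * c := by
  rw [Ideal.Quotient.eq_zero_iff_mem, Ideal.mem_span_singleton'] at h
  obtain ⟨c, hc⟩ := h
  exact ⟨c, by rw [← hc, mul_comm]⟩

theorem mk_self {A : Type*} [CommRing A] (x : A) : Ideal.Quotient.mk (Ideal.span {x}) x = 0 :=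
  Ideal.Quotient.eq_zero_iff_mem.mpr (Ideal.mem_span_singleton_self x)

theorem mem_maximalIdeal_of_mk {A : Type*} [CommRing A] [IsLocalRing A] {I : Ideal A}
    [IsLocalRing (A ⧸ I)] {a : A} (h : Ideal.Quotient.mk I a ∈ maximalIdeal (A ⧸ I)) :
    a ∈ maximalIdeal A := by
  rw [IsLocalRing.mem_maximalIdeal, mem_nonunits_iff] at h ⊢
  intro hu
  exact h (hu.map _)

theorem algPurity_of_regular (n : ℕ) : ∀ (A : Type u) [CommRing A] [IsRegularLocalRing A],
    ringKrullDim A = (n + 2 : ℕ) → AlgPurity A := by
  induction n with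
  | zero =>
    intro A _ _ hdim
    have hdA : IsDomain A := CalgA.RegBasic.isDomain A
    obtain ⟨x, hx, hx0, hR, hRdim⟩ := exists_param A (n := 1) hdim
    have hdR : IsDomain (A ⧸ Ideal.span {x}) := CalgA.RegBasic.isDomain _
    obtain ⟨u', hu', hu0, hR', hR'dim⟩ := exists_param (A ⧸ Ideal.span {x}) (n := 0) hRdim
    obtain ⟨u, rfl⟩ := Ideal.Quotient.mk_surjective u'
    have hu : u ∈ maximalIdeal A := mem_maximalIdeal_of_mk hu'
    have hu00 : u ≠ 0 := by rintro rfl; exact hu0 (map_zero _)
    have hreg : RegPair x u A := by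
      refine ⟨fun a ha => ?_, fun a b hab => ?_⟩
      · exact (mul_eq_zero.mp ha).resolve_left hx0
      · apply eq_mul_of_mk
        have h1 := congrArg (Ideal.Quotient.mk (Ideal.span {x})) hab
        simp only [smul_eq_mul, map_mul, mk_self, zero_mul] at h1
        exact (mul_eq_zero.mp h1).resolve_left hu0
    have hm : maximalIdeal A = Ideal.span {x, u} := by
      have h1 := IsRegularLocalRing.spanFinrank_maximalIdeal
        (R := (A ⧸ Ideal.span {x}) ⧸ Ideal.span {Ideal.Quotient.mk (Ideal.span {x}) u})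
      rw [hR'dim] at h1
      have h2 : (maximalIdeal ((A ⧸ Ideal.span {x}) ⧸
          Ideal.span {Ideal.Quotient.mk (Ideal.span {x}) u})).spanFinrank = 0 := by
        exact_mod_cast h1
      rw [Submodule.spanFinrank_eq_zero_iff_eq_bot
        (maximalIdeal _).fg_of_isNoetherianRing] at h2
      apply le_antisymm
      · intro a ha
        have h3 : Ideal.Quotient.mk (Ideal.span {Ideal.Quotient.mk (Ideal.span {x}) u})
            (Ideal.Quotient.mk (Ideal.span {x}) a) = 0 := by
          rw [← Ideal.mem_bot, ← h2, ← CalgA.RegBasic.map_maximalIdeal_quotient,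
            ← CalgA.RegBasic.map_maximalIdeal_quotient]
          exact Ideal.mem_map_of_mem _ (Ideal.mem_map_of_mem _ ha)
        obtain ⟨c, hc⟩ := eq_mul_of_mk h3
        obtain ⟨c, rfl⟩ := Ideal.Quotient.mk_surjective c
        obtain ⟨d, hd⟩ := eq_mul_of_mk (x := x) (a := a - u * c) (by
          rw [map_sub, hc, map_mul, sub_self])
        rw [Ideal.mem_span_pair]
        exact ⟨d, c, by linear_combination -hd⟩
      · rw [Ideal.span_le]
        rintro y (rfl | rfl)
        · exact hx
        · exact hu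
    exact algPurity_base hm hreg fun a ha => (mul_eq_zero.mp ha).resolve_left hu00
  | succ n ih =>
    intro A _ _ hdim
    have hdA : IsDomain A := CalgA.RegBasic.isDomain A
    obtain ⟨x, hx, hx0, hR, hRdim⟩ := exists_param A (n := n + 2) hdim
    have hdR : IsDomain (A ⧸ Ideal.span {x}) := CalgA.RegBasic.isDomain _
    obtain ⟨u', hu', hu0, hR', hR'dim⟩ := exists_param (A ⧸ Ideal.span {x}) (n := n + 1) hRdim
    obtain ⟨u, rfl⟩ := Ideal.Quotient.mk_surjective u'
    have hdR' : IsDomain ((A ⧸ Ideal.span {x}) ⧸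
      Ideal.span {Ideal.Quotient.mk (Ideal.span {x}) u}) := CalgA.RegBasic.isDomain _
    obtain ⟨v', hv', hv0, -, -⟩ := exists_param ((A ⧸ Ideal.span {x}) ⧸
      Ideal.span {Ideal.Quotient.mk (Ideal.span {x}) u}) (n := n) hR'dim
    obtain ⟨v', rfl⟩ := Ideal.Quotient.mk_surjective v'
    obtain ⟨v, rfl⟩ := Ideal.Quotient.mk_surjective v'
    have hu : u ∈ maximalIdeal A := mem_maximalIdeal_of_mk hu'
    have hv : v ∈ maximalIdeal A := mem_maximalIdeal_of_mk (mem_maximalIdeal_of_mk hv')
    have hu00 : u ≠ 0 := by rintro rfl; exact hu0 (map_zero _)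
    refine algPurity_step hx hu hv ⟨fun a ha => ?_, fun a b hab => ?_, fun a b c habc => ?_⟩
      (fun a ha => (mul_eq_zero.mp ha).resolve_left hu00) (ih (A ⧸ Ideal.span {x}) hRdim)
    · exact (mul_eq_zero.mp ha).resolve_left hx0
    · apply eq_mul_of_mk
      have h1 := congrArg (Ideal.Quotient.mk (Ideal.span {x})) hab
      simp only [map_mul, mk_self, zero_mul] at h1
      exact (mul_eq_zero.mp h1).resolve_left hu0
    · have h1 := congrArg (Ideal.Quotient.mk (Ideal.span {Ideal.Quotient.mk (Ideal.span {x}) u}))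
        (congrArg (Ideal.Quotient.mk (Ideal.span {x})) habc)
      simp only [map_add, map_mul, mk_self, zero_mul, add_zero, map_zero] at h1
      obtain ⟨d, hd⟩ := eq_mul_of_mk ((mul_eq_zero.mp h1).resolve_left hv0)
      obtain ⟨d, rfl⟩ := Ideal.Quotient.mk_surjective d
      obtain ⟨e, he⟩ := eq_mul_of_mk (x := x) (a := a - u * d) (by
        rw [map_sub, hd, map_mul, sub_self])
      exact ⟨d, e, by linear_combination he⟩

/-- **Algebraic purity** for regular local rings of dimension at least two. -/
theorem algPurity_regular (A : Type u) [CommRing A] [IsRegularLocalRing A]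
    (h : (2 : WithBot ℕ∞) ≤ ringKrullDim A) : AlgPurity A := by
  obtain ⟨d, hd⟩ := CalgA.RegBasic.ringKrullDim_eq_natCast A
  rw [hd] at h
  have h2 : 2 ≤ d := by exact_mod_cast h
  obtain ⟨n, rfl⟩ := Nat.exists_eq_add_of_le' h2
  exact algPurity_of_regular n A hd

end regular

end Groth.Agent.Pi1A.Purity
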