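import Groth.Agent.Pi1A.LefClopen
import Groth.Agent.Pi1A.FEtAffine
import Groth.Agent.Ega4A.CompleteNoeth
import Mathlib.RingTheory.Henselian
import Mathlib.RingTheory.Regular.Flat
import Mathlib.RingTheory.AdicCompletion.LocalRing
import Mathlib.RingTheory.AdicCompletion.AsTensorProduct

/-!
# Auxiliary facts for Stacks 0BLM: henselian pairs, depth and flat local maps
-/

set_option autoImplicit false

universe u

namespace Groth.Agent.Pi1A.LefExt

open IsLocalRing Polynomial

/-- A henselian local ring is henselian along every ideal contained in the maximal ideal. -/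
theorem henselianRing_of_le {A : Type u} [CommRing A] [HenselianLocalRing A] (I : Ideal A)
    (hI : I ≤ maximalIdeal A) : HenselianRing A I where
  jac := by
    rw [Ideal.jacobson, le_sInf_iff]
    rintro J ⟨-, hJ⟩
    exact hI.trans (eq_maximalIdeal hJ).ge
  is_henselian := by
    intro f hf a₀ h₁ h₂
    have hu : IsUnit (f.derivative.eval a₀) := by
      by_contra h
      have h3 : f.derivative.eval a₀ ∈ maximalIdeal A := h
      obtain ⟨y, hy⟩ := h₂.exists_right_inv
      obtain ⟨z, rfl⟩ := Ideal.Quotient.mk_surjective y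
      rw [← map_mul, ← map_one (Ideal.Quotient.mk I), Ideal.Quotient.mk_eq_mk_iff_sub_mem] at hy
      have h4 := hI hy
      have h5 : (1 : A) ∈ maximalIdeal A := by
        have := (maximalIdeal A).sub_mem (Ideal.mul_mem_right z _ h3) h4
        simpa using this
      exact (maximalIdeal.isMaximal A).ne_top ((Ideal.eq_top_iff_one _).mpr h5)
    obtain ⟨a, ha, haa⟩ := HenselianLocalRing.is_henselian f hf a₀ (hI h₁) hu
    refine ⟨a, ha, ?_⟩
    -- Taylor expansion
    obtain ⟨c, hc⟩ := f.binomExpansion a₀ (a - a₀)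
    have h6 : (a₀ + (a - a₀)) = a := by ring
    rw [h6] at hc
    have h7 : f.eval a = 0 := ha
    rw [h7] at hc
    have h8 : (a - a₀) * (f.derivative.eval a₀ + c * (a - a₀)) = - f.eval a₀ := by
      linear_combination -hc
    have h9 : IsUnit (f.derivative.eval a₀ + c * (a - a₀)) := by
      by_contra h
      have h10 : f.derivative.eval a₀ + c * (a - a₀) ∈ maximalIdeal A := h
      have h11 : f.derivative.eval a₀ ∈ maximalIdeal A := by
        have := (maximalIdeal A).sub_mem h10 (Ideal.mul_mem_left _ c haa)
        simpa using this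
      exact h11 hu
    obtain ⟨u, hu'⟩ := h9
    rw [← hu'] at h8
    have h12 : a - a₀ = - f.eval a₀ * ↑u⁻¹ := by
      rw [← h8, mul_assoc, Units.mul_inv, mul_one]
    rw [h12]
    exact I.mul_mem_right _ (I.neg_mem h₁)

/-- A complete Noetherian local ring is henselian. -/
theorem henselianLocalRing_of_isAdicComplete (A : Type u) [CommRing A] [IsLocalRing A]
    [IsAdicComplete (maximalIdeal A) A] : HenselianLocalRing A where
  is_henselian := by
    intro f hf a₀ h₁ h₂
    exact HenselianRing.is_henselian (I := maximalIdeal A) f hf a₀ h₁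
      (h₂.map (Ideal.Quotient.mk (maximalIdeal A)))

/-- Depth does not decrease along a flat local homomorphism. -/
theorem le_depth_of_flat {A B : Type u} [CommRing A] [CommRing B] [IsLocalRing A] [IsLocalRing B]
    [Algebra A B] [Module.Flat A B] [IsLocalHom (algebraMap A B)] {n : ℕ}
    (h : ((n + 1 : ℕ) : ℕ∞) ≤ LocCoh.depth A A) : ((n + 1 : ℕ) : ℕ∞) ≤ LocCoh.depth B B := by
  obtain ⟨rs, h1, h2, h3⟩ := Groth.Agent.Pi1A.LefDepth.exists_isWeaklyRegular h
  have h4 : RingTheory.Sequence.IsWeaklyRegular B (rs.map (algebraMap A B)) := h1.of_flat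
  unfold LocCoh.depth LocCoh.idealDepth
  split_ifs
  · exact le_top
  · refine le_trans ?_ (le_iSup₂ (f := fun (rs : List B) (_ : RingTheory.Sequence.IsWeaklyRegular B rs ∧
      ∀ r ∈ rs, r ∈ maximalIdeal B) => (rs.length : ℕ∞)) (rs.map (algebraMap A B)) ⟨h4, ?_⟩)
    · rw [List.length_map]
      exact_mod_cast h3
    · intro r hr
      obtain ⟨a, ha, rfl⟩ := List.mem_map.mp hr
      have := h2 a ha
      rw [mem_maximalIdeal, mem_nonunits_iff] at this ⊢
      exact fun h => this ((isUnit_map_iff (algebraMap A B) a).mp h)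

end Groth.Agent.Pi1A.LefExt
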