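import Groth.Agent.Pi1A.FEtAffine
import Mathlib.AlgebraicGeometry.Morphisms.FormallyUnramified
import Mathlib.AlgebraicGeometry.Morphisms.Separated
import Mathlib.AlgebraicGeometry.PullbackCarrier
import Mathlib.AlgebraicGeometry.Morphisms.UniversallyOpen

/-!
# The locus where two morphisms to a separated unramified scheme agree

* `exists_agree`: it is a clopen subset with the expected universal property.
* `restrict_faithful_of_clopen`: `FEt.restrict f` is faithful if for all finite etale covers `T` of
  the target, the only clopen of `T` containing the image of `T ×_Y X` is everything.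
-/

set_option autoImplicit false
universe u

open CategoryTheory CategoryTheory.Limits AlgebraicGeometry TensorProduct

namespace Groth.Agent.Pi1A.Agree

/-- The agreement locus of two morphisms to a separated unramified scheme is clopen. -/
theorem exists_agree {S P Q : Scheme.{u}} (s : Q ⟶ S) [IsSeparated s] [FormallyUnramified s]
    [LocallyOfFiniteType s] (a b : P ⟶ Q) (h : a ≫ s = b ≫ s) :
    ∃ U : P.Opens, IsClosed (U : Set P) ∧ U.ι ≫ a = U.ι ≫ b ∧
      ∀ {W : Scheme.{u}} (t : W ⟶ P), t ≫ a = t ≫ b → Set.range t ⊆ (U : Set P) := by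
  let c : P ⟶ pullback s s := pullback.lift a b h
  let i : pullback c (pullback.diagonal s) ⟶ P := pullback.fst _ _
  have hi : IsOpenImmersion i := MorphismProperty.pullback_fst _ _ inferInstance
  have hi' : IsClosedImmersion i :=
    MorphismProperty.pullback_fst (P := @IsClosedImmersion) _ _ inferInstance
  have hab : i ≫ a = i ≫ b := by
    have h1 : i ≫ c = pullback.snd _ _ ≫ pullback.diagonal s := pullback.condition
    have h2 := congr($h1 ≫ pullback.fst s s)
    have h3 := congr($h1 ≫ pullback.snd s s)
    simp only [Category.assoc, pullback.diagonal_fst, pullback.diagonal_snd, c,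
      pullback.lift_fst, pullback.lift_snd] at h2 h3
    rw [h2, h3]
  refine ⟨i.opensRange, i.isClosedEmbedding.isClosed_range, ?_, ?_⟩
  · rw [← cancel_epi (Scheme.Hom.isoOpensRange i).hom]
    simpa using hab
  · intro W t ht
    let t' : W ⟶ pullback c (pullback.diagonal s) := pullback.lift t (t ≫ a) (by
      apply pullback.hom_ext
      · simp only [c, Category.assoc, pullback.lift_fst, pullback.diagonal_fst, Category.comp_id]
      · simp only [c, Category.assoc, pullback.lift_snd, pullback.diagonal_snd, Category.comp_id,
          ht])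
    have : t' ≫ i = t := pullback.lift_fst _ _ _
    rintro _ ⟨w, rfl⟩
    exact ⟨t' w, by rw [← this]; rfl⟩

/-- Two morphisms to a separated unramified scheme agreeing on `t : W ⟶ P` are equal if there is no
proper clopen subset of `P` containing the image of `t`. -/
theorem eq_of_agree {S P Q W : Scheme.{u}} (s : Q ⟶ S) [IsSeparated s] [FormallyUnramified s]
    [LocallyOfFiniteType s] (a b : P ⟶ Q) (h : a ≫ s = b ≫ s) (t : W ⟶ P) (ht : t ≫ a = t ≫ b)
    (H : ∀ U : P.Opens, IsClosed (U : Set P) → Set.range t ⊆ (U : Set P) → U = ⊤) : a = b := by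
  obtain ⟨U, hU, hab, hUt⟩ := exists_agree s a b h
  obtain rfl := H U hU (hUt t ht)
  have := congr(P.topIso.inv ≫ $hab)
  rwa [Scheme.toIso_inv_ι_assoc, Scheme.toIso_inv_ι_assoc] at this

variable {X Y : Scheme.{u}}

/-- `FEt.restrict f` is faithful if for all finite etale covers `T` of
the target, the only clopen of `T` containing the image of `T ×_Y X` is everything. -/
theorem restrict_faithful_of_clopen (f : X ⟶ Y)
    (H : ∀ (T : FEt.Cat Y) (U : T.left.Opens), IsClosed (U : Set T.left) →
      Set.range (FEtAffine.proj f T) ⊆ (U : Set T.left) → U = ⊤) :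
    (FEt.restrict f).Faithful := by
  constructor
  intro T T' a b hab
  apply MorphismProperty.Over.Hom.ext
  have h1 : IsFinite T'.hom := T'.prop.1
  have h2 : Etale T'.hom := T'.prop.2
  refine eq_of_agree T'.hom a.left b.left ?_ (FEtAffine.proj f T) ?_ (H T)
  · rw [FEtAffine.hom_w, FEtAffine.hom_w]
  · rw [← FEtAffine.map_left_proj, ← FEtAffine.map_left_proj, hab]

/-- The image of `T ×_Y X → T` is the preimage of the image of `f`. -/
theorem range_proj (f : X ⟶ Y) (T : FEt.Cat Y) :
    Set.range (FEtAffine.proj f T) = T.hom ⁻¹' Set.range f :=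
  Scheme.Pullback.range_fst T.hom f

end Groth.Agent.Pi1A.Agree
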