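import Groth.Agent.Pi1A.FEtAffine
import Mathlib.AlgebraicGeometry.Morphisms.FlatMono
import Mathlib.AlgebraicGeometry.Limits

/-!
# Clopen subschemes as finite etale covers

* `clopenObj V hV`: a clopen `V` of `Y` as an object of `FEt.Cat Y`.
* `exists_iso_clopenObj_of_mono`: a finite etale cover which is a monomorphism is a clopen.
* `preimage_clopen_surjective`, `eq_bot_of_preimage_eq_bot`: consequences for clopens of
  properties of `FEt.restrict f`.
-/

set_option autoImplicit false
universe u

open CategoryTheory CategoryTheory.Limits AlgebraicGeometry TensorProduct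

namespace Groth.Agent.Pi1A.Clopen

variable {X Y : Scheme.{u}}

lemma prop_ι_of_isClosed (V : Y.Opens) (hV : IsClosed (V : Set Y)) : FEt.prop V.ι := by
  have : IsClosedImmersion V.ι := .of_isPreimmersion _ (by simpa using hV)
  exact ⟨inferInstance, inferInstance⟩

/-- A clopen subscheme as a finite etale cover. -/
noncomputable def clopenObj (V : Y.Opens) (hV : IsClosed (V : Set Y)) : FEt.Cat Y :=
  MorphismProperty.Over.mk ⊤ V.ι (prop_ι_of_isClosed V hV)

@[simp]
lemma clopenObj_left (V : Y.Opens) (hV : IsClosed (V : Set Y)) :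
    (clopenObj V hV).left = V := rfl

@[simp]
lemma clopenObj_hom (V : Y.Opens) (hV : IsClosed (V : Set Y)) :
    (clopenObj V hV).hom = V.ι := rfl

/-- Inclusion of clopens. -/
noncomputable def clopenHom {V V' : Y.Opens} (hV : IsClosed (V : Set Y))
    (hV' : IsClosed (V' : Set Y)) (h : V ≤ V') : clopenObj V hV ⟶ clopenObj V' hV' :=
  MorphismProperty.Over.homMk (Y.homOfLE h) (by exact Y.homOfLE_ι h) trivial

/-- A finite etale monomorphism is the inclusion of a clopen. -/
theorem exists_iso_clopenObj_of_mono (T : FEt.Cat Y) [Mono T.hom] :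
    ∃ (V : Y.Opens) (hV : IsClosed (V : Set Y)), (V : Set Y) = Set.range T.hom ∧
      Nonempty (T ≅ clopenObj V hV) := by
  have h1 : IsFinite T.hom := T.prop.1
  have h2 : Etale T.hom := T.prop.2
  have h3 : IsOpenImmersion T.hom := IsOpenImmersion.of_flat_of_mono T.hom
  let h : T.left ⟶ Y := T.hom
  have h3' : IsOpenImmersion h := h3
  have hcl : IsClosed (Set.range h) := T.hom.isClosedMap.isClosed_range
  refine ⟨h.opensRange, hcl, rfl, ⟨FEtAffine.isoMk (Scheme.Hom.isoOpensRange h) ?_⟩⟩
  exact Scheme.Hom.isoOpensRange_hom_ι h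

/-- If restriction of finite etale covers along `f` reflects isomorphisms, then a clopen is
empty as soon as its preimage is empty. -/
theorem eq_bot_of_preimage_eq_bot (f : X ⟶ Y) [(FEt.restrict f).ReflectsIsomorphisms]
    (V : Y.Opens) (hV : IsClosed (V : Set Y)) (h : f ⁻¹ᵁ V = ⊥) : V = ⊥ := by
  have hbot : IsClosed ((⊥ : Y.Opens) : Set Y) := by simp
  let a := clopenHom hbot hV bot_le
  have hE : IsEmpty ((FEt.restrict f).obj (clopenObj V hV)).left := by
    constructor
    intro x
    have hx : f (((FEt.restrict f).obj (clopenObj V hV)).hom x) ∈ V := by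
      have := congr($((FEtAffine.isPullback f (clopenObj V hV)).w) x)
      rw [Scheme.Hom.comp_apply, Scheme.Hom.comp_apply] at this
      rw [← this]
      exact (FEtAffine.proj f (clopenObj V hV) x).2
    have hx' : (((FEt.restrict f).obj (clopenObj V hV)).hom x) ∈ f ⁻¹ᵁ V := hx
    rw [h] at hx'
    exact hx'
  have ha : IsIso ((FEt.restrict f).map a).left := isIso_of_isEmpty _
  have ha' : IsIso ((FEt.restrict f).map a) := by
    have : (FEt.restrict f).map a = (FEtAffine.isoMk (asIso ((FEt.restrict f).map a).left)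
      (FEtAffine.hom_w _)).hom := by
      apply MorphismProperty.Over.Hom.ext
      rfl
    rw [this]
    infer_instance
  have hiso : IsIso a := isIso_of_reflects_iso a (FEt.restrict f)
  have hinv : (inv a).left ≫ a.left = 𝟙 _ := by
    rw [← MorphismProperty.Comma.comp_left, IsIso.inv_hom_id]
    rfl
  ext y
  refine ⟨fun hy ↦ ?_, fun hy ↦ False.elim hy⟩
  exact ((inv a).left (⟨y, hy⟩ : V)).2

/-- If a pullback functor on finite etale covers is faithful and every clopen of `X` is (as a
finite etale cover) in the essential image, then every clopen of `X` is the preimage of a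
clopen of `Y`. -/
theorem preimage_clopen_surjective (f : X ⟶ Y) [(FEt.restrict f).Faithful]
    (U : X.Opens) (hU : IsClosed (U : Set X)) (h : (FEt.restrict f).essImage (clopenObj U hU)) :
    ∃ (V : Y.Opens), IsClosed (V : Set Y) ∧ f ⁻¹ᵁ V = U := by
  obtain ⟨T, ⟨e⟩⟩ := h
  -- the self product of `T`
  have hTT : FEt.prop (pullback.fst T.hom T.hom ≫ T.hom) :=
    FEt.prop.comp_mem _ _ (FEt.prop.pullback_fst _ _ T.prop) T.prop
  let TT : FEt.Cat Y := MorphismProperty.Over.mk ⊤ (pullback.fst T.hom T.hom ≫ T.hom) hTT
  let p : TT ⟶ T := MorphismProperty.Over.homMk (pullback.fst T.hom T.hom) rfl trivial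
  let q : TT ⟶ T := MorphismProperty.Over.homMk (pullback.snd T.hom T.hom)
    pullback.condition.symm trivial
  have hmono : Mono ((FEt.restrict f).obj T).hom := by
    have : ((FEt.restrict f).obj T).hom = e.hom.left ≫ U.ι := (FEtAffine.hom_w e.hom).symm
    rw [this]
    have hi : IsIso e.hom.left := ⟨e.inv.left, by
      rw [← MorphismProperty.Comma.comp_left, e.hom_inv_id]; rfl, by
      rw [← MorphismProperty.Comma.comp_left, e.inv_hom_id]; rfl⟩
    have hm : Mono U.ι := inferInstance
    exact @mono_comp _ _ _ _ _ e.hom.left inferInstance U.ι hm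
  have hpq : p = q := by
    apply (FEt.restrict f).map_injective
    apply MorphismProperty.Over.Hom.ext
    rw [← cancel_mono ((FEt.restrict f).obj T).hom]
    exact (FEtAffine.hom_w ((FEt.restrict f).map p)).trans
      (FEtAffine.hom_w ((FEt.restrict f).map q)).symm
  have hpq' : pullback.fst T.hom T.hom = pullback.snd T.hom T.hom := congr(($hpq).left)
  have hT : Mono T.hom := by
    constructor
    intro W g h hgh
    have := congr(pullback.lift g h hgh ≫ $hpq')
    rwa [pullback.lift_fst, pullback.lift_snd] at this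
  obtain ⟨V, hV, hVr, -⟩ := exists_iso_clopenObj_of_mono T
  refine ⟨V, hV, ?_⟩
  apply TopologicalSpace.Opens.ext
  have h1 : Set.range ((FEt.restrict f).obj T).hom = f ⁻¹' (V : Set Y) := by
    rw [hVr]
    exact Scheme.Pullback.range_snd T.hom f
  have h2 : Set.range ((FEt.restrict f).obj T).hom = (U : Set X) := by
    apply Set.Subset.antisymm
    · rintro _ ⟨t, rfl⟩
      have : ((FEt.restrict f).obj T).hom = e.hom.left ≫ U.ι := (FEtAffine.hom_w e.hom).symm
      rw [this]
      exact (e.hom.left t).2
    · intro x hx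
      refine ⟨e.inv.left (⟨x, hx⟩ : U), ?_⟩
      have : e.inv.left ≫ ((FEt.restrict f).obj T).hom = U.ι := FEtAffine.hom_w e.inv
      exact congr($this (⟨x, hx⟩ : U))
  exact h1.symm.trans h2

end Groth.Agent.Pi1A.Clopen
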