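import Mathlib.Topology.Spectral.Prespectral
import Mathlib.Topology.QuasiSeparated
import Mathlib.Topology.Connected.Clopen
import Mathlib.Topology.Connected.TotallyDisconnected
import Mathlib.Topology.Separation.Regular
import Mathlib.Topology.Homeomorph.Lemmas

/-!
# Connected components of quasi-compact quasi-separated prespectral spaces

For instance the underlying space of a qcqs scheme (or a spectral space).

* `connectedComponent_eq_iInter_isClopen`: connected components are intersections of clopens.
* `t2Space_connectedComponents`: the space of connected components is Hausdorff (and compact).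
* `isHomeomorph_connectedComponentsMap`: a continuous map inducing a bijection on clopen subsets
  induces a homeomorphism on the spaces of connected components.
-/

set_option autoImplicit false

open Set TopologicalSpace

namespace Groth.Agent.Pi1A.CompSpectral

variable {X : Type*} [TopologicalSpace X] [CompactSpace X]

omit [CompactSpace X] in
/-- If an intersection of all clopen neighbourhoods of `x` misses a compact set `K`,
one of them does. -/
theorem exists_isClopen_disjoint {x : X} {K : Set X} (hK : IsCompact K)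
    (h : K ∩ ⋂ s : { s : Set X // IsClopen s ∧ x ∈ s }, (s : Set X) = ∅) :
    ∃ s : Set X, IsClopen s ∧ x ∈ s ∧ Disjoint K s := by
  have H1 := hK.inter_iInter_nonempty
    (fun s : { s : Set X // IsClopen s ∧ x ∈ s } => (s : Set X)) fun s => s.2.1.1
  rw [← not_disjoint_iff_nonempty_inter, imp_not_comm, not_forall] at H1
  obtain ⟨si, H2⟩ := H1 (disjoint_iff_inter_eq_empty.mpr h)
  refine ⟨⋂ U ∈ si, Subtype.val U, ?_, ?_, ?_⟩
  · exact isClopen_biInter_finset fun s _ => s.2.1
  · exact mem_iInter₂.2 fun s _ => s.2.2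
  · rwa [disjoint_iff_inter_eq_empty, ← not_nonempty_iff_eq_empty]

variable [QuasiSeparatedSpace X] [PrespectralSpace X]

/-- In a quasi-compact quasi-separated prespectral space, the connected component of a point is the
intersection of its clopen neighbourhoods. -/
theorem connectedComponent_eq_iInter_isClopen (x : X) :
    connectedComponent x = ⋂ s : { s : Set X // IsClopen s ∧ x ∈ s }, (s : Set X) := by
  apply Subset.antisymm connectedComponent_subset_iInter_isClopen
  refine IsPreconnected.subset_connectedComponent ?_ (mem_iInter.2 fun s => s.2.2)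
  set S := ⋂ s : { s : Set X // IsClopen s ∧ x ∈ s }, (s : Set X) with hS
  have hs : IsClosed S := isClosed_iInter fun s => s.2.1.1
  rw [isPreconnected_iff_subset_of_fully_disjoint_closed hs]
  intro a b ha hb hab hdisj
  obtain ⟨U, hUc, hUo, haU, hUb⟩ := PrespectralSpace.exists_isCompact_and_isOpen_between
    (K := S ∩ a) (U := bᶜ) (hs.inter ha).isCompact hb.isOpen_compl
    (fun y hy hyb ↦ disjoint_left.mp hdisj hy.2 hyb)
  obtain ⟨V, hVc, hVo, hbV, hVa⟩ := PrespectralSpace.exists_isCompact_and_isOpen_between
    (K := S ∩ b) (U := aᶜ) (hs.inter hb).isCompact ha.isOpen_compl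
    (fun y hy hya ↦ disjoint_left.mp hdisj hya hy.2)
  have hUV : IsCompact (U ∩ V) := hUc.inter_of_isOpen hVc hUo hVo
  obtain ⟨s₁, hs₁, hxs₁, hd₁⟩ := exists_isClopen_disjoint (x := x) hUV (by
    rw [← hS]
    apply Set.eq_empty_of_forall_notMem
    rintro y ⟨⟨hyU, hyV⟩, hyS⟩
    rcases hab hyS with h | h
    · exact hVa hyV h
    · exact hUb hyU h)
  obtain ⟨s₂, hs₂, hxs₂, hd₂⟩ := exists_isClopen_disjoint (x := x) (K := (U ∪ V)ᶜ)
    (hUo.union hVo).isClosed_compl.isCompact (by
    rw [← hS]
    apply Set.eq_empty_of_forall_notMem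
    rintro y ⟨hy, hyS⟩
    rcases hab hyS with h | h
    · exact hy (Or.inl (haU ⟨hyS, h⟩))
    · exact hy (Or.inr (hbV ⟨hyS, h⟩)))
  have hs₂' : s₂ ⊆ U ∪ V := disjoint_compl_left_iff_subset.mp hd₂
  have hs12 : IsClopen (s₁ ∩ s₂) := hs₁.inter hs₂
  have hcov : s₁ ∩ s₂ ⊆ (s₁ ∩ s₂ ∩ U) ∪ (s₁ ∩ s₂ ∩ V) := by
    intro y hy
    rcases hs₂' hy.2 with h | h
    · exact Or.inl ⟨hy, h⟩
    · exact Or.inr ⟨hy, h⟩
  have hdis : Disjoint (s₁ ∩ s₂ ∩ U) (s₁ ∩ s₂ ∩ V) := by
    rw [disjoint_left]
    intro y hy hy'
    exact disjoint_left.mp hd₁ ⟨hy.2, hy'.2⟩ hy.1.1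
  have h1 := isClopen_inter_of_disjoint_cover_clopen hs12 hcov (hs12.isOpen.inter hUo)
    (hs12.isOpen.inter hVo) hdis
  have h2 := isClopen_inter_of_disjoint_cover_clopen hs12 (by rwa [union_comm] at hcov)
    (hs12.isOpen.inter hVo) (hs12.isOpen.inter hUo) hdis.symm
  rcases hcov ⟨hxs₁, hxs₂⟩ with hx | hx
  · left
    intro y hy
    have := mem_iInter.mp hy ⟨_, h1, ⟨hx.1, hx⟩⟩
    exact (hab hy).resolve_right (hUb this.2.2)
  · right
    intro y hy
    have := mem_iInter.mp hy ⟨_, h2, ⟨hx.1, hx⟩⟩
    exact (hab hy).resolve_left (hVa this.2.2)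

/-- Points in different connected components are separated by clopens. -/
theorem exists_isClopen_of_connectedComponent_ne {x y : X}
    (h : connectedComponent x ≠ connectedComponent y) :
    ∃ s : Set X, IsClopen s ∧ x ∈ s ∧ y ∉ s := by
  by_contra! hcon
  apply h
  have : y ∈ connectedComponent x := by
    rw [connectedComponent_eq_iInter_isClopen, mem_iInter]
    exact fun s ↦ hcon s.1 s.2.1 s.2.2
  exact connectedComponent_eq this

/-- The space of connected components of a quasi-compact quasi-separated prespectral space is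
Hausdorff. -/
theorem t2Space_connectedComponents : T2Space (ConnectedComponents X) := by
  refine ⟨ConnectedComponents.surjective_coe.forall₂.2 fun a b ne => ?_⟩
  rw [ConnectedComponents.coe_ne_coe] at ne
  obtain ⟨U, hU, haU, hbU⟩ := exists_isClopen_of_connectedComponent_ne ne
  have hUV : ((↑) : X → ConnectedComponents X) ⁻¹' ((↑) '' U) = U :=
    (connectedComponents_preimage_image U).trans hU.biUnion_connectedComponent_eq
  have hV : IsClopen (((↑) : X → ConnectedComponents X) '' U) := by
    rw [← ConnectedComponents.isQuotientMap_coe.isClopen_preimage, hUV]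
    exact hU
  refine ⟨(↑) '' U, ((↑) '' U)ᶜ, hV.isOpen, hV.compl.isOpen, ⟨a, haU, rfl⟩, ?_,
    disjoint_compl_right⟩
  intro hb
  exact hbU (hUV ▸ hb : b ∈ U)

/-- A continuous map between qcqs prespectral spaces which induces a bijection on clopens induces
a homeomorphism on spaces of connected components. -/
theorem isHomeomorph_connectedComponentsMap {Y : Type*} [TopologicalSpace Y] [CompactSpace Y]
    [QuasiSeparatedSpace Y] [PrespectralSpace Y] {f : X → Y} (hf : Continuous f)
    (hinj : ∀ V : Set Y, IsClopen V → f ⁻¹' V = ∅ → V = ∅)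
    (hsurj : ∀ U : Set X, IsClopen U → ∃ V : Set Y, IsClopen V ∧ f ⁻¹' V = U) :
    IsHomeomorph hf.connectedComponentsMap := by
  have hT2 : T2Space (ConnectedComponents Y) := t2Space_connectedComponents
  rw [isHomeomorph_iff_continuous_bijective]
  refine ⟨hf.connectedComponentsMap_continuous, ?_, ?_⟩
  · refine ConnectedComponents.surjective_coe.forall₂.2 fun a b hab ↦ ?_
    rw [hf.connectedComponentsMap_mk, hf.connectedComponentsMap_mk] at hab
    by_contra hne
    rw [← ne_eq, ConnectedComponents.coe_ne_coe] at hne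
    obtain ⟨U, hU, haU, hbU⟩ := exists_isClopen_of_connectedComponent_ne hne
    obtain ⟨V, hV, rfl⟩ := hsurj U hU
    rw [ConnectedComponents.coe_eq_coe] at hab
    exact hbU (hV.connectedComponent_subset haU (hab ▸ mem_connectedComponent))
  · refine ConnectedComponents.surjective_coe.forall.2 fun y ↦ ?_
    suffices ∃ x : X, f x ∈ connectedComponent y by
      obtain ⟨x, hx⟩ := this
      exact ⟨x, by
        rw [hf.connectedComponentsMap_mk, ConnectedComponents.coe_eq_coe]
        exact (connectedComponent_eq hx).symm⟩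
    by_contra! hcon
    have : (univ : Set X) ∩ ⋂ s : { s : Set Y // IsClopen s ∧ y ∈ s }, f ⁻¹' (s : Set Y) = ∅ := by
      apply Set.eq_empty_of_forall_notMem
      rintro x ⟨-, hx⟩
      apply hcon x
      rw [connectedComponent_eq_iInter_isClopen, mem_iInter]
      exact fun s ↦ mem_iInter.mp hx s
    have H1 := isCompact_univ.inter_iInter_nonempty
      (fun s : { s : Set Y // IsClopen s ∧ y ∈ s } => f ⁻¹' (s : Set Y))
      fun s => s.2.1.1.preimage hf
    rw [← not_disjoint_iff_nonempty_inter, imp_not_comm, not_forall] at H1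
    obtain ⟨si, H2⟩ := H1 (disjoint_iff_inter_eq_empty.mpr this)
    rw [not_nonempty_iff_eq_empty] at H2
    have hcl : IsClopen (⋂ U ∈ si, (U : Set Y)) := isClopen_biInter_finset fun s _ => s.2.1
    have hy : y ∈ (⋂ U ∈ si, (U : Set Y)) := mem_iInter₂.2 fun s _ => s.2.2
    rw [hinj _ hcl (by
      rw [univ_inter] at H2
      rw [← H2]
      simp only [preimage_iInter])] at hy
    exact hy

end Groth.Agent.Pi1A.CompSpectral
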