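import Mathlib.RingTheory.Smooth.StandardSmoothOfFree
import Mathlib.RingTheory.Extension.Presentation.Core
import Mathlib.RingTheory.Etale.Basic

/-!
# Lifting étale algebras along surjections (Stacks 04D1)

If `R₀ → R` is a surjective ring map and `S` is an étale `R`-algebra, then there is an étale
`R₀`-algebra `E` with `R ⊗[R₀] E ≃ₐ[R] S`.
-/

open TensorProduct

namespace Groth.Agent.Pi1A.EtaleLift

universe u v w

theorem exists_etale_lift {R₀ : Type u} {R : Type v} [CommRing R₀] [CommRing R] [Algebra R₀ R]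
    (h : Function.Surjective (algebraMap R₀ R)) (S : Type w) [CommRing S] [Algebra R S]
    [Algebra.Etale R S] :
    ∃ (E : Type u) (_ : CommRing E) (_ : Algebra R₀ E), Algebra.Etale R₀ E ∧
      Nonempty (R ⊗[R₀] E ≃ₐ[R] S) := by
  classical
  have hst : Algebra.IsStandardSmoothOfRelativeDimension 0 R S :=
    Algebra.Etale.iff_isStandardSmoothOfRelativeDimension_zero.mp inferInstance
  obtain ⟨ι, σ, _, _, P, hP⟩ := hst.out
  cases nonempty_fintype σ
  let _ : Algebra R₀ S := ((algebraMap R S).comp (algebraMap R₀ R)).toAlgebra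
  have : IsScalarTower R₀ R S := IsScalarTower.of_algebraMap_eq' rfl
  have hc : P.HasCoeffs R₀ := ⟨by intro x _; exact h x⟩
  let Q := P.toPreSubmersivePresentation.ofHasCoeffs R₀
  let M := P.ModelOfHasCoeffs R₀
  let J : M := Q.jacobian
  let e : R ⊗[R₀] M ≃ₐ[R] S := P.tensorModelOfHasCoeffsEquiv R₀
  have hJ : e (1 ⊗ₜ J) = P.jacobian := by
    have h1 : J = Ideal.Quotient.mk _ (Q.jacobiMatrix.det : MvPolynomial ι R₀) :=
      Q.jacobian_eq_jacobiMatrix_det
    rw [h1, P.jacobian_eq_jacobiMatrix_det]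
    have h2 := Algebra.Presentation.tensorModelOfHasCoeffsEquiv_tmul
      (P := P.toPresentation) R₀ (1 : R) (Q.jacobiMatrix.det : MvPolynomial ι R₀)
    refine h2.trans ?_
    rw [map_one, one_mul, ← MvPolynomial.aeval_map_algebraMap R]
    have h3 : MvPolynomial.map (algebraMap R₀ R) (Q.jacobiMatrix.det : MvPolynomial ι R₀) =
        P.jacobiMatrix.det := by
      refine (RingHom.map_det (MvPolynomial.map (algebraMap R₀ R)) Q.jacobiMatrix).trans ?_
      congr 1
      ext1 i j
      rw [RingHom.mapMatrix_apply, Matrix.map_apply,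
        Algebra.PreSubmersivePresentation.jacobiMatrix_apply,
        Algebra.PreSubmersivePresentation.jacobiMatrix_apply]
      change MvPolynomial.map (algebraMap R₀ R)
        (MvPolynomial.pderiv (P.map i) (P.relationOfHasCoeffs R₀ j)) = _
      rw [← MvPolynomial.pderiv_map, Algebra.Presentation.map_relationOfHasCoeffs]
    rw [h3]
    exact (P.algebraMap_apply _).symm
  have hJu : IsUnit ((1 : R) ⊗ₜ[R₀] J) := by
    have := P.jacobian_isUnit.map e.symm
    rwa [← hJ, AlgEquiv.symm_apply_apply] at this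
  let E := Localization.Away J
  let LA : Algebra.PreSubmersivePresentation M E Unit Unit :=
    Algebra.PreSubmersivePresentation.localizationAway E J
  refine ⟨E, inferInstance, inferInstance, ?_, ?_⟩
  · rw [Algebra.Etale.iff_isStandardSmoothOfRelativeDimension_zero]
    let C := LA.comp Q
    have hC : IsUnit C.jacobian := by
      rw [Algebra.PreSubmersivePresentation.comp_jacobian_eq_jacobian_smul_jacobian,
        Algebra.smul_def, IsUnit.mul_iff]
      constructor
      · exact IsLocalization.Away.algebraMap_isUnit J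
      · rw [Algebra.PreSubmersivePresentation.localizationAway_jacobian]
        exact IsLocalization.Away.algebraMap_isUnit J
    let C' : Algebra.SubmersivePresentation R₀ E (Unit ⊕ ι) (Unit ⊕ σ) := ⟨C, hC⟩
    refine ⟨Unit ⊕ ι, Unit ⊕ σ, inferInstance, inferInstance, C', ?_⟩
    have hd : P.dimension = Nat.card ι - Nat.card σ := rfl
    change Nat.card (Unit ⊕ ι) - Nat.card (Unit ⊕ σ) = 0
    rw [hd] at hP
    rw [Nat.card_sum, Nat.card_sum]
    lia
  · have e1 : R ⊗[R₀] E ≃ₐ[R] Localization.Away ((1 : R) ⊗ₜ[R₀] J) :=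
      IsLocalization.Away.tensorProductEquivTMulRight R₀ R J E
    have e2 : R ⊗[R₀] M ≃ₐ[R] Localization.Away ((1 : R) ⊗ₜ[R₀] J) :=
      (IsLocalization.atUnits (R ⊗[R₀] M) (Submonoid.powers ((1 : R) ⊗ₜ[R₀] J)) (by
        rintro _ ⟨n, rfl⟩
        exact hJu.pow n)).restrictScalars R
    exact ⟨(e1.trans e2.symm).trans e⟩

end Groth.Agent.Pi1A.EtaleLift
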