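import Groth.Agent.CalgA.RegSerre
import Mathlib.RingTheory.Depth.Rees
import Mathlib.RingTheory.Regular.ProjectiveDimension
import Mathlib.Algebra.Homology.DerivedCategory.Ext.Linear

/-!
# Lifting homomorphisms along `R/(f) → R/(f,t)`

`R` regular local of dimension `n + 2`, `f₁, …, fₙ ∈ I`, `(f, t)` a regular sequence in `R` and `R/I`
of depth at least two, with regular sequence `(t, u)`. Then `Hom(R/I, R/(f)) → Hom(R/I, R/(f,t))` is
surjective.
-/

set_option autoImplicit false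
universe u

open CategoryTheory CategoryTheory.Abelian RingTheory.Sequence Ideal IsLocalRing

namespace Groth.Agent.Pi1A.ExtLift

variable {R : Type u} [CommRing R]

/-- multiplication by `t` is injective on all `Ext^j(B, M)` -/
def Inj (t : R) (B M : ModuleCat.{u} R) : Prop := ∀ (j : ℕ) (e : Ext B M j), t • e = 0 → e = 0

theorem smul_eq_zero_of_ann {x : R} {B : ModuleCat.{u} R} (hx : ∀ b : B, x • b = 0)
    {M : ModuleCat.{u} R} {j : ℕ} (e : Ext B M j) : x • e = 0 := by
  have h1 : x • (𝟙 B) = 0 := by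
    ext b
    exact hx b
  have h2 : x • e = (Ext.mk₀ (x • 𝟙 B)).comp e (zero_add j) := by
    rw [Ext.mk₀_smul, Ext.smul_comp, Ext.mk₀_id_comp]
  rw [h2, h1, Ext.mk₀_zero, Ext.zero_comp]

theorem comp_smul_id {B M : ModuleCat.{u} R} (x : R) {j : ℕ} (e : Ext B M j) :
    e.comp (Ext.mk₀ (x • 𝟙 M)) (add_zero j) = x • e :=
  (Ext.smul_eq_comp_mk₀ e x).symm

theorem Inj.X₃ {t : R} {B : ModuleCat.{u} R} {S : ShortComplex (ModuleCat.{u} R)}
    (hS : S.ShortExact) (hf : ∀ (j : ℕ) (e : Ext B S.X₁ j),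
      e.comp (Ext.mk₀ S.f) (add_zero j) = 0)
    (ht₁ : Inj t B S.X₁) (ht₂ : Inj t B S.X₂) : Inj t B S.X₃ := by
  intro j e he
  have h1 : e.comp hS.extClass rfl = 0 := by
    apply ht₁
    rw [← Ext.smul_comp, he, Ext.zero_comp]
  obtain ⟨e₂, he₂⟩ := Ext.covariant_sequence_exact₃ B hS e rfl h1
  have h2 : (t • e₂).comp (Ext.mk₀ S.g) (add_zero j) = 0 := by
    rw [Ext.smul_comp, he₂]
    exact he
  obtain ⟨e₁, he₁⟩ := Ext.covariant_sequence_exact₂ B hS (t • e₂) h2
  have h3 : t • e₂ = 0 := by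
    rw [← he₁, hf]
  rw [← he₂, ht₂ j e₂ h3, Ext.zero_comp]

theorem Inj.quot {t x : R} {B M : ModuleCat.{u} R} (hx : ∀ b : B, x • b = 0)
    (hM : IsSMulRegular M x) (ht : Inj t B M) :
    Inj t B (ModuleCat.of R (QuotSMulTop x M)) := by
  have hS := hM.smulShortComplex_shortExact
  refine Inj.X₃ (S := ModuleCat.smulShortComplex M x) hS ?_ ht ht
  intro j e
  have h1 : e.comp (Ext.mk₀ (ModuleCat.smulShortComplex M x).f) (add_zero j) = x • e :=
    comp_smul_id x e
  exact h1.trans (smul_eq_zero_of_ann hx e)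

theorem Inj.of_iso {t : R} {B M N : ModuleCat.{u} R} (i : M ≅ N) (ht : Inj t B M) : Inj t B N := by
  intro j e he
  have h1 : t • (e.comp (Ext.mk₀ i.inv) (add_zero j)) = 0 := by
    rw [← Ext.smul_comp, he, Ext.zero_comp]
  have h2 := ht j _ h1
  have h3 : (e.comp (Ext.mk₀ i.inv) (add_zero j)).comp (Ext.mk₀ i.hom) (add_zero j) = e := by
    rw [Ext.comp_assoc_of_second_deg_zero, Ext.mk₀_comp_mk₀, i.inv_hom_id, Ext.comp_mk₀_id]
  rw [← h3, h2, Ext.zero_comp]

theorem Inj.quot_list {t : R} {B : ModuleCat.{u} R} (rs : List R) :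
    ∀ (M : ModuleCat.{u} R), (∀ r ∈ rs, ∀ b : B, r • b = 0) → IsWeaklyRegular M rs → Inj t B M →
      Inj t B (ModuleCat.of R (M ⧸ (ofList rs • (⊤ : Submodule R M)))) := by
  induction rs with
  | nil =>
    intro M _ _ ht
    apply Inj.of_iso _ ht
    have : (ofList ([] : List R) • (⊤ : Submodule R M)) = ⊥ := by
      rw [Ideal.ofList_nil, Submodule.bot_smul]
    exact (Submodule.quotEquivOfEqBot _ this).symm.toModuleIso
  | cons x rs ih =>
    intro M hx hreg ht
    rw [isWeaklyRegular_cons_iff] at hreg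
    have h1 := Inj.quot (hx x (by simp)) hreg.1 ht
    have h2 := ih (ModuleCat.of R (QuotSMulTop x M)) (fun r hr => hx r (by simp [hr])) hreg.2 h1
    exact h2.of_iso (Submodule.quotOfListConsSMulTopEquivQuotSMulTopInner M x rs).symm.toModuleIso

theorem exists_lift' {t : R} {B : ModuleCat.{u} R} {S : ShortComplex (ModuleCat.{u} R)}
    (hS : S.ShortExact) (hf : ∀ (e : Ext B S.X₁ 1),
      e.comp (Ext.mk₀ S.f) (add_zero 1) = 0 → t • e = 0)
    (ht : Inj t B S.X₁) (φ : B ⟶ S.X₃) :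
    ∃ ψ : B ⟶ S.X₂, ψ ≫ S.g = φ := by
  have h1 : (Ext.mk₀ φ).comp hS.extClass (rfl : 0 + 1 = 1) = 0 := by
    apply ht
    apply hf
    rw [Ext.comp_assoc_of_third_deg_zero, hS.extClass_comp, Ext.comp_zero]
  obtain ⟨ψ, hψ⟩ := Ext.covariant_sequence_exact₃ B hS (Ext.mk₀ φ) rfl h1
  obtain ⟨ψ', rfl⟩ := Ext.addEquiv₀.symm.surjective ψ
  refine ⟨ψ', ?_⟩
  apply Ext.addEquiv₀.symm.injective
  have h4 : (Ext.mk₀ ψ').comp (Ext.mk₀ S.g) (add_zero 0) = Ext.mk₀ φ := hψ
  rw [Ext.mk₀_comp_mk₀] at h4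
  exact h4

/-- lifting of homomorphisms -/
theorem exists_lift {t : R} {B N : ModuleCat.{u} R} (ht : Inj t B N) (hN : IsSMulRegular N t)
    (φ : B ⟶ ModuleCat.of R (QuotSMulTop t N)) :
    ∃ ψ : B ⟶ N, ψ ≫ (ModuleCat.smulShortComplex N t).g = φ := by
  refine exists_lift' (S := ModuleCat.smulShortComplex N t) (t := t)
    hN.smulShortComplex_shortExact ?_ ht φ
  intro e he
  have h1 : e.comp (Ext.mk₀ (ModuleCat.smulShortComplex N t).f) (add_zero 1) = t • e :=
    comp_smul_id t e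
  exact h1.symm.trans he

/-- multiplication by `t` is injective on `Ext^j(B, R)` if `R` is regular of dimension `n + 2`,
`(f₁, …, fₙ, t)` is an `R`-regular sequence killing `B / t B` and `(t, u)` is `B`-regular. -/
theorem inj_self [IsRegularLocalRing R] (n : ℕ) (hdim : ringKrullDim R = (n + 2 : ℕ))
    (B : ModuleCat.{u} R) [Module.Finite R B] [Nontrivial B] (rs : List R) (hlen : rs.length = n)
    (t u : R) (ht : t ∈ maximalIdeal R) (hu : u ∈ maximalIdeal R)
    (hrs : ∀ r ∈ rs, r ∈ maximalIdeal R)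
    (hreg : IsWeaklyRegular R (rs ++ [t])) (hrsB : ∀ r ∈ rs, ∀ b : B, r • b = 0)
    (hB : IsWeaklyRegular B [t, u]) :
    Inj t B (ModuleCat.of R R) := by
  -- projective dimension of `B` is at most `n`
  have hpd : HasProjectiveDimensionLT B (n + 1) := by
    have h1 := ModuleCat.projectiveDimension_quotient_eq_add_length_of_isWeaklyRegular B [t, u] hB
      (by
        intro r hr
        simp only [List.mem_cons, List.not_mem_nil, or_false] at hr
        rcases hr with rfl | rfl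
        · exact ht
        · exact hu)
    have h2 : HasProjectiveDimensionLT (ModuleCat.of R (B ⧸ ofList [t, u] • (⊤ : Submodule R B)))
        ((n + 2) + 1) :=
      Groth.Agent.CalgA.RegSerre.PD_of_isRegularLocalRing R (n + 2) hdim _
    have h3 : projectiveDimension (ModuleCat.of R (B ⧸ ofList [t, u] • (⊤ : Submodule R B))) ≤
        ((n + 2 : ℕ) : WithBot ℕ∞) := (projectiveDimension_le_iff _ _).mpr h2
    rw [h1] at h3
    have h4 : projectiveDimension B ≤ ((n : ℕ) : WithBot ℕ∞) := by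
      have h5 : projectiveDimension B + ((2 : ℕ) : WithBot ℕ∞) ≤
          ((n : ℕ) : WithBot ℕ∞) + ((2 : ℕ) : WithBot ℕ∞) := by
        have : ((n : ℕ) : WithBot ℕ∞) + ((2 : ℕ) : WithBot ℕ∞) = ((n + 2 : ℕ) : WithBot ℕ∞) := by
          push_cast; rfl
        rw [this]
        simpa using h3
      exact (ENat.WithBot.add_le_add_natCast_right_iff).mp h5
    exact (projectiveDimension_le_iff _ _).mp h4
  have htB : IsSMulRegular B t := ((isWeaklyRegular_cons_iff B t [u]).mp hB).1
  intro j e he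
  by_cases hj : n + 1 ≤ j
  · have : Subsingleton (Ext B (ModuleCat.of R R) j) :=
      HasProjectiveDimensionLT.subsingleton B (n + 1) j hj _
    exact Subsingleton.elim _ _
  · push Not at hj
    have hS := htB.smulShortComplex_shortExact
    have h1 : (Ext.mk₀ (ModuleCat.smulShortComplex B t).f).comp e (zero_add j) = 0 := by
      have h2 : (Ext.mk₀ (ModuleCat.smulShortComplex B t).f).comp e (zero_add j) = t • e := by
        have h3 : (Ext.mk₀ (t • 𝟙 B)).comp e (zero_add j) = t • e := by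
          rw [Ext.mk₀_smul, Ext.smul_comp, Ext.mk₀_id_comp]
        exact h3
      exact h2.trans he
    obtain ⟨e₃, he₃⟩ := Ext.contravariant_sequence_exact₂ hS (ModuleCat.of R R) e h1
    have hsub : Subsingleton (Ext (ModuleCat.of R (QuotSMulTop t B)) (ModuleCat.of R R) j) := by
      have hmem : ∀ r ∈ rs ++ [t], r ∈ maximalIdeal R := by
        intro r hr
        rw [List.mem_append, List.mem_singleton] at hr
        rcases hr with hr | rfl
        · exact hrs r hr
        · exact ht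
      apply ModuleCat.subsingleton_ext_of_exists_isRegular (ofList (rs ++ [t]))
        (ModuleCat.of R (QuotSMulTop t B)) _ (ModuleCat.of R R) _ (rs ++ [t])
        (fun r hr => subset_span hr)
        (IsRegular.of_isWeaklyRegular_of_mem_maximalIdeal R hmem hreg) j
        (by rw [List.length_append, hlen]; simpa using hj)
      · rw [Module.support_eq_zeroLocus]
        apply PrimeSpectrum.zeroLocus_anti_mono
        show (ofList (rs ++ [t]) : Set R) ⊆ _
        unfold Ideal.ofList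
        rw [SetLike.coe_subset_coe, span_le]
        intro r hr
        have hr' : r ∈ rs ++ [t] := hr
        rw [List.mem_append, List.mem_singleton] at hr'
        rw [SetLike.mem_coe, Module.mem_annihilator]
        intro b
        obtain ⟨b, rfl⟩ := Submodule.mkQ_surjective _ b
        rcases hr' with hr' | rfl
        · rw [← map_smul, hrsB r hr', map_zero]
        · rw [← map_smul, Submodule.mkQ_apply, Submodule.Quotient.mk_eq_zero]
          exact Submodule.smul_mem_pointwise_smul _ _ _ trivial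
      · rw [smul_eq_mul, Ideal.mul_top, lt_top_iff_ne_top]
        intro h
        have : ofList (rs ++ [t]) ≤ maximalIdeal R := by
          unfold Ideal.ofList
          rw [span_le]
          exact hmem
        rw [h, top_le_iff] at this
        exact (maximalIdeal.isMaximal R).ne_top this
    have h5 : e₃ = 0 := @Subsingleton.elim _ hsub _ _
    rw [← he₃, h5]
    exact Ext.comp_zero _ _ _ _ _

open Pointwise in
theorem exists_lift_lin {t : R} {B N : Type u} [AddCommGroup B] [Module R B] [AddCommGroup N]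
    [Module R N] (ht : Inj t (ModuleCat.of R B) (ModuleCat.of R N)) (hN : IsSMulRegular N t)
    (φ : B →ₗ[R] QuotSMulTop t N) :
    ∃ ψ : B →ₗ[R] N, ∀ b, (Submodule.mkQ (t • (⊤ : Submodule R N))) (ψ b) = φ b := by
  obtain ⟨ψ, hψ⟩ := exists_lift (B := ModuleCat.of R B) (N := ModuleCat.of R N) ht hN
    (ModuleCat.ofHom φ)
  refine ⟨ψ.hom, fun b => ?_⟩
  exact congrArg (fun f => f.hom b) hψ

open Pointwise in
theorem mkQ_mkQ_eq_zero_iff (J : Ideal R) (t x : R) :
    (Submodule.mkQ (t • (⊤ : Submodule R (R ⧸ J)))) (Ideal.Quotient.mk J x) = 0 ↔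
      x ∈ J ⊔ span {t} := by
  rw [Submodule.mkQ_apply, Submodule.Quotient.mk_eq_zero, Submodule.mem_smul_pointwise_iff_exists]
  constructor
  · rintro ⟨c, -, hc⟩
    obtain ⟨c, rfl⟩ := Ideal.Quotient.mk_surjective c
    have h1 : t • (Ideal.Quotient.mk J c) = Ideal.Quotient.mk J (t * c) := rfl
    rw [h1, Ideal.Quotient.eq] at hc
    have h5 : x = -(t * c - x) + t * c := by ring
    rw [h5]
    exact Submodule.add_mem_sup (Ideal.neg_mem_iff _ |>.mpr hc)
      (Ideal.mul_mem_right _ _ (Ideal.mem_span_singleton_self t))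
  · intro hx
    obtain ⟨y, hy, z, hz, rfl⟩ := Submodule.mem_sup.mp hx
    obtain ⟨c, rfl⟩ := Ideal.mem_span_singleton.mp hz
    refine ⟨Ideal.Quotient.mk J c, trivial, ?_⟩
    rw [map_add, Ideal.Quotient.eq_zero_iff_mem.mpr hy, zero_add]
    rfl

open Pointwise in
theorem lift_colon_aux (I J : Ideal R) (t g : R) (hN : IsSMulRegular (R ⧸ J) t)
    (hInj : Inj t (ModuleCat.of R (R ⧸ I)) (ModuleCat.of R (R ⧸ J)))
    (hg : ∀ i ∈ I, g * i ∈ J ⊔ span {t}) :
    ∃ g' : R, g - g' ∈ J ⊔ span {t} ∧ ∀ i ∈ I, g' * i ∈ J := by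
  let q : (R ⧸ J) →ₗ[R] QuotSMulTop t (R ⧸ J) := Submodule.mkQ (t • (⊤ : Submodule R (R ⧸ J)))
  have hq : ∀ x : R, q (Ideal.Quotient.mk J x) = 0 ↔ x ∈ J ⊔ span {t} :=
    mkQ_mkQ_eq_zero_iff J t
  -- the homomorphism `1 ↦ g`
  let φ₀ : R →ₗ[R] QuotSMulTop t (R ⧸ J) :=
    LinearMap.toSpanSingleton R _ (q (Ideal.Quotient.mk J g))
  have hφ₀ : I ≤ LinearMap.ker φ₀ := by
    intro i hi
    rw [LinearMap.mem_ker]
    have h1 : φ₀ i = q (Ideal.Quotient.mk J (g * i)) := by
      show i • q (Ideal.Quotient.mk J g) = _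
      rw [← map_smul, mul_comm]
      rfl
    rw [h1, hq]
    exact hg i hi
  obtain ⟨ψ, hψ⟩ := exists_lift_lin hInj hN (Submodule.liftQ I φ₀ hφ₀)
  obtain ⟨g', hg'⟩ := Ideal.Quotient.mk_surjective (ψ (Ideal.Quotient.mk I 1))
  refine ⟨g', ?_, ?_⟩
  · have h3 : q (ψ (Ideal.Quotient.mk I 1)) = q (Ideal.Quotient.mk J g) := by
      have h4 := hψ (Ideal.Quotient.mk I 1)
      have h5 : (Submodule.liftQ I φ₀ hφ₀) (Ideal.Quotient.mk I 1) = φ₀ 1 := rfl
      have h6 : φ₀ 1 = q (Ideal.Quotient.mk J g) := one_smul _ _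
      exact h4.trans (h5.trans h6)
    rw [← hq, map_sub, map_sub, hg', h3, sub_self]
  · intro i hi
    have h3 : i • (ψ (Ideal.Quotient.mk I 1)) = 0 := by
      rw [← map_smul]
      have h4 : i • (Ideal.Quotient.mk I 1) = 0 := by
        have h5 : i • (Ideal.Quotient.mk I 1) = Ideal.Quotient.mk I (i * 1) := rfl
        rw [h5, Ideal.Quotient.eq_zero_iff_mem, mul_one]
        exact hi
      rw [h4, map_zero]
    rw [← hg'] at h3
    have h5 : i • (Ideal.Quotient.mk J g') = Ideal.Quotient.mk J (g' * i) := by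
      rw [mul_comm]; rfl
    rwa [h5, Ideal.Quotient.eq_zero_iff_mem] at h3

theorem isWeaklyRegular_self_append (rs : List R) (t : R) :
    IsWeaklyRegular R (rs ++ [t]) ↔ IsWeaklyRegular R rs ∧ IsSMulRegular (R ⧸ ofList rs) t := by
  rw [isWeaklyRegular_append_iff, isWeaklyRegular_singleton_iff]
  have h : (ofList rs • (⊤ : Submodule R R)) = ofList rs := by
    rw [smul_eq_mul, Ideal.mul_top]
  rw [(Submodule.quotEquivOfEq _ _ h).isSMulRegular_congr]

/-- **Lifting lemma**: if `g I ⊆ (f) + (t)` then `g ≡ g̃ mod (f) + (t)` with `g̃ I ⊆ (f)`. -/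
theorem lift_colon [IsRegularLocalRing R] (n : ℕ) (hdim : ringKrullDim R = (n + 2 : ℕ))
    (I : Ideal R) (rs : List R) (hlen : rs.length = n) (hI : I ≤ maximalIdeal R)
    (hrs : ∀ r ∈ rs, r ∈ I) (t u : R) (ht : t ∈ maximalIdeal R) (hu : u ∈ maximalIdeal R)
    (hreg : IsWeaklyRegular R (rs ++ [t])) (hB : IsWeaklyRegular (R ⧸ I) [t, u])
    (g : R) (hg : ∀ i ∈ I, g * i ∈ ofList rs ⊔ span {t}) :
    ∃ g' : R, g - g' ∈ ofList rs ⊔ span {t} ∧ ∀ i ∈ I, g' * i ∈ ofList rs := by
  have hInt : I ≠ ⊤ := fun h => (maximalIdeal.isMaximal R).ne_top (top_le_iff.mp (h ▸ hI))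
  have hnt : Nontrivial (R ⧸ I) := Ideal.Quotient.nontrivial_iff.mpr hInt
  have hann : ∀ r ∈ rs, ∀ b : R ⧸ I, r • b = 0 := by
    intro r hr b
    obtain ⟨b, rfl⟩ := Ideal.Quotient.mk_surjective b
    have h5 : r • (Ideal.Quotient.mk I b) = Ideal.Quotient.mk I (r * b) := rfl
    rw [h5, Ideal.Quotient.eq_zero_iff_mem]
    exact Ideal.mul_mem_right _ _ (hrs r hr)
  have h1 : Inj t (ModuleCat.of R (R ⧸ I)) (ModuleCat.of R R) :=
    inj_self n hdim (ModuleCat.of R (R ⧸ I)) rs hlen t u ht hu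
      (fun r hr => hI (hrs r hr)) hreg hann hB
  have hreg' := (isWeaklyRegular_self_append rs t).mp hreg
  have h2 : Inj t (ModuleCat.of R (R ⧸ I)) (ModuleCat.of R (R ⧸ ofList rs)) := by
    have h3 := Inj.quot_list rs (ModuleCat.of R R) hann hreg'.1 h1
    have h : (ofList rs • (⊤ : Submodule R R)) = ofList rs := by
      rw [smul_eq_mul, Ideal.mul_top]
    exact h3.of_iso (Submodule.quotEquivOfEq _ _ h).toModuleIso
  exact lift_colon_aux I (ofList rs) t g hreg'.2 h2 hg

end Groth.Agent.Pi1A.ExtLift
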