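import Groth.Agent.Pi1A.IsoAway
import Mathlib.AlgebraicGeometry.Morphisms.QuasiSeparated
import Mathlib.AlgebraicGeometry.Morphisms.Affine
import Mathlib.AlgebraicGeometry.Morphisms.IsIso
import Mathlib.AlgebraicGeometry.QuasiAffine

/-!
# Maps to an affine scheme which are isomorphisms over basic opens
-/

set_option autoImplicit false

universe u

open AlgebraicGeometry CategoryTheory Limits TopologicalSpace

namespace Groth.Agent.Pi1A.QAffGlue

open IsoAway

variable {W Y : Scheme.{u}}

lemma isLocalization_top [CompactSpace W] [QuasiSeparatedSpace W] (f : Γ(W, ⊤)) :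
    IsLocalization.Away f Γ(W, W.basicOpen f) :=
  isLocalization_basicOpen_of_qcqs CompactSpace.isCompact_univ isQuasiSeparated_univ f

/-- For a morphism of qcqs schemes, `g.app (D f)` is an isomorphism iff the map on global sections
becomes bijective after inverting `f`. -/
lemma isIso_app_basicOpen_iff [CompactSpace W] [QuasiSeparatedSpace W] [CompactSpace Y]
    [QuasiSeparatedSpace Y] (g : W ⟶ Y) (f : Γ(Y, ⊤)) :
    IsIso (g.app (Y.basicOpen f)) ↔ IsoAway g.appTop.hom f := by
  have h1 : IsLocalization.Away f Γ(Y, Y.basicOpen f) := isLocalization_top f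
  have h2 : IsLocalization.Away (g.appTop f) Γ(W, W.basicOpen (g.appTop f)) :=
    isLocalization_top (g.appTop f)
  have hle : g ⁻¹ᵁ Y.basicOpen f = W.basicOpen (g.appTop f) := Scheme.preimage_basicOpen_top g f
  have hle' : W.basicOpen (g.appTop f) ≤ g ⁻¹ᵁ Y.basicOpen f := hle.ge
  -- reduce to `appLE`
  have hiso : IsIso (g.app (Y.basicOpen f)) ↔
      IsIso (g.appLE (Y.basicOpen f) (W.basicOpen (g.appTop f)) hle') := by
    have h3 : g.appLE (Y.basicOpen f) (W.basicOpen (g.appTop f)) hle' =
      g.app (Y.basicOpen f) ≫ W.presheaf.map (eqToHom hle.symm).op := by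
      rw [Scheme.Hom.appLE]; rfl
    rw [h3]
    exact (isIso_comp_right_iff _ _).symm
  rw [hiso, ConcreteCategory.isIso_iff_bijective]
  let alg : Algebra Γ(Y, ⊤) Γ(W, W.basicOpen (g.appTop f)) :=
    (g.appLE ⊤ (W.basicOpen (g.appTop f)) le_top).hom.toAlgebra
  have hp : (algebraMap Γ(W, ⊤) Γ(W, W.basicOpen (g.appTop f))).comp g.appTop.hom =
      algebraMap Γ(Y, ⊤) Γ(W, W.basicOpen (g.appTop f)) := by
    change (g.appTop ≫ W.presheaf.map (homOfLE le_top).op).hom = _
    rfl
  have hq : (g.appLE (Y.basicOpen f) (W.basicOpen (g.appTop f)) hle').hom.comp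
      (algebraMap Γ(Y, ⊤) Γ(Y, Y.basicOpen f)) =
      algebraMap Γ(Y, ⊤) Γ(W, W.basicOpen (g.appTop f)) := by
    change (Y.presheaf.map (homOfLE le_top).op ≫ g.appLE _ _ _).hom = (g.appLE _ _ _).hom
    rw [Scheme.Hom.map_appLE]
  constructor
  · intro hb
    have : IsLocalization.Away f Γ(W, W.basicOpen (g.appTop f)) := by
      refine IsLocalization.isLocalization_of_algEquiv (Submonoid.powers f)
        (AlgEquiv.ofBijective
          (AlgHom.mk (g.appLE (Y.basicOpen f) (W.basicOpen (g.appTop f)) hle').hom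
            (fun r => congr($hq r)) : Γ(Y, Y.basicOpen f) →ₐ[Γ(Y, ⊤)] _) hb)
    exact isoAway_of_isLocalization (L := Γ(W, W.basicOpen (g.appTop f))) _ _ hp
  · intro h
    have : IsLocalization.Away f Γ(W, W.basicOpen (g.appTop f)) :=
      isLocalization_of_isoAway (L := Γ(W, W.basicOpen (g.appTop f))) _ _ hp h
    exact bijective_of_isLocalization (Submonoid.powers f) _ hq

/-- Open immersions induce isomorphisms after inverting `f` when `D(f)` is in the range. -/
lemma isoAway_appTop_of_isOpenImmersion [CompactSpace W] [QuasiSeparatedSpace W] [CompactSpace Y]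
    [QuasiSeparatedSpace Y] (g : W ⟶ Y) [IsOpenImmersion g] (f : Γ(Y, ⊤))
    (h : Y.basicOpen f ≤ g.opensRange) : IsoAway g.appTop.hom f :=
  (isIso_app_basicOpen_iff g f).1 (g.isIso_app _ h)

set_option backward.isDefEq.respectTransparency false in
/-- restriction over an affine open with affine preimage is an isomorphism iff it is so on
sections -/
lemma isIso_morphismRestrict_iff (g : W ⟶ Y) {U : Y.Opens} (hU : IsAffineOpen U)
    (hgU : IsAffineOpen (g ⁻¹ᵁ U)) : IsIso (g ∣_ U) ↔ IsIso (g.app U) := by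
  have : IsAffine U := hU
  refine (HasAffineProperty.iff_of_isAffine (P := .isomorphisms _)).trans <|
    (and_iff_right hgU).trans ?_
  rw [Scheme.Hom.app_eq_appLE]
  simp only [morphismRestrict_app', TopologicalSpace.Opens.map_top]
  congr! <;> simp [Scheme.Opens.toScheme_presheaf_obj]

/-- If `IsoAway g.appTop f` and the preimage of the affine open `D(f)` is affine then `g` is an
isomorphism over `D(f)`. -/
lemma isIso_morphismRestrict_basicOpen [CompactSpace W] [QuasiSeparatedSpace W] [CompactSpace Y]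
    [QuasiSeparatedSpace Y] (g : W ⟶ Y) (f : Γ(Y, ⊤)) (hU : IsAffineOpen (Y.basicOpen f))
    (hgU : IsAffineOpen (g ⁻¹ᵁ Y.basicOpen f)) (h : IsoAway g.appTop.hom f) :
    IsIso (g ∣_ Y.basicOpen f) :=
  (isIso_morphismRestrict_iff g hU hgU).2 ((isIso_app_basicOpen_iff g f).2 h)

/-- Let `w : V ⟶ U` be an affine morphism to an open `U` of a scheme `X`, `Y ⟶ X` an affine
morphism with `Y` qcqs, `g : V ⟶ Y` over `X`. If every point of `U` has a neighbourhood
`D(f) ⊆ U`, `f : Γ(X, ⊤)`, over which `g` is an isomorphism on sections, then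
`V = Y ×_X U`. -/
theorem isPullback_of_isoAway {X V : Scheme.{u}} [IsAffine X] {U : X.Opens} (w : V ⟶ U)
    [IsAffineHom w] (y : Y ⟶ X) [IsAffineHom y] (g : V ⟶ Y) [CompactSpace V]
    [QuasiSeparatedSpace V] (hg : g ≫ y = w ≫ U.ι)
    (h : ∀ x ∈ U, ∃ f : Γ(X, ⊤), x ∈ X.basicOpen f ∧ X.basicOpen f ≤ U ∧
      IsoAway g.appTop.hom (y.appTop f)) :
    IsPullback w g U.ι y := by
  have hY : IsAffine Y := isAffine_of_isAffineHom y
  -- `g` is an isomorphism over the opens `D(f)`
  have key : ∀ f : Γ(X, ⊤), X.basicOpen f ≤ U → IsoAway g.appTop.hom (y.appTop f) →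
      IsIso (g ∣_ (Y.basicOpen (y.appTop f))) := by
    intro f hfU hf
    refine isIso_morphismRestrict_basicOpen g _ ((isAffineOpen_top Y).basicOpen _) ?_ hf
    have h1 : g ⁻¹ᵁ Y.basicOpen (y.appTop f) = w ⁻¹ᵁ (U.ι ⁻¹ᵁ X.basicOpen f) := by
      rw [← Scheme.preimage_basicOpen_top, ← Scheme.Hom.comp_preimage, ← Scheme.Hom.comp_preimage,
        hg]
    rw [h1]
    refine IsAffineOpen.preimage ?_ w
    refine ((isAffineOpen_top X).basicOpen f).preimage_of_isOpenImmersion U.ι ?_
    simpa using hfU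
  have hgo : IsOpenImmersion g := by
    refine IsZariskiLocalAtTarget.of_forall_source_exists_preimage (P := @IsOpenImmersion) _
      fun x ↦ ?_
    obtain ⟨f, hxf, hfU, hf⟩ := h (U.ι (w x)) (w x).2
    refine ⟨Y.basicOpen (y.appTop f), ?_, ?_⟩
    · rw [← Scheme.preimage_basicOpen_top]
      change y (g x) ∈ X.basicOpen f
      rw [← Scheme.Hom.comp_apply, hg]
      exact hxf
    · have := key f hfU hf
      rw [← morphismRestrict_ι]
      infer_instance
  refine (IsOpenImmersion.isPullback w g U.ι y ?_ ?_)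
  · exact hg
  · ext z
    simp only [Scheme.Opens.opensRange_ι]
    constructor
    · intro hz
      obtain ⟨f, hxf, hfU, hf⟩ := h (y z) hz
      have h1 := key f hfU hf
      have hz' : z ∈ Y.basicOpen (y.appTop f) := by
        rw [← Scheme.preimage_basicOpen_top]
        exact hxf
      obtain ⟨v, hv⟩ := (g ∣_ (Y.basicOpen (y.appTop f))).surjective ⟨z, hz'⟩
      refine ⟨v.1, ?_⟩
      have h2 := morphismRestrict_base_coe g (Y.basicOpen (y.appTop f)) v
      rw [hv] at h2
      exact h2.symm
    · rintro ⟨v, rfl⟩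
      change y (g v) ∈ U
      rw [← Scheme.Hom.comp_apply, hg]
      exact (w v).2

end Groth.Agent.Pi1A.QAffGlue
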