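import Groth.Agent.Pi1A.FormalGlueAlg
import Groth.Agent.Pi1A.QAffGlue
import Groth.Prelude.Def_FEt
import Mathlib.AlgebraicGeometry.Morphisms.Flat

/-!
# Formal gluing of finite étale covers
-/

set_option autoImplicit false
set_option linter.style.haveILetI false

universe u

open AlgebraicGeometry CategoryTheory Limits TopologicalSpace

namespace Groth.Agent.Pi1A.FEtFormalGlue

open IsoAway FormalGlue FormalGlueAlg QAffGlue

/-- Formal gluing for finite étale algebras, bundled form. -/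
theorem exists_of_isPushout {A S N B' N' : CommRingCat.{u}} (a : A ⟶ S) (n : A ⟶ N) (i : N ⟶ N')
    (n' : S ⟶ N') (h : IsPushout a n n' i) (b : S ⟶ B') (φ : B' ⟶ N') (hφ : b ≫ φ = n')
    (ha : a.hom.FaithfullyFlat) (hb : b.hom.Finite) (hb' : b.hom.Etale) (I : Ideal A) (hI : I.FG)
    (hd : ∀ (k : ℕ) (s : S), ∃ x : A, s - a x ∈ (I ^ k).map a.hom)
    (hiso : ∀ f ∈ I, IsoAway φ.hom (b (a f))) :
    ∃ (B : CommRingCat.{u}) (β : A ⟶ B) (p : B ⟶ N), β ≫ p = n ∧ β.hom.Finite ∧ β.hom.Etale ∧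
      ∀ f ∈ I, IsoAway p.hom (β f) := by
  letI : Algebra A S := a.hom.toAlgebra
  letI : Algebra A N := n.hom.toAlgebra
  letI : Algebra S B' := b.hom.toAlgebra
  letI : Algebra A B' := (a ≫ b).hom.toAlgebra
  letI : Algebra S N' := n'.hom.toAlgebra
  letI : Algebra N N' := i.hom.toAlgebra
  letI : Algebra A N' := (a ≫ n').hom.toAlgebra
  haveI : IsScalarTower A S B' := .of_algebraMap_eq' rfl
  haveI : IsScalarTower A S N' := .of_algebraMap_eq' rfl
  haveI : IsScalarTower A N N' := .of_algebraMap_eq' (congrArg CommRingCat.Hom.hom h.w)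
  haveI : Algebra.IsPushout A S N N' := CommRingCat.isPushout_iff_isPushout.1 h
  haveI : Module.FaithfullyFlat A S := ha
  haveI : Module.Finite S B' := hb
  haveI : Algebra.Etale S B' := hb'
  let φ' : B' →ₐ[S] N' := ⟨φ.hom, fun r => congr($(hφ).hom r)⟩
  obtain ⟨B, p, hB1, hB2, hB3⟩ := exists_algebra (A := A) (S := S) (N := N) (B' := B') (N' := N')
    hI (fun k s => hd k s) φ' hiso
  refine ⟨CommRingCat.of B, CommRingCat.ofHom (algebraMap A B), CommRingCat.ofHom p.toRingHom,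
    ?_, ?_, ?_, hB3⟩
  · ext x
    exact p.commutes x
  · exact RingHom.finite_algebraMap.2 hB2
  · exact RingHom.etale_algebraMap.2 hB1

/-- The finite étale cover `Spec B ⟶ Spec A` of a finite étale algebra. -/
noncomputable def ofAlg {A B : CommRingCat.{u}} (β : A ⟶ B) (h1 : β.hom.Finite)
    (h2 : β.hom.Etale) : FEt.Cat (Spec A) :=
  MorphismProperty.Over.mk _ (Spec.map β)
    ⟨(IsFinite.SpecMap_iff β).2 h1, (HasRingHomProperty.Spec_iff (P := @Etale)).2 h2⟩

/-- A cartesian square gives an isomorphism of finite étale covers. -/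
lemma nonempty_iso_of_isPullback {X Y : Scheme.{u}} (f : X ⟶ Y) (Z : FEt.Cat Y) (V : FEt.Cat X)
    (g : V.left ⟶ Z.left) (h : IsPullback V.hom g f Z.hom) :
    Nonempty ((FEt.restrict f).obj Z ≅ V) := by
  refine ⟨MorphismProperty.Over.isoMk
    (h.flip.isoPullback.symm : pullback Z.hom f ≅ V.left) ?_⟩
  exact h.flip.isoPullback_inv_snd

/-- The universal map of an affine-valued ring map. -/
noncomputable def toSpec {V : Scheme.{u}} {B : CommRingCat.{u}} (p : B ⟶ Γ(V, ⊤)) : V ⟶ Spec B :=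
  V.toSpecΓ ≫ Spec.map p

lemma toSpec_appTop {V : Scheme.{u}} {B : CommRingCat.{u}} (p : B ⟶ Γ(V, ⊤)) :
    (toSpec p).appTop = (Scheme.ΓSpecIso B).hom ≫ p := by
  simp [toSpec]

lemma toSpec_comp {V : Scheme.{u}} {A B : CommRingCat.{u}} (p : B ⟶ Γ(V, ⊤)) (β : A ⟶ B)
    (v : V ⟶ Spec A) (h : β ≫ p = (Scheme.ΓSpecIso A).inv ≫ v.appTop) :
    toSpec p ≫ Spec.map β = v := by
  rw [toSpec, Category.assoc, ← Spec.map_comp, h, Spec.map_comp, ← Category.assoc,
    ← Scheme.toSpecΓ_naturality, Category.assoc]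
  simp

lemma appLE_top_top {X Y : Scheme.{u}} (f : X ⟶ Y) (h : (⊤ : X.Opens) ≤ f ⁻¹ᵁ ⊤) :
    f.appLE ⊤ ⊤ h = f.appTop := Scheme.Hom.appLE_eq_app f

lemma compactSpace_of_iff {A : CommRingCat.{u}} {I : Ideal A} (hI : I.FG) (U : (Spec A).Opens)
    (hU : ∀ x : PrimeSpectrum A, x ∈ U ↔ ¬ I ≤ x.asIdeal) : CompactSpace U := by
  have h1 : (U : Set (Spec A)) = ((PrimeSpectrum.zeroLocus (I : Set A))ᶜ : Set (PrimeSpectrum A)) := by
    ext x
    exact (hU x)
  have h2 := (PrimeSpectrum.isCompact_isOpen_iff_ideal (R := A)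
      (s := (PrimeSpectrum.zeroLocus (I : Set A))ᶜ)).2 ⟨I, hI, rfl⟩
  exact isCompact_iff_compactSpace.1 (h1 ▸ h2.1)

theorem exists_aux {A S : CommRingCat.{u}} (a : A ⟶ S) (ha : a.hom.FaithfullyFlat) (I : Ideal A)
    (hI : I.FG) (hd : ∀ (k : ℕ) (s : S), ∃ x : A, s - a x ∈ (I ^ k).map a.hom)
    (U : (Spec A).Opens) (hU : ∀ x : PrimeSpectrum A, x ∈ U ↔ ¬ I ≤ x.asIdeal)
    {V V' Y' : Scheme.{u}} (w : V ⟶ U) [IsAffineHom w] (y' : Y' ⟶ Spec S) [IsFinite y'] [Etale y']
    (g : V' ⟶ V) (v' : V' ⟶ Spec S) (hV' : IsPullback g v' (w ≫ U.ι) (Spec.map a))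
    (ψ : V' ⟶ Y') [IsOpenImmersion ψ] (hψ : ψ ≫ y' = v')
    (hr : y' ⁻¹ᵁ (Spec.map a ⁻¹ᵁ U) ≤ ψ.opensRange) :
    ∃ (B : CommRingCat.{u}) (β : A ⟶ B) (q : V ⟶ Spec B), β.hom.Finite ∧ β.hom.Etale ∧
      IsPullback w q U.ι (Spec.map β) := by
  have hUc : CompactSpace U := compactSpace_of_iff hI U hU
  have hVc : CompactSpace V := QuasiCompact.compactSpace_of_compactSpace w
  have hUq : QuasiSeparatedSpace U := quasiSeparatedSpace_of_quasiSeparated U.ι
  have hVq : QuasiSeparatedSpace V := quasiSeparatedSpace_of_quasiSeparated w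
  have hfl : Flat (Spec.map a) := Flat.SpecMap_iff.2 ha.flat
  have : IsAffineHom g := MorphismProperty.of_isPullback hV'.flip inferInstance
  have hV'c : CompactSpace V' := QuasiCompact.compactSpace_of_compactSpace g
  have hV'q : QuasiSeparatedSpace V' := quasiSeparatedSpace_of_quasiSeparated g
  have hYa : IsAffine Y' := isAffine_of_isAffineHom y'
  -- flat base change
  have hpo : IsPushout (w ≫ U.ι).appTop (Spec.map a).appTop g.appTop v'.appTop := by
    have h1 := isIso_pushoutSection_of_isQuasiSeparated_of_flat_right hV' (US := ⊤) (UT := ⊤)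
      (UX := ⊤) (UY := ⊤) le_top le_top (by simp) (isAffineOpen_top _) (isAffineOpen_top _)
      (CompactSpace.isCompact_univ) (isQuasiSeparated_univ)
    have h2 := (isIso_pushoutSection_iff ..).1 h1
    convert h2 using 1 <;> exact (appLE_top_top _ _).symm
  -- replace `Γ(Spec A)` by `A`
  have hpo' : IsPushout a ((Scheme.ΓSpecIso A).inv ≫ (w ≫ U.ι).appTop)
      ((Scheme.ΓSpecIso S).inv ≫ v'.appTop) g.appTop := by
    refine IsPushout.of_iso hpo.flip (Scheme.ΓSpecIso A) (Scheme.ΓSpecIso S) (Iso.refl _)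
      (Iso.refl _) ?_ ?_ ?_ ?_
    · simp
    · simp
    · simp
    · simp
  let b : S ⟶ Γ(Y', ⊤) := (Scheme.ΓSpecIso S).inv ≫ y'.appTop
  have hbs : Spec.map b = Y'.isoSpec.inv ≫ y' := by
    rw [Iso.eq_inv_comp]
    exact (toSpec_comp (V := Y') (𝟙 _) b y' (by simp [b])).symm ▸ (by simp [toSpec, Scheme.isoSpec])
  have hb1 : b.hom.Finite := by
    have h1 : IsFinite (Spec.map b) := by
      rw [hbs]
      infer_instance
    exact (IsFinite.SpecMap_iff b).1 h1
  have hb2 : b.hom.Etale := by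
    have h1 : Etale (Spec.map b) := by
      rw [hbs]
      infer_instance
    exact (HasRingHomProperty.Spec_iff (P := @Etale)).1 h1
  have hφ : b ≫ ψ.appTop = (Scheme.ΓSpecIso S).inv ≫ v'.appTop := by
    rw [← hψ, Scheme.Hom.comp_appTop, Category.assoc]
  have hbo : ∀ f : A, Y'.basicOpen (b (a f)) = y' ⁻¹ᵁ (Spec.map a ⁻¹ᵁ (PrimeSpectrum.basicOpen f)) := by
    intro f
    rw [show Spec.map a ⁻¹ᵁ (PrimeSpectrum.basicOpen f) = PrimeSpectrum.basicOpen (a f) from rfl,
      ← basicOpen_eq_of_affine, Scheme.preimage_basicOpen_top]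
    rfl
  have hfU : ∀ f ∈ I, (PrimeSpectrum.basicOpen f : (Spec A).Opens) ≤ U := by
    intro f hf x hx
    exact (hU x).2 (fun hI => hx (hI hf))
  obtain ⟨B, β, p, hβp, hβ1, hβ2, hβ3⟩ := exists_of_isPushout a _ _ _ hpo' b ψ.appTop hφ ha hb1 hb2
    I hI hd (fun f hf => by
      refine isoAway_appTop_of_isOpenImmersion ψ _ ?_
      rw [hbo]
      exact le_trans (Scheme.Hom.preimage_mono _ (Scheme.Hom.preimage_mono _ (hfU f hf))) hr)
  refine ⟨B, β, toSpec p, hβ1, hβ2, ?_⟩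
  have : IsFinite (Spec.map β) := (IsFinite.SpecMap_iff β).2 hβ1
  refine isPullback_of_isoAway w (Spec.map β) (toSpec p) (toSpec_comp p β _ hβp) fun x hx => ?_
  obtain ⟨f, hfI, hfx⟩ : ∃ f ∈ I, f ∉ x.asIdeal := by
    have := (hU x).1 hx
    rw [SetLike.not_le_iff_exists] at this
    exact this
  refine ⟨(Scheme.ΓSpecIso A).inv f, ?_, ?_, ?_⟩
  · rw [basicOpen_eq_of_affine]
    exact hfx
  · rw [basicOpen_eq_of_affine]
    exact hfU f hfI
  · have h1 := hβ3 f hfI
    have h2 : (Scheme.ΓSpecIso B).hom.hom ((Spec.map β).appTop ((Scheme.ΓSpecIso A).inv f)) =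
        β f := by
      have h3 : (Scheme.ΓSpecIso A).inv ≫ (Spec.map β).appTop ≫ (Scheme.ΓSpecIso B).hom = β := by
        simp
      exact congr($h3 f)
    rw [← h2] at h1
    have h3 := h1.comp_bijective (e := (Scheme.ΓSpecIso B).hom.hom)
      (ConcreteCategory.bijective_of_isIso (Scheme.ΓSpecIso B).hom)
    rw [toSpec_appTop]
    exact h3

/-- **Formal gluing for finite étale covers**: let `A → S` be faithfully flat with
`S = A + I^k S` for all `k`, `I` finitely generated, `U = Spec A ∖ V(I)`. A finite étale cover `V`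
of `U` extends to `Spec A` if its base change to `Spec S` does. -/
theorem exists_extension {A S : CommRingCat.{u}} (a : A ⟶ S) (ha : a.hom.FaithfullyFlat)
    (I : Ideal A)
    (hI : I.FG) (hd : ∀ (k : ℕ) (s : S), ∃ x : A, s - a x ∈ (I ^ k).map a.hom)
    (U : (Spec A).Opens) (hU : ∀ x : PrimeSpectrum A, x ∈ U ↔ ¬ I ≤ x.asIdeal)
    (V : FEt.Cat (U : Scheme.{u})) (Y' : FEt.Cat (Spec S))
    (e : (FEt.restrict (pullback.snd U.ι (Spec.map a))).obj Y' ≅
      (FEt.restrict (pullback.fst U.ι (Spec.map a))).obj V) :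
    ∃ Y : FEt.Cat (Spec A), Nonempty ((FEt.restrict U.ι).obj Y ≅ V) := by
  let w : V.left ⟶ U := V.hom
  have hVf : IsFinite w := V.prop.1
  let y' : Y'.left ⟶ Spec S := Y'.hom
  have hYf : IsFinite y' := Y'.prop.1
  have hYe : Etale y' := Y'.prop.2
  let V' : Scheme.{u} := pullback w (pullback.fst U.ι (Spec.map a))
  let v' : V' ⟶ Spec S := pullback.snd w (pullback.fst U.ι (Spec.map a)) ≫
    pullback.snd U.ι (Spec.map a)
  have hV' : IsPullback (pullback.fst w (pullback.fst U.ι (Spec.map a))) v' (w ≫ U.ι)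
      (Spec.map a) :=
    ((IsPullback.of_hasPullback w (pullback.fst U.ι (Spec.map a))).flip.paste_horiz
      (IsPullback.of_hasPullback U.ι (Spec.map a)).flip).flip
  let e' : V' ⟶ pullback y' (pullback.snd U.ι (Spec.map a)) := e.inv.left
  have he' : IsIso e' :=
    inferInstanceAs (IsIso ((MorphismProperty.Over.forget _ _ _ ⋙ Over.forget _).map e.inv))
  have he'' : e' ≫ pullback.snd y' (pullback.snd U.ι (Spec.map a)) =
      pullback.snd w (pullback.fst U.ι (Spec.map a)) :=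
    MorphismProperty.Over.w e.inv
  let ψ : V' ⟶ Y'.left := e' ≫ pullback.fst y' (pullback.snd U.ι (Spec.map a))
  have hψ : ψ ≫ y' = v' := by
    simp only [ψ, v', Category.assoc, pullback.condition]
    rw [reassoc_of% he'']
  have hr : y' ⁻¹ᵁ (Spec.map a ⁻¹ᵁ U) ≤ ψ.opensRange := by
    intro z hz
    have h1 : y' z ∈ Set.range (pullback.snd U.ι (Spec.map a)) := by
      rw [Scheme.Pullback.range_snd]
      simpa using hz
    have h2 : z ∈ Set.range (pullback.fst y' (pullback.snd U.ι (Spec.map a))) := by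
      rw [Scheme.Pullback.range_fst]
      exact h1
    obtain ⟨z', rfl⟩ := h2
    obtain ⟨z'', rfl⟩ := e'.surjective z'
    exact ⟨z'', by simp [ψ]⟩
  obtain ⟨B, β, q, hβ1, hβ2, hq⟩ := exists_aux a ha I hI hd U hU w y' _ v' hV' ψ hψ hr
  exact ⟨ofAlg β hβ1 hβ2, nonempty_iso_of_isPullback U.ι (ofAlg β hβ1 hβ2) V q hq⟩

end Groth.Agent.Pi1A.FEtFormalGlue
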