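import Groth.Agent.Pi1A.SpreadFEt3
import Groth.Agent.Pi1A.FEtFormalGlue

/-!
# Auxiliary lemmas: base change of affine morphisms over opens, sections
-/

set_option autoImplicit false
set_option linter.style.haveILetI false

universe u

open AlgebraicGeometry CategoryTheory Limits TopologicalSpace

namespace Groth.Agent.Pi1A.ExtNhdAux

open IsoAway QAffGlue FEtFormalGlue SpreadFEt

/-- Flat base change of global sections. -/
lemma isPushout_of_flat {A S : CommRingCat.{u}} (a : A ⟶ S) [Flat (Spec.map a)] {V V' : Scheme.{u}}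
    [CompactSpace V] [QuasiSeparatedSpace V] (v : V ⟶ Spec A) (g : V' ⟶ V) (v' : V' ⟶ Spec S)
    (h : IsPullback g v' v (Spec.map a)) :
    IsPushout a ((Scheme.ΓSpecIso A).inv ≫ v.appTop) ((Scheme.ΓSpecIso S).inv ≫ v'.appTop)
      g.appTop := by
  have hpo : IsPushout v.appTop (Spec.map a).appTop g.appTop v'.appTop := by
    have h1 := isIso_pushoutSection_of_isQuasiSeparated_of_flat_right h (US := ⊤) (UT := ⊤)
      (UX := ⊤) (UY := ⊤) le_top le_top (by simp) (isAffineOpen_top _) (isAffineOpen_top _)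
      (CompactSpace.isCompact_univ) (isQuasiSeparated_univ)
    have h2 := (isIso_pushoutSection_iff ..).1 h1
    convert h2 using 1 <;> exact (appLE_top_top _ _).symm
  refine IsPushout.of_iso hpo.flip (Scheme.ΓSpecIso A) (Scheme.ΓSpecIso S) (Iso.refl _)
      (Iso.refl _) ?_ ?_ ?_ ?_
  · simp
  · simp
  · simp
  · simp

/-- the structure map of an affine scheme over `Spec S` on global sections -/
lemma Spec_map_appTop {S : CommRingCat.{u}} {Y : Scheme.{u}} [IsAffine Y] (y : Y ⟶ Spec S) :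
    Spec.map ((Scheme.ΓSpecIso S).inv ≫ y.appTop) = Y.isoSpec.inv ≫ y := by
  rw [Iso.eq_inv_comp]
  exact (toSpec_comp (V := Y) (𝟙 _) ((Scheme.ΓSpecIso S).inv ≫ y.appTop) y (by simp)).symm ▸
    (by simp [toSpec, Scheme.isoSpec])

lemma finite_appTop {S : CommRingCat.{u}} {Y : Scheme.{u}} (y : Y ⟶ Spec S) [IsFinite y] :
    ((Scheme.ΓSpecIso S).inv ≫ y.appTop).hom.Finite := by
  have hYa : IsAffine Y := isAffine_of_isAffineHom y
  rw [← IsFinite.SpecMap_iff, Spec_map_appTop]
  infer_instance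

lemma etale_appTop {S : CommRingCat.{u}} {Y : Scheme.{u}} [IsAffine Y] (y : Y ⟶ Spec S)
    [Etale y] : ((Scheme.ΓSpecIso S).inv ≫ y.appTop).hom.Etale := by
  have h1 : Etale (Spec.map ((Scheme.ΓSpecIso S).inv ≫ y.appTop)) := by
    rw [Spec_map_appTop]
    infer_instance
  exact (HasRingHomProperty.Spec_iff (P := @Etale)).1 h1

lemma basicOpen_appTop {S : CommRingCat.{u}} {Y : Scheme.{u}} (y : Y ⟶ Spec S) (f : S) :
    Y.basicOpen (((Scheme.ΓSpecIso S).inv ≫ y.appTop) f) = y ⁻¹ᵁ (PrimeSpectrum.basicOpen f) := by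
  rw [← basicOpen_eq_of_affine, Scheme.preimage_basicOpen_top]
  rfl

/-- The base change of `w : V ⟶ U`, `U` open in `X`, along `t : T ⟶ X`. -/
noncomputable def wT {X T V : Scheme.{u}} {U : X.Opens} (w : V ⟶ U) (t : T ⟶ X) :
    pullback (w ≫ U.ι) t ⟶ (t ⁻¹ᵁ U : T.Opens) :=
  (isPullback_morphismRestrict t U).flip.lift (pullback.snd _ _) (pullback.fst _ _ ≫ w)
    (by rw [Category.assoc, pullback.condition])

lemma wT_ι {X T V : Scheme.{u}} {U : X.Opens} (w : V ⟶ U) (t : T ⟶ X) :
    wT w t ≫ (t ⁻¹ᵁ U).ι = pullback.snd _ _ :=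
  (isPullback_morphismRestrict t U).flip.lift_fst _ _ _

lemma isPullback_wT {X T V : Scheme.{u}} {U : X.Opens} (w : V ⟶ U) (t : T ⟶ X) :
    IsPullback (pullback.fst (w ≫ U.ι) t) (wT w t) w (t ∣_ U) := by
  refine (IsPullback.of_right ?_ ?_ (isPullback_morphismRestrict t U).flip).flip
  · rw [wT_ι]
    exact (IsPullback.of_hasPullback (w ≫ U.ι) t).flip
  · exact (isPullback_morphismRestrict t U).flip.lift_snd _ _ _

instance {X T V : Scheme.{u}} {U : X.Opens} (w : V ⟶ U) (t : T ⟶ X) [IsFinite w] :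
    IsFinite (wT w t) := MorphismProperty.of_isPullback (isPullback_wT w t) inferInstance

lemma finAway_comp {R R' N : Type*} [CommRing R] [CommRing R'] [CommRing N] (n : R' →+* N)
    (e : R →+* R') (he : Function.Surjective e) (g : R) (h : FinAway n (e g)) :
    FinAway (n.comp e) g := by
  obtain ⟨T, hT⟩ := h
  refine ⟨T, fun y => ?_⟩
  obtain ⟨k, hk⟩ := hT y
  refine ⟨k, ?_⟩
  letI := n.toAlgebra
  letI := (n.comp e).toAlgebra
  have h1 : ∀ z ∈ Submodule.span R' (T : Set N), z ∈ Submodule.span R (T : Set N) := by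
    intro z hz
    induction hz using Submodule.span_induction with
    | mem z hz => exact Submodule.subset_span hz
    | zero => exact Submodule.zero_mem _
    | add x y _ _ hx hy => exact Submodule.add_mem _ hx hy
    | smul a x _ hx =>
      obtain ⟨b, rfl⟩ := he a
      exact Submodule.smul_mem _ b hx
  have h2 := h1 _ hk
  convert h2 using 1
  change (n.comp e) (g ^ k) * y = n (e g ^ k) * y
  rw [RingHom.comp_apply, map_pow]

/-- Finiteness of `Γ(V)` up to `g`-torsion for `V` finite over an open containing `D(g)`. -/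
lemma finAway_appTop {R : CommRingCat.{u}} {V : Scheme.{u}} {U : (Spec R).Opens} (w : V ⟶ U)
    [IsFinite w] [CompactSpace V] [QuasiSeparatedSpace V] (v : V ⟶ Spec R) (hv : w ≫ U.ι = v)
    (g : R) (hg : (PrimeSpectrum.basicOpen g : (Spec R).Opens) ≤ U) :
    FinAway ((Scheme.ΓSpecIso R).inv ≫ v.appTop).hom g := by
  subst hv
  refine finAway_comp (w ≫ U.ι).appTop.hom (Scheme.ΓSpecIso R).inv.hom
    (ConcreteCategory.bijective_of_isIso (Scheme.ΓSpecIso R).inv).2 g ?_
  set g' : Γ(Spec R, ⊤) := (Scheme.ΓSpecIso R).inv g with hg'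
  have hgo : (Spec R).basicOpen g' = PrimeSpectrum.basicOpen g := basicOpen_eq_of_affine g
  have h1 : IsLocalization.Away g' Γ(Spec R, (Spec R).basicOpen g') := isLocalization_top g'
  have h2 : IsLocalization.Away ((w ≫ U.ι).appTop g')
    Γ(V, V.basicOpen ((w ≫ U.ι).appTop g')) := isLocalization_top ((w ≫ U.ι).appTop g')
  have hle : (w ≫ U.ι) ⁻¹ᵁ (Spec R).basicOpen g' = V.basicOpen ((w ≫ U.ι).appTop g') :=
    Scheme.preimage_basicOpen_top _ g'
  refine finAway_of_finite (w ≫ U.ι).appTop.hom g'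
    ((w ≫ U.ι).appLE ((Spec R).basicOpen g') (V.basicOpen ((w ≫ U.ι).appTop g')) hle.ge).hom ?_ ?_
  · change ((Spec R).presheaf.map (homOfLE le_top).op ≫ (w ≫ U.ι).appLE _ _ _).hom =
      ((w ≫ U.ι).appTop ≫ V.presheaf.map (homOfLE le_top).op).hom
    rw [Scheme.Hom.map_appLE]
    rfl
  · have haff : IsAffineOpen ((Spec R).basicOpen g') := (isAffineOpen_top _).basicOpen g'
    have haff' : IsAffineOpen (U.ι ⁻¹ᵁ (Spec R).basicOpen g') :=
      haff.preimage_of_isOpenImmersion U.ι (by rw [hgo, Scheme.Opens.opensRange_ι]; exact hg)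
    have hfin : (w.app (U.ι ⁻¹ᵁ (Spec R).basicOpen g')).hom.Finite := w.finite_app _ haff'
    have hiso : IsIso (U.ι.app ((Spec R).basicOpen g')) :=
      U.ι.isIso_app _ (by rw [hgo, Scheme.Opens.opensRange_ι]; exact hg)
    have h3 : ((w ≫ U.ι).app ((Spec R).basicOpen g')).hom.Finite := by
      rw [Scheme.Hom.comp_app]
      exact RingHom.Finite.comp hfin (RingHom.Finite.of_surjective _
        (ConcreteCategory.bijective_of_isIso (U.ι.app ((Spec R).basicOpen g'))).2)
    have h4 : (w ≫ U.ι).appLE ((Spec R).basicOpen g') (V.basicOpen ((w ≫ U.ι).appTop g')) hle.ge =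
        (w ≫ U.ι).app ((Spec R).basicOpen g') ≫ V.presheaf.map (eqToHom hle.symm).op := by
      rw [Scheme.Hom.appLE]; rfl
    rw [h4]
    exact RingHom.Finite.comp (RingHom.Finite.of_surjective _
      (ConcreteCategory.bijective_of_isIso (V.presheaf.map (eqToHom hle.symm).op)).2) h3

end Groth.Agent.Pi1A.ExtNhdAux
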