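import Groth.Agent.Pi1A.ExtNhdAux
import Mathlib.AlgebraicGeometry.Noetherian

/-!
# Spreading out an extension of a finite étale cover: the affine local step
-/

set_option autoImplicit false
set_option linter.style.haveILetI false

universe u

open AlgebraicGeometry CategoryTheory Limits TopologicalSpace

namespace Groth.Agent.Pi1A.ExtNhdLocal

open IsoAway QAffGlue FEtFormalGlue SpreadFEt ExtNhdAux

lemma isLocalization_away_of_isPushout {R Rf N Nf : CommRingCat.{u}} (ρ : R ⟶ Rf) (n : R ⟶ N)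
    (rn : Rf ⟶ Nf) (ν : N ⟶ Nf) (h : IsPushout ρ n rn ν) (f : R)
    (hf : letI := ρ.hom.toAlgebra; IsLocalization.Away f Rf) :
    letI := ν.hom.toAlgebra; IsLocalization.Away (n f) Nf := by
  letI : Algebra R Rf := ρ.hom.toAlgebra
  letI : Algebra R N := n.hom.toAlgebra
  letI : Algebra Rf Nf := rn.hom.toAlgebra
  letI : Algebra N Nf := ν.hom.toAlgebra
  letI : Algebra R Nf := (ρ ≫ rn).hom.toAlgebra
  haveI : IsScalarTower R Rf Nf := .of_algebraMap_eq' rfl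
  haveI : IsScalarTower R N Nf := .of_algebraMap_eq' (congrArg CommRingCat.Hom.hom h.w)
  haveI : Algebra.IsPushout R Rf N Nf := CommRingCat.isPushout_iff_isPushout.1 h
  haveI : IsLocalization.Away f Rf := hf
  have h1 : IsLocalization (Algebra.algebraMapSubmonoid N (Submonoid.powers f)) Nf :=
    (Algebra.isLocalization_iff_isPushout (Submonoid.powers f) Rf).2
      (Algebra.IsPushout.symm inferInstance)
  rw [Algebra.algebraMapSubmonoid_powers] at h1
  exact h1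

/-- `IsoAway` for the universal map to `Spec B`. -/
lemma isoAway_toSpec {V : Scheme.{u}} {A B : CommRingCat.{u}} (β : A ⟶ B) (q : B ⟶ Γ(V, ⊤)) (f : A)
    (h : IsoAway q.hom (β f)) :
    IsoAway (toSpec q).appTop.hom ((Spec.map β).appTop ((Scheme.ΓSpecIso A).inv f)) := by
  have h2 : (Scheme.ΓSpecIso B).hom.hom ((Spec.map β).appTop ((Scheme.ΓSpecIso A).inv f)) =
      β f := by
    have h3 : (Scheme.ΓSpecIso A).inv ≫ (Spec.map β).appTop ≫ (Scheme.ΓSpecIso B).hom = β := by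
      simp
    exact congr($h3 f)
  rw [← h2] at h
  have h3 := h.comp_bijective (e := (Scheme.ΓSpecIso B).hom.hom)
    (ConcreteCategory.bijective_of_isIso (Scheme.ΓSpecIso B).hom)
  rw [toSpec_appTop]
  exact h3

/-- Level `f`. -/
theorem exists_level_aux {X : Scheme.{u}} {R Rf : CommRingCat.{u}} (j : Spec R ⟶ X) (ρ : R ⟶ Rf)
    (U : X.Opens) {V : Scheme.{u}} (w : V ⟶ U) [IsFinite w] (G : Finset R)
    (hG : ∀ x : PrimeSpectrum R, x ∈ j ⁻¹ᵁ U ↔ ∃ g ∈ G, g ∉ x.asIdeal)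
    [CompactSpace ↥(pullback (w ≫ U.ι) (Spec.map ρ ≫ j))]
    [QuasiSeparatedSpace ↥(pullback (w ≫ U.ι) (Spec.map ρ ≫ j))]
    (B : CommRingCat.{u}) (β : Rf ⟶ B) (q : B ⟶ Γ(pullback (w ≫ U.ι) (Spec.map ρ ≫ j), ⊤))
    (hq : β ≫ q = (Scheme.ΓSpecIso Rf).inv ≫ (pullback.snd (w ≫ U.ι) (Spec.map ρ ≫ j)).appTop)
    (hβ : β.hom.Finite) (hgq : ∀ g ∈ G, IsoAway q.hom (β (ρ g))) :
    IsPullback (wT w (Spec.map ρ ≫ j)) (toSpec q) ((Spec.map ρ ≫ j) ⁻¹ᵁ U).ι (Spec.map β) := by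
  have : IsFinite (Spec.map β) := (IsFinite.SpecMap_iff β).2 hβ
  refine isPullback_of_isoAway (wT w (Spec.map ρ ≫ j)) (Spec.map β) (toSpec q)
    ((toSpec_comp q β _ hq).trans (wT_ι w (Spec.map ρ ≫ j)).symm) fun x hx => ?_
  have hx' : Spec.map ρ x ∈ j ⁻¹ᵁ U := hx
  obtain ⟨g, hg, hgx⟩ := (hG _).1 hx'
  refine ⟨(Scheme.ΓSpecIso Rf).inv (ρ g), ?_, ?_, isoAway_toSpec β q _ (hgq g hg)⟩
  · rw [basicOpen_eq_of_affine]
    exact hgx
  · rw [basicOpen_eq_of_affine]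
    intro z hz
    have : Spec.map ρ z ∈ j ⁻¹ᵁ U := (hG _).2 ⟨g, hg, hz⟩
    exact this

/-- The affine local step: a finite étale cover of `U` whose restriction to `Spec M⁻¹R` extends
also extends over `Spec R_f` for some `f ∈ M`. -/
theorem exists_local {X : Scheme.{u}} {R S : CommRingCat.{u}} [IsNoetherianRing R] (j : Spec R ⟶ X)
    (a : R ⟶ S) (M : Submonoid R) (ha : letI := a.hom.toAlgebra; IsLocalization M S)
    (U : X.Opens) {V : Scheme.{u}} (w : V ⟶ U) [IsFinite w] {Y' : Scheme.{u}} (y' : Y' ⟶ Spec S)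
    [IsFinite y'] [Etale y'] {V' : Scheme.{u}} (g' : V' ⟶ V) (v' : V' ⟶ Spec S)
    (hV' : IsPullback g' v' (w ≫ U.ι) (Spec.map a ≫ j)) (ψ : V' ⟶ Y') [IsOpenImmersion ψ]
    (hψ : ψ ≫ y' = v') (hr : y' ⁻¹ᵁ (Spec.map a ⁻¹ᵁ (j ⁻¹ᵁ U)) ≤ ψ.opensRange) :
    ∃ f ∈ M, ∀ {Rf : CommRingCat.{u}} (ρ : R ⟶ Rf),
      (letI := ρ.hom.toAlgebra; IsLocalization.Away f Rf) →
      ∃ (B : CommRingCat.{u}) (β : Rf ⟶ B), β.hom.Finite ∧ β.hom.Etale ∧
      ∃ q : pullback (w ≫ U.ι) (Spec.map ρ ≫ j) ⟶ Spec B,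
        IsPullback (wT w (Spec.map ρ ≫ j)) q ((Spec.map ρ ≫ j) ⁻¹ᵁ U).ι (Spec.map β) := by
  classical
  -- the scheme over `Spec R`
  let V_R : Scheme.{u} := pullback (w ≫ U.ι) j
  let v_R : V_R ⟶ Spec R := pullback.snd (w ≫ U.ι) j
  have hUc : CompactSpace (j ⁻¹ᵁ U : (Spec R).Opens) :=
    isCompact_iff_compactSpace.1 (NoetherianSpace.isCompact _)
  have hVc : CompactSpace V_R := QuasiCompact.compactSpace_of_compactSpace (wT w j)
  have hUq : QuasiSeparatedSpace (j ⁻¹ᵁ U : (Spec R).Opens) :=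
    quasiSeparatedSpace_of_quasiSeparated (j ⁻¹ᵁ U).ι
  have hVq : QuasiSeparatedSpace V_R := quasiSeparatedSpace_of_quasiSeparated (wT w j)
  -- finitely many basic opens
  obtain ⟨G, hG0⟩ := (PrimeSpectrum.isCompact_isOpen_iff
    (s := ((j ⁻¹ᵁ U : (Spec R).Opens) : Set (Spec R)))).1
    ⟨isCompact_iff_compactSpace.2 hUc, (j ⁻¹ᵁ U).isOpen⟩
  have hG : ∀ x : PrimeSpectrum R, x ∈ j ⁻¹ᵁ U ↔ ∃ g ∈ G, g ∉ x.asIdeal := by
    intro x
    have h1 : x ∈ j ⁻¹ᵁ U ↔ x ∈ (PrimeSpectrum.zeroLocus (G : Set R))ᶜ := by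
      rw [hG0]
      rfl
    rw [h1, Set.mem_compl_iff, PrimeSpectrum.mem_zeroLocus, Set.not_subset]
    rfl
  have hgU : ∀ g ∈ G, (PrimeSpectrum.basicOpen g : (Spec R).Opens) ≤ j ⁻¹ᵁ U :=
    fun g hg x hx => (hG x).2 ⟨g, hg, hx⟩
  -- the square over `Spec S`
  have hfl : Flat (Spec.map a) := by
    letI := a.hom.toAlgebra
    haveI : IsLocalization M S := ha
    exact Flat.SpecMap_iff.2 (IsLocalization.flat S M : Module.Flat R S)
  let g'_R : V' ⟶ V_R := (IsPullback.of_hasPullback (w ≫ U.ι) j).lift g' (v' ≫ Spec.map a)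
    (by rw [hV'.w, Category.assoc])
  have hsq : IsPullback g'_R v' v_R (Spec.map a) :=
    IsPullback.of_right' hV' (IsPullback.of_hasPullback (w ≫ U.ι) j)
  have hpo := isPushout_of_flat a v_R g'_R v' hsq
  have hYa : IsAffine Y' := isAffine_of_isAffineHom y'
  have : IsAffineHom g'_R := MorphismProperty.of_isPullback hsq.flip inferInstance
  have hV'c : CompactSpace V' := QuasiCompact.compactSpace_of_compactSpace g'_R
  have hV'q : QuasiSeparatedSpace V' := quasiSeparatedSpace_of_quasiSeparated g'_R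
  obtain ⟨f, hf, key⟩ := exists_spread_ring M a ha _ _ _ hpo
    ((Scheme.ΓSpecIso S).inv ≫ y'.appTop) (finite_appTop y') (etale_appTop y') ψ.appTop
    (by rw [← hψ, Scheme.Hom.comp_appTop, Category.assoc]) G
    (fun g hg => finAway_appTop (wT w j) v_R (wT_ι w j) g (hgU g hg))
    (fun g hg => by
      refine isoAway_appTop_of_isOpenImmersion ψ _ ?_
      rw [basicOpen_appTop]
      refine le_trans ?_ hr
      refine Scheme.Hom.preimage_mono _ ?_
      intro x hx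
      exact hgU g hg (show Spec.map a x ∈ (PrimeSpectrum.basicOpen g : (Spec R).Opens) from hx))
  refine ⟨f, hf, ?_⟩
  intro Rf ρ hρ
  -- the square over `Spec R_f`
  have hfl' : Flat (Spec.map ρ) := by
    letI := ρ.hom.toAlgebra
    haveI : IsLocalization.Away f Rf := hρ
    exact Flat.SpecMap_iff.2 (IsLocalization.flat Rf (Submonoid.powers f) : Module.Flat R Rf)
  let V_T : Scheme.{u} := pullback (w ≫ U.ι) (Spec.map ρ ≫ j)
  let v_T : V_T ⟶ Spec Rf := pullback.snd (w ≫ U.ι) (Spec.map ρ ≫ j)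
  let g_T : V_T ⟶ V_R := (IsPullback.of_hasPullback (w ≫ U.ι) j).lift
    (pullback.fst (w ≫ U.ι) (Spec.map ρ ≫ j)) (v_T ≫ Spec.map ρ)
    (by rw [(IsPullback.of_hasPullback (w ≫ U.ι) (Spec.map ρ ≫ j)).w, Category.assoc])
  have hsqT : IsPullback g_T v_T v_R (Spec.map ρ) :=
    IsPullback.of_right' (IsPullback.of_hasPullback (w ≫ U.ι) (Spec.map ρ ≫ j))
      (IsPullback.of_hasPullback (w ≫ U.ι) j)
  have hpoT := isPushout_of_flat ρ v_R g_T v_T hsqT
  have : IsAffineHom g_T := MorphismProperty.of_isPullback hsqT.flip inferInstance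
  have hVTc : CompactSpace V_T := QuasiCompact.compactSpace_of_compactSpace g_T
  have hVTq : QuasiSeparatedSpace V_T := quasiSeparatedSpace_of_quasiSeparated g_T
  obtain ⟨B, β, q, hβq, hβ1, hβ2, hgq⟩ := key ρ g_T.appTop ((Scheme.ΓSpecIso Rf).inv ≫ v_T.appTop)
    hpoT.w hρ (isLocalization_away_of_isPushout ρ _ _ _ hpoT f hρ)
  exact ⟨B, β, hβ1, hβ2, toSpec q, exists_level_aux j ρ U w G hG B β q hβq hβ1 hgq⟩

end Groth.Agent.Pi1A.ExtNhdLocal
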