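import Groth.Agent.FlatA.LocalCriterion
import Mathlib.RingTheory.Smooth.Fiber
import Mathlib.RingTheory.Etale.Locus
import Mathlib.RingTheory.Unramified.Locus

/-!
# Etaleness at a prime from etaleness modulo the powers of an ideal
-/

universe u v

set_option autoImplicit false

open TensorProduct IsLocalRing

namespace Groth.Agent.Pi1A.FormalEtaleAlg

attribute [local instance] Algebra.FormallyEtale.of_formallyUnramified_of_field in
/-- Etale at `q` iff flat at `q` and unramified at `q`. -/
theorem isEtaleAt_of_flat_of_isUnramifiedAt {R S : Type*} [CommRing R] [CommRing S] [Algebra R S]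
    [Algebra.FinitePresentation R S] (q : Ideal S) [q.IsPrime]
    (hfl : Module.Flat R (Localization.AtPrime q)) (hu : Algebra.IsUnramifiedAt R q) :
    Algebra.IsEtaleAt R q := by
  let p := q.under R
  have : q.LiesOver p := ⟨rfl⟩
  let Rp := Localization.AtPrime p
  let Sp := Localization (Algebra.algebraMapSubmonoid S p.primeCompl)
  let Sq := Localization.AtPrime q
  let := Localization.AtPrime.algebraOfLiesOver p q
  let f : Sp →ₐ[S] Sq := IsLocalization.liftAlgHom (M := Algebra.algebraMapSubmonoid S p.primeCompl)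
        (f := Algebra.ofId _ _) (by
      rintro ⟨_, x, hx, rfl⟩
      simpa using! IsLocalization.map_units (M := q.primeCompl) Sq ⟨algebraMap _ _ x,
        by simp_all [q.over_def p]⟩)
  algebraize [f.toRingHom]
  have : IsScalarTower R Sp Sq := .to₁₃₄ _ S _ _
  have : IsScalarTower Rp Sp Sq := .of_algebraMap_eq' <| by
    apply IsLocalization.ringHom_ext p.primeCompl
    simp only [RingHom.comp_assoc, ← IsScalarTower.algebraMap_eq]
  have : IsLocalization (Algebra.algebraMapSubmonoid Sp q.primeCompl) Sq :=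
    .isLocalization_of_submonoid_le _ _ (Algebra.algebraMapSubmonoid S p.primeCompl) _
    (by rintro _ ⟨x, hx, rfl⟩; simp_all [q.over_def p])
  have : Algebra.FinitePresentation Rp Sp := by
    have : Algebra.IsPushout R Rp S Sp :=
      .symm <| Algebra.isPushout_of_isLocalization p.primeCompl _ _ _
    exact .equiv (Algebra.IsPushout.equiv R Rp S Sp)
  have hfl' : Module.Flat Rp Sq := (Module.flat_iff_of_isLocalization Rp p.primeCompl Sq).mpr hfl
  have hu1 : Algebra.FormallyUnramified Rp Sq := Algebra.FormallyUnramified.localization_base p.primeCompl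
  have hess0 : Algebra.EssFiniteType S Sq := Algebra.EssFiniteType.of_isLocalization Sq q.primeCompl
  have hess1 : Algebra.EssFiniteType R Sq := Algebra.EssFiniteType.comp R S Sq
  have hess : Algebra.EssFiniteType Rp Sq := Algebra.EssFiniteType.of_comp R Rp Sq
  have : Algebra.FormallySmooth (ResidueField Rp) (ResidueField Rp ⊗[Rp] Sq) := inferInstance
  have := Algebra.FormallySmooth.of_formallySmooth_residueField_tensor
    (R := Rp) (S := Sq) (P := Sp) (Algebra.algebraMapSubmonoid _ q.primeCompl)
  have h3 : Algebra.FormallyEtale Rp Sq := by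
    rw [Algebra.FormallyEtale.iff_formallyUnramified_and_formallySmooth]
    exact ⟨hu1, this⟩
  exact Algebra.FormallyEtale.comp R Rp Sq

attribute [local instance] Algebra.TensorProduct.rightAlgebra in
/-- Unramifiedness modulo an ideal implies unramifiedness at the primes containing it. -/
theorem isUnramifiedAt_of_quotient {R S : Type u} [CommRing R] [CommRing S] [Algebra R S]
    [Algebra.EssFiniteType R S] (J : Ideal R)
    (hu : Algebra.FormallyUnramified (R ⧸ J) ((R ⧸ J) ⊗[R] S))
    (q : Ideal S) [q.IsPrime] (hq : J.map (algebraMap R S) ≤ q) : Algebra.IsUnramifiedAt R q := by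
  change (⟨q, ‹_›⟩ : PrimeSpectrum S) ∈ Algebra.unramifiedLocus R S
  rw [Algebra.unramifiedLocus_eq_compl_support]
  intro hsup
  have h1 : Subsingleton ((R ⧸ J) ⊗[R] Ω[S⁄R]) :=
    (KaehlerDifferential.tensorKaehlerEquivBase R (R ⧸ J) S ((R ⧸ J) ⊗[R] S)).subsingleton
  have h2 : Subsingleton (Ω[S⁄R] ⧸ (J • (⊤ : Submodule R Ω[S⁄R]))) :=
    (TensorProduct.quotTensorEquivQuotSMul Ω[S⁄R] J).symm.subsingleton
  have h3 : J • (⊤ : Submodule R Ω[S⁄R]) = ⊤ := Submodule.Quotient.subsingleton_iff.mp h2
  have h4 : (⊤ : Submodule S Ω[S⁄R]) ≤ J.map (algebraMap R S) • (⊤ : Submodule S Ω[S⁄R]) := by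
    intro x _
    have hx : x ∈ J • (⊤ : Submodule R Ω[S⁄R]) := by rw [h3]; trivial
    refine Submodule.smul_induction_on hx (fun r hr n _ => ?_) (fun a b ha hb => add_mem ha hb)
    rw [← algebraMap_smul S r n]
    exact Submodule.smul_mem_smul (Ideal.mem_map_of_mem _ hr) trivial
  obtain ⟨r, hr, hr0⟩ := Submodule.exists_sub_one_mem_and_smul_eq_zero_of_fg_of_le_smul
    (J.map (algebraMap R S)) (⊤ : Submodule S Ω[S⁄R]) Module.Finite.fg_top h4
  have h5 : Module.annihilator S Ω[S⁄R] ≤ q := by
    rw [Module.support_eq_zeroLocus] at hsup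
    exact hsup
  have h6 : r ∈ q := h5 (Module.mem_annihilator.mpr fun m => hr0 m trivial)
  have h7 : (1 : S) ∈ q := by
    have := q.sub_mem h6 (hq hr)
    rwa [sub_sub_cancel] at this
  exact (q.ne_top_iff_one.1 (Ideal.IsPrime.ne_top ‹_›)) h7

/-- If `S/JⁿS` is flat over `R/Jⁿ` for all `n` and `S/JS` is unramified over `R/J`, then `S` is
etale over `R` at the primes containing `J`. -/
theorem isEtaleAt_of_quotient {R S : Type u} [CommRing R] [CommRing S] [IsNoetherianRing R]
    [Algebra R S] [Algebra.FiniteType R S] (J : Ideal R)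
    (hfl : ∀ n : ℕ, 0 < n → Module.Flat (R ⧸ J ^ n) ((R ⧸ J ^ n) ⊗[R] S))
    (hu : Algebra.FormallyUnramified (R ⧸ J) ((R ⧸ J) ⊗[R] S))
    (q : Ideal S) [q.IsPrime] (hq : J.map (algebraMap R S) ≤ q) : Algebra.IsEtaleAt R q := by
  have hN : IsNoetherianRing S := Algebra.FiniteType.isNoetherianRing R S
  have hfp : Algebra.FinitePresentation R S := Algebra.FinitePresentation.of_finiteType.mp inferInstance
  refine isEtaleAt_of_flat_of_isUnramifiedAt q ?_ (isUnramifiedAt_of_quotient J hu q hq)
  refine Groth.Agent.FlatA.LocalCriterion.flat_localized_of_forall_flat_quotient_pow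
    (B := S) (N := S) J hfl q.primeCompl ?_ (Algebra.linearMap S (Localization.AtPrime q))
  intro r hr h1
  have h3 : (1 : S) ∈ q := by
    have := q.add_mem (hq hr) h1
    rwa [add_sub_cancel] at this
  exact (q.ne_top_iff_one.1 (Ideal.IsPrime.ne_top ‹_›)) h3

end Groth.Agent.Pi1A.FormalEtaleAlg
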