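import Mathlib.RingTheory.Etale.QuasiFinite
import Mathlib.RingTheory.Etale.Locus
import Mathlib.RingTheory.Ideal.KrullsHeightTheorem
import Mathlib.RingTheory.Unramified.LocalRing
import Mathlib.RingTheory.Unramified.LocalStructure
import Groth.Agent.S2195
import Groth.Agent.S0249

/-!
# Ring level version of Stacks 0BJH: flat, quasi-finite, unramified in codimension one
-/

set_option autoImplicit false

universe u

open TensorProduct

namespace Groth.Agent.Pi1A.QfUnramAlg

/-- For quasi-finite going-down extensions of Noetherian rings, heights are preserved. -/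
lemma height_eq_of_quasiFinite {A B : Type*} [CommRing A] [CommRing B] [Algebra A B]
    [IsNoetherianRing A] [IsNoetherianRing B] [Algebra.QuasiFinite A B]
    [Algebra.HasGoingDown A B] (p : Ideal A) [p.IsPrime] (P : Ideal B) [P.IsPrime]
    [P.LiesOver p] : P.height = p.height := by
  rw [Ideal.height_eq_height_add_of_liesOver_of_hasGoingDown p P]
  have hle : p.map (algebraMap A B) ≤ P := by
    rw [Ideal.map_le_iff_le_comap]
    exact (P.over_def p).le
  have hprime : (P.map (Ideal.Quotient.mk (p.map (algebraMap A B)))).IsPrime :=
    Ideal.map_isPrime_of_surjective Ideal.Quotient.mk_surjective (by simpa using hle)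
  have : (P.map (Ideal.Quotient.mk (p.map (algebraMap A B)))).height = 0 := by
    rw [Ideal.height_eq_zero_iff]
    refine ⟨⟨hprime, bot_le⟩, ?_⟩
    rintro Q ⟨hQ, -⟩ hQP
    have h1 : Q.comap (Ideal.Quotient.mk (p.map (algebraMap A B))) ≤ P := by
      refine (Ideal.comap_mono hQP).trans ?_
      rw [Ideal.comap_map_of_surjective _ Ideal.Quotient.mk_surjective]
      simpa [sup_le_iff, ← RingHom.ker_eq_comap_bot] using hle
    have h2 : (Q.comap (Ideal.Quotient.mk (p.map (algebraMap A B)))).under A = P.under A := by
      apply le_antisymm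
      · exact Ideal.comap_mono h1
      · rw [← P.over_def p, Ideal.under_def, ← Ideal.map_le_iff_le_comap]
        intro x hx
        rw [Ideal.mem_comap, Ideal.Quotient.eq_zero_iff_mem.mpr hx]
        exact zero_mem _
    have h3 := Algebra.QuasiFinite.eq_of_le_of_under_eq (R := A) _ _ h1 h2
    rw [← h3, Ideal.map_comap_of_surjective _ Ideal.Quotient.mk_surjective]
  rw [this, add_zero]

/-- Formally unramified descends along faithfully flat formally etale extensions. -/
lemma formallyUnramified_of_formallyEtale {R A B : Type*} [CommRing R] [CommRing A] [CommRing B]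
    [Algebra R A] [Algebra A B] [Algebra R B] [IsScalarTower R A B] [Algebra.FormallyEtale A B]
    [Module.FaithfullyFlat A B] [Algebra.FormallyUnramified R B] :
    Algebra.FormallyUnramified R A := by
  rw [Algebra.formallyUnramified_iff]
  have e := KaehlerDifferential.tensorKaehlerEquivOfFormallyEtale R A B
  have h : Subsingleton (Ω[B⁄R]) := inferInstance
  have h' : Subsingleton (B ⊗[A] Ω[A⁄R]) := e.toEquiv.subsingleton
  exact Module.FaithfullyFlat.lTensor_reflects_triviality A B _

/-- The discriminant commutes with base change. -/
lemma discr_baseChange {A B : Type*} [CommRing A] [CommRing B] [Algebra A B] {ι : Type*}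
    [Fintype ι] [DecidableEq ι] (b : Module.Basis ι A B) (K : Type*) [CommRing K] [Algebra A K] :
    Algebra.discr K (b.baseChange K) = algebraMap A K (Algebra.discr A b) := by
  have hfree : Module.Free A B := Module.Free.of_basis b
  have hfin : Module.Finite A B := Module.Finite.of_basis b
  rw [Algebra.discr_def, Algebra.discr_def, RingHom.map_det]
  congr 1
  ext i j
  rw [Algebra.traceMatrix_apply, Algebra.traceForm_apply, RingHom.mapMatrix_apply,
    Matrix.map_apply, Algebra.traceMatrix_apply, Algebra.traceForm_apply,
    Module.Basis.baseChange_apply, Module.Basis.baseChange_apply,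
    Algebra.TensorProduct.tmul_mul_tmul, one_mul, Algebra.trace_apply, Algebra.trace_apply,
    ← LinearMap.trace_baseChange]
  congr 1
  refine TensorProduct.AlgebraTensorModule.ext fun x y => ?_
  simp

/-- A finite flat algebra over a Noetherian local ring of positive dimension, unramified at all
primes over height one primes, is etale. -/
theorem etale_of_local {R S : Type u} [CommRing R] [IsNoetherianRing R] [IsLocalRing R]
    [CommRing S] [Algebra R S] [Module.Finite R S] [Module.Flat R S]
    (hdim : (1 : WithBot ℕ∞) ≤ ringKrullDim R)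
    (h : ∀ (Q : Ideal S) [Q.IsPrime], (Q.under R).height = 1 → Algebra.IsUnramifiedAt R Q) :
    Algebra.Etale R S := by
  have hfree : Module.Free R S := Module.free_of_flat_of_isLocalRing
  have b := Module.finBasis R S
  rw [S2195.result b]
  by_contra hd
  obtain ⟨p, hp, hdp, hp1⟩ := S0249.result R hdim _ ((IsLocalRing.mem_maximalIdeal _).mpr hd)
  have hunr : Algebra.FormallyUnramified p.ResidueField (p.Fiber S) := by
    rw [Algebra.formallyUnramified_iff_forall]
    intro Q'
    have hQ : ((Q'.asIdeal.comap Algebra.TensorProduct.includeRight.toRingHom :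
        Ideal S)).LiesOver p := by
      constructor
      have h1 := (Q'.asIdeal.over_def p)
      refine h1.trans ?_
      rw [Ideal.under_def, Ideal.under_def, Ideal.comap_comap]
      congr 1
      exact (Algebra.TensorProduct.includeRight :
        S →ₐ[R] p.ResidueField ⊗[R] S).comp_algebraMap.symm
    have := h (Q'.asIdeal.comap Algebra.TensorProduct.includeRight.toRingHom) (by
      rw [← hQ.over, hp1])
    exact Algebra.IsUnramifiedAt.residueField p _ Q'.asIdeal rfl
  have het : Algebra.FormallyEtale p.ResidueField (p.Fiber S) :=
    Algebra.FormallyEtale.of_formallyUnramified_of_field _ _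
  have hfp : Algebra.FinitePresentation p.ResidueField (p.Fiber S) :=
    Algebra.FinitePresentation.of_finiteType.mp inferInstance
  have het2 : Algebra.Etale p.ResidueField (p.Fiber S) := ⟨inferInstance, inferInstance⟩
  have hu := (S2195.result (b.baseChange p.ResidueField)).mp het2
  rw [discr_baseChange, Ideal.algebraMap_residueField_eq_zero.mpr hdp] at hu
  exact not_isUnit_zero hu

/-- Unramifiedness at a prime only depends on a formally etale flat neighbourhood. -/
lemma isUnramifiedAt_iff_of_formallyEtale {R S R' C : Type*} [CommRing R] [CommRing S]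
    [CommRing R'] [CommRing C] [Algebra R S] [Algebra R R'] [Algebra R C] [Algebra S C]
    [Algebra R' C] [IsScalarTower R S C] [IsScalarTower R R' C] [Algebra.FormallyEtale R R']
    [Algebra.FormallyEtale S C] [Module.Flat S C] (q : Ideal S) [q.IsPrime] (Q : Ideal C)
    [Q.IsPrime] [Q.LiesOver q] : Algebra.IsUnramifiedAt R q ↔ Algebra.IsUnramifiedAt R' Q := by
  let := Localization.AtPrime.algebraOfLiesOver q Q
  have h1 : Algebra.FormallyEtale S (Localization.AtPrime Q) :=
    .comp S C (Localization.AtPrime Q)
  have h2 : Algebra.FormallyEtale (Localization.AtPrime q) (Localization.AtPrime Q) :=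
    .localization_base q.primeCompl
  have h3 : Module.Flat (Localization.AtPrime q) (Localization.AtPrime Q) := inferInstance
  have h4 : Module.FaithfullyFlat (Localization.AtPrime q) (Localization.AtPrime Q) :=
    Module.FaithfullyFlat.of_flat_of_isLocalHom
  constructor
  · intro h
    have h5 : Algebra.FormallyUnramified R (Localization.AtPrime Q) :=
      Algebra.FormallyUnramified.comp R (Localization.AtPrime q) _
    exact Algebra.FormallyUnramified.of_restrictScalars R R' (Localization.AtPrime Q)
  · intro h
    have h5 : Algebra.FormallyUnramified R (Localization.AtPrime Q) :=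
      Algebra.FormallyUnramified.comp R R' _
    exact formallyUnramified_of_formallyEtale (B := Localization.AtPrime Q)

attribute [local instance] Algebra.TensorProduct.rightAlgebra in
/-- **Stacks 0BJH, ring version.** -/
theorem isUnramifiedAt_of_codim_one {R S : Type u} [CommRing R] [CommRing S] [Algebra R S]
    [IsNoetherianRing R] [Algebra.FiniteType R S] [Module.Flat R S] (q : Ideal S) [q.IsPrime]
    [Algebra.QuasiFiniteAt R q] (h1 : 1 ≤ q.height)
    (hunr : ∀ (q' : Ideal S) [q'.IsPrime], q' ≤ q → q'.height = 1 →
      Algebra.IsUnramifiedAt R q') : Algebra.IsUnramifiedAt R q := by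
  obtain ⟨R', _, _, _, P, _, _, e, he, P', _, _, hP'q, heP', hres, hfin, huniq⟩ :=
    Algebra.exists_etale_isIdempotentElem_forall_liesOver_eq (q.under R) q
  have hR' : IsNoetherianRing R' := Algebra.FiniteType.isNoetherianRing R R'
  have hS : IsNoetherianRing S := Algebra.FiniteType.isNoetherianRing R S
  -- base change
  have hTe : Algebra.FormallyEtale S (R' ⊗[R] S) :=
    Algebra.FormallyEtale.of_equiv (Algebra.TensorProduct.commRight R S R')
  have hTf : Module.Flat S (R' ⊗[R] S) :=
    Module.Flat.of_linearEquiv (Algebra.TensorProduct.commRight R S R').symm.toLinearEquiv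
  have hTq : Algebra.QuasiFinite S (R' ⊗[R] S) :=
    (Algebra.QuasiFinite.iff_of_algEquiv (Algebra.TensorProduct.commRight R S R')).mp
      inferInstance
  let C := Localization.Away e
  let Rl := Localization.AtPrime P
  let Cl := Localization (Algebra.algebraMapSubmonoid C P.primeCompl)
  have hfl : Module.Flat R' C := Module.Flat.trans R' (R' ⊗[R] S) C
  have hCN : IsNoetherianRing C := IsNoetherianRing.of_finite R' C
  have hRlN : IsNoetherianRing Rl := IsLocalization.isNoetherianRing P.primeCompl _ inferInstance
  have hfinl : Module.Finite Rl Cl := Module.Finite.of_isLocalization R' C P.primeCompl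
  have hfll : Module.Flat Rl Cl := by
    have : IsLocalizedModule P.primeCompl (IsScalarTower.toAlgHom R' C Cl).toLinearMap := by
      infer_instance
    exact Module.Flat.of_isLocalizedModule Rl P.primeCompl
      (IsScalarTower.toAlgHom R' C Cl).toLinearMap
  have hClN : IsNoetherianRing Cl := IsNoetherianRing.of_finite Rl Cl
  have hSC : Algebra.FormallyEtale S C := .comp S (R' ⊗[R] S) C
  have hSCl : Algebra.FormallyEtale S Cl := .comp S C Cl
  have hSCf : Module.Flat S C := Module.Flat.trans S (R' ⊗[R] S) C
  have hSClf : Module.Flat S Cl := Module.Flat.trans S C Cl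
  have hSCq : Algebra.QuasiFinite S Cl := inferInstance
  have hRC : IsScalarTower R S C := inferInstance
  have hRCl : IsScalarTower R S Cl := inferInstance
  have hRRl : IsScalarTower R Rl Cl := IsScalarTower.to₁₃₄ R R' Rl Cl
  -- maximal ideals of `Cl` contract to `q`
  have hmax : ∀ (M : Ideal Cl) [M.IsMaximal], M.under S = q := by
    intro M hM
    have hM1 : (M.under Rl).IsMaximal := Ideal.isMaximal_comap_of_isIntegral_of_isMaximal M
    have hM2 : M.under R' = P := by
      have h : (M.under Rl).under R' = P := by
        rw [IsLocalRing.eq_maximalIdeal hM1]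
        exact Localization.AtPrime.under_maximalIdeal (I := P)
      exact (Ideal.under_under (B := Rl) M).symm.trans h
    have hM3 : M.under (R' ⊗[R] S) = P' := by
      refine huniq _ inferInstance ⟨?_⟩ ?_
      · rw [Ideal.under_under, hM2]
      · intro he'
        have hu : IsUnit (algebraMap (R' ⊗[R] S) Cl e) := by
          rw [IsScalarTower.algebraMap_apply (R' ⊗[R] S) C Cl]
          exact (IsLocalization.Away.algebraMap_isUnit e).map _
        exact (inferInstance : M.IsPrime).ne_top (Ideal.eq_top_of_isUnit_mem M he' hu)
    rw [← hP'q, ← hM3, ← Ideal.under_under (B := R' ⊗[R] S) M]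
    rfl
  -- there is a maximal ideal
  have hnt : Nontrivial Cl := by
    by_contra hsub
    rw [not_nontrivial_iff_subsingleton] at hsub
    have h0 : (0 : C) ∈ Algebra.algebraMapSubmonoid C P.primeCompl := by
      exact (IsLocalization.subsingleton_iff (S := Cl)).mp hsub
    obtain ⟨r, hr, hr0⟩ := h0
    have h2 : algebraMap (R' ⊗[R] S) C (algebraMap R' (R' ⊗[R] S) r) = 0 := by
      rw [← IsScalarTower.algebraMap_apply]
      exact hr0
    rw [IsLocalization.map_eq_zero_iff (Submonoid.powers e)] at h2
    obtain ⟨⟨_, n, rfl⟩, hn⟩ := h2
    have h3 : e ^ n * algebraMap R' (R' ⊗[R] S) r ∈ P' := by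
      simp only at hn
      rw [hn]
      exact zero_mem _
    rcases (inferInstance : P'.IsPrime).mem_or_mem h3 with h4 | h4
    · exact heP' ((inferInstance : P'.IsPrime).mem_of_pow_mem n h4)
    · refine hr ?_
      have h5 : P'.under R' = P := (P'.over_def P).symm
      have h6 : r ∈ P'.under R' := h4
      exact h5.le h6
  obtain ⟨M, hM⟩ := Ideal.exists_maximal Cl
  have hMq : M.under S = q := hmax M
  have hMlo : M.LiesOver q := ⟨hMq.symm⟩
  have hdim : (1 : WithBot ℕ∞) ≤ ringKrullDim Rl := by
    have hM1 : (M.under Rl).IsMaximal := Ideal.isMaximal_comap_of_isIntegral_of_isMaximal M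
    have e1 : M.height = q.height := height_eq_of_quasiFinite q M
    have e2 : M.height = (M.under Rl).height := height_eq_of_quasiFinite (M.under Rl) M
    rw [← IsLocalRing.maximalIdeal_height_eq_ringKrullDim, ← IsLocalRing.eq_maximalIdeal hM1,
      ← e2, e1]
    exact_mod_cast h1
  have het : Algebra.Etale Rl Cl := by
    refine etale_of_local hdim fun Q _ hQ => ?_
    have hQlo : Q.LiesOver (Q.under S) := inferInstance
    rw [← isUnramifiedAt_iff_of_formallyEtale (R := R) (S := S) (Q.under S) Q]
    refine hunr _ ?_ ?_
    · obtain ⟨N, hN, hQN⟩ := Q.exists_le_maximal (Ideal.IsPrime.ne_top inferInstance)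
      rw [← hmax N]
      exact Ideal.comap_mono hQN
    · rw [← height_eq_of_quasiFinite (Q.under S) Q, height_eq_of_quasiFinite (Q.under Rl) Q, hQ]
  rw [isUnramifiedAt_iff_of_formallyEtale (R' := Rl) q M]
  infer_instance

end Groth.Agent.Pi1A.QfUnramAlg
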