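import Mathlib.AlgebraicGeometry.Noetherian
import Mathlib.AlgebraicGeometry.Morphisms.QuasiFinite
import Mathlib.AlgebraicGeometry.Morphisms.Etale
import Groth.Agent.Pi1A.QfUnramAlg

/-!
# Dictionary between stalks of a morphism and localizations on affine opens;
scheme version of Stacks 0BJH.
-/

set_option autoImplicit false

universe u

open CategoryTheory CategoryTheory.Limits AlgebraicGeometry

namespace Groth.Agent.Pi1A.QfUnramSch

/-- Etaleness near a point from etaleness of an open immersion followed by `f`. -/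
lemma etale_opensRange {X Y W : Scheme.{u}} (f : X ⟶ Y) (j : W ⟶ X) [IsOpenImmersion j]
    (h : Etale (j ≫ f)) : Etale (j.opensRange.ι ≫ f) := by
  have : j.opensRange.ι ≫ f = j.isoOpensRange.inv ≫ (j ≫ f) := by simp
  rw [this]
  infer_instance

/-- The height of the prime of a point on an affine open is the dimension of the local ring. -/
lemma ringKrullDim_stalk {X : Scheme.{u}} {U : X.Opens} (hU : IsAffineOpen U) (x : X)
    (hx : x ∈ U) :
    ringKrullDim (X.presheaf.stalk x) = (hU.primeIdealOf ⟨x, hx⟩).asIdeal.height := by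
  let := X.presheaf.algebra_section_stalk (⟨x, hx⟩ : U)
  have := hU.isLocalization_stalk ⟨x, hx⟩
  exact IsLocalization.AtPrime.ringKrullDim_eq_height (hU.primeIdealOf ⟨x, hx⟩).asIdeal
    (X.presheaf.stalk x)

/-- The prime of `fromSpec y` is `y`. -/
lemma primeIdealOf_fromSpec {X : Scheme.{u}} {U : X.Opens} (hU : IsAffineOpen U)
    (y : PrimeSpectrum Γ(X, U)) (hy : hU.fromSpec y ∈ U) :
    hU.primeIdealOf ⟨hU.fromSpec y, hy⟩ = y := by
  apply hU.fromSpec.isOpenEmbedding.injective
  rw [hU.fromSpec_primeIdealOf]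

lemma fromSpec_mem {X : Scheme.{u}} {U : X.Opens} (hU : IsAffineOpen U)
    (y : PrimeSpectrum Γ(X, U)) : hU.fromSpec y ∈ U := by
  have : hU.fromSpec y ∈ Set.range hU.fromSpec := ⟨y, rfl⟩
  rw [hU.range_fromSpec] at this
  exact this

/-- Unramifiedness of the stalk map is unramifiedness at the prime. -/
lemma isUnramifiedAt_of_stalkMap {X Y : Scheme.{u}} (f : X ⟶ Y) {V : Y.Opens} {U : X.Opens}
    (hV : IsAffineOpen V) (hU : IsAffineOpen U) (e : U ≤ f ⁻¹ᵁ V) (x : X) (hx : x ∈ U)
    (h : (f.stalkMap x).hom.FormallyUnramified) :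
    letI := (f.appLE V U e).hom.toAlgebra
    Algebra.IsUnramifiedAt Γ(Y, V) (hU.primeIdealOf ⟨x, hx⟩).asIdeal := by
  algebraize [(f.appLE V U e).hom]
  have H : (Y.presheaf.germ V _ (e hx)).hom.FormallyUnramified := by
    algebraize [(Y.presheaf.germ V _ (e hx)).hom]
    have := hV.isLocalization_stalk ⟨f x, (e hx)⟩
    exact Algebra.FormallyUnramified.of_isLocalization
      (hV.primeIdealOf ⟨_, e hx⟩).asIdeal.primeCompl
  algebraize [(X.presheaf.germ U x hx).hom]
  have := hU.isLocalization_stalk ⟨x, hx⟩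
  let e' := IsLocalization.algEquiv (hU.primeIdealOf ⟨x, hx⟩).asIdeal.primeCompl
    (X.presheaf.stalk (⟨x, hx⟩ : U.1)) (Localization.AtPrime (hU.primeIdealOf ⟨x, hx⟩).asIdeal)
  rw [Algebra.IsUnramifiedAt, ← RingHom.formallyUnramified_algebraMap]
  convert! (H.comp h).comp (RingHom.FormallyUnramified.of_surjective e'.surjective)
  rw [← CommRingCat.hom_comp, f.germ_stalkMap, ← X.presheaf.germ_res (homOfLE e) _ hx,
    Scheme.Hom.app_eq_appLE, Scheme.Hom.appLE_map_assoc, CommRingCat.hom_comp, ← RingHom.comp_assoc,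
    IsScalarTower.algebraMap_eq Γ(Y, V) Γ(X, U), e'.toAlgHom.comp_algebraMap.symm]
  rfl

/-- A flat morphism locally of finite type of locally Noetherian schemes which is unramified at a
point of an affine open (in the sense of rings) is etale near the point. -/
lemma exists_etale_of_isUnramifiedAt {X Y : Scheme.{u}} (f : X ⟶ Y) [LocallyOfFiniteType f]
    [Flat f] [IsLocallyNoetherian Y] {V : Y.Opens} {U : X.Opens}
    (hV : IsAffineOpen V) (hU : IsAffineOpen U) (e : U ≤ f ⁻¹ᵁ V) (x : X) (hx : x ∈ U)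
    (h : letI := (f.appLE V U e).hom.toAlgebra
      Algebra.IsUnramifiedAt Γ(Y, V) (hU.primeIdealOf ⟨x, hx⟩).asIdeal) :
    ∃ W : X.Opens, x ∈ W ∧ Etale (W.ι ≫ f) := by
  have hft := f.finiteType_appLE hV hU e
  have hfl := f.flat_appLE hV hU e
  algebraize [(f.appLE V U e).hom]
  have hN : IsNoetherianRing Γ(Y, V) := IsLocallyNoetherian.component_noetherian ⟨V, hV⟩
  obtain ⟨s, hs, hsu⟩ := Algebra.exists_unramified_of_isUnramifiedAt (R := Γ(Y, V))
    (hU.primeIdealOf ⟨x, hx⟩).asIdeal
  have hfp : Algebra.FinitePresentation Γ(Y, V) (Localization.Away s) :=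
    Algebra.FinitePresentation.of_finiteType.mp inferInstance
  have hflat : Module.Flat Γ(Y, V) (Localization.Away s) :=
    Module.Flat.trans _ Γ(X, U) _
  have het : Algebra.Etale Γ(Y, V) (Localization.Away s) :=
    Algebra.Etale.of_formallyUnramified_of_flat
  let j₀ : Spec (CommRingCat.of (Localization.Away s)) ⟶ Spec Γ(X, U) :=
    Spec.map (CommRingCat.ofHom (algebraMap Γ(X, U) (Localization.Away s)))
  have hj₀ : IsOpenImmersion j₀ := inferInstance
  let j := j₀ ≫ hU.fromSpec
  have hj : IsOpenImmersion j := inferInstance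
  refine ⟨j.opensRange, ?_, etale_opensRange f j ?_⟩
  · have h1 : hU.primeIdealOf ⟨x, hx⟩ ∈ Set.range j₀ := by
      have := PrimeSpectrum.localization_away_comap_range (Localization.Away s) s
      have h2 : hU.primeIdealOf ⟨x, hx⟩ ∈
        (PrimeSpectrum.basicOpen s : Set (PrimeSpectrum Γ(X, U))) := hs
      rw [← this] at h2
      exact h2
    obtain ⟨z, hz⟩ := h1
    refine ⟨z, ?_⟩
    rw [Scheme.Hom.comp_apply, hz, hU.fromSpec_primeIdealOf]
  · have h1 : j ≫ f = Spec.map (CommRingCat.ofHom (algebraMap Γ(Y, V) (Localization.Away s))) ≫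
        hV.fromSpec := by
      have h2 : Spec.map (CommRingCat.ofHom (algebraMap Γ(Y, V) (Localization.Away s))) =
          j₀ ≫ Spec.map (f.appLE V U e) := by
        rw [← Spec.map_comp]
        congr 1
      rw [Category.assoc, ← IsAffineOpen.SpecMap_appLE_fromSpec f hV hU e, h2, Category.assoc]
    rw [h1]
    have : Etale (Spec.map (CommRingCat.ofHom (algebraMap Γ(Y, V) (Localization.Away s)))) := by
      rw [HasRingHomProperty.Spec_iff (P := @Etale)]
      exact RingHom.etale_algebraMap.mpr het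
    infer_instance

end Groth.Agent.Pi1A.QfUnramSch
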