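import Groth.Prelude.Def_FEt
import Groth.Agent.Pi1A.FormalEtaleAlg
import Groth.Agent.Pi1A.QfUnramSch
import Mathlib.AlgebraicGeometry.Morphisms.Proper
import Mathlib.AlgebraicGeometry.Morphisms.Etale

/-!
# Etaleness over a complete base can be tested on the thickenings

`etale_of_forall_etale`: `A` Noetherian, `I` contained in the Jacobson radical, `X` locally
Noetherian over `A`, `p : Y ⟶ X` locally of finite type with `Y ⟶ Spec A` universally closed. If all
base changes of `p` to `X ×[A] A/Iⁿ` are etale, then `p` is etale.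
-/

universe u

set_option autoImplicit false
set_option backward.isDefEq.respectTransparency false
set_option backward.isDefEq.respectTransparency.types false
set_option backward.defeqAttrib.useBackward true

open CategoryTheory CategoryTheory.Limits AlgebraicGeometry TensorProduct

namespace Groth.Agent.Pi1A.FormalEtale

/-- The ring map of a restriction of `p : Y ⟶ X` over a closed subscheme of an affine open is
etale if the base change of `p` is. -/
theorem etale_tensor {X Y : Scheme.{u}} (p : Y ⟶ X) {U : X.Opens} {V : Y.Opens}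
    (hU : IsAffineOpen U) (hV : IsAffineOpen V) (e : V ≤ p ⁻¹ᵁ U) (T : Type u) [CommRing T]
    (ψ : Γ(X, U) →+* T) {c : Spec (CommRingCat.of T) ⟶ X}
    (hc : c = Spec.map (CommRingCat.ofHom ψ) ≫ hU.fromSpec)
    (h : Etale (pullback.snd p c)) :
    letI := (p.appLE U V e).hom.toAlgebra
    letI := ψ.toAlgebra
    Algebra.Etale T (T ⊗[Γ(X, U)] Γ(Y, V)) := by
  letI := (p.appLE U V e).hom.toAlgebra
  letI := ψ.toAlgebra
  subst hc
  have hpo := CommRingCat.isPushout_tensorProduct Γ(X, U) T Γ(Y, V)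
  have h1 : IsPullback (Spec.map (CommRingCat.ofHom
      (Algebra.TensorProduct.includeRight (R := Γ(X, U)) (A := T) (B := Γ(Y, V))).toRingHom))
      (Spec.map (CommRingCat.ofHom
      (Algebra.TensorProduct.includeLeftRingHom (R := Γ(X, U)) (A := T) (B := Γ(Y, V)))))
      (Spec.map (p.appLE U V e)) (Spec.map (CommRingCat.ofHom ψ)) :=
    (isPullback_SpecMap_of_isPushout _ _ _ _ hpo).flip
  set s1 := Spec.map (CommRingCat.ofHom
      (Algebra.TensorProduct.includeRight (R := Γ(X, U)) (A := T) (B := Γ(Y, V))).toRingHom)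
  set s2 := Spec.map (CommRingCat.ofHom
      (Algebra.TensorProduct.includeLeftRingHom (R := Γ(X, U)) (A := T) (B := Γ(Y, V)))) with hs2
  set c := Spec.map (CommRingCat.ofHom ψ) ≫ hU.fromSpec with hc
  have h2 : IsPullback (Spec.map (CommRingCat.ofHom ψ)) (𝟙 _) hU.fromSpec c :=
    IsPullback.of_vert_isIso_mono ⟨by simp [hc]⟩
  have h3 : IsPullback s1 s2 (hV.fromSpec ≫ p) c := by
    have := h1.paste_vert h2
    rw [Category.comp_id, IsAffineOpen.SpecMap_appLE_fromSpec p hU hV e] at this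
    exact this
  let t := pullback.lift (s1 ≫ hV.fromSpec) s2 (by rw [Category.assoc, h3.w])
  have ht1 : t ≫ pullback.fst p c = s1 ≫ hV.fromSpec := pullback.lift_fst _ _ _
  have ht2 : t ≫ pullback.snd p c = s2 := pullback.lift_snd _ _ _
  have h4 : IsPullback s1 t hV.fromSpec (pullback.fst p c) := by
    refine IsPullback.of_bot ?_ ht1.symm (IsPullback.of_hasPullback p c)
    rw [ht2]
    exact h3
  have h5 : IsOpenImmersion t := MorphismProperty.of_isPullback h4 inferInstance
  have h6 : Etale s2 := by rw [← ht2]; infer_instance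
  rw [hs2, HasRingHomProperty.Spec_iff (P := @Etale)] at h6
  exact RingHom.etale_algebraMap.mp h6

/-- The local statement at a point over `V(I)`. -/
theorem exists_etale_at {A : Type u} [CommRing A] (I : Ideal A) {X Y : Scheme.{u}}
    (f : X ⟶ Spec (CommRingCat.of A)) [IsLocallyNoetherian X] (p : Y ⟶ X) [LocallyOfFiniteType p]
    (h : ∀ n : ℕ, 0 < n → Etale (pullback.snd p (pullback.fst f
      (Spec.map (CommRingCat.ofHom (Ideal.Quotient.mk (I ^ n)))))))
    (y : Y) (hy : I ≤ ((p ≫ f) y).asIdeal) :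
    ∃ W : Y.Opens, y ∈ W ∧ Etale (W.ι ≫ p) := by
  obtain ⟨U, hU, hxU, -⟩ := exists_isAffineOpen_mem_and_subset
    (x := p y) (U := ⊤) trivial
  obtain ⟨V, hV, hyV, hVU⟩ := exists_isAffineOpen_mem_and_subset
    (x := y) (U := p ⁻¹ᵁ U) hxU
  have e : V ≤ p ⁻¹ᵁ U := hVU
  let α : CommRingCat.of A ⟶ Γ(X, U) := Spec.preimage (hU.fromSpec ≫ f)
  have hα : Spec.map α = hU.fromSpec ≫ f := Spec.map_preimage _
  have hft := p.finiteType_appLE hU hV e
  have hN : IsNoetherianRing Γ(X, U) := IsLocallyNoetherian.component_noetherian ⟨U, hU⟩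
  algebraize [(p.appLE U V e).hom]
  let J : Ideal Γ(X, U) := I.map α.hom
  have het : ∀ n : ℕ, 0 < n → Algebra.Etale (Γ(X, U) ⧸ J ^ n) ((Γ(X, U) ⧸ J ^ n) ⊗[Γ(X, U)] Γ(Y, V)) := by
    intro n hn
    have hle : I ^ n ≤ (J ^ n).comap α.hom := by
      rw [← Ideal.map_le_iff_le_comap, Ideal.map_pow]
    let c := Spec.map (CommRingCat.ofHom (Ideal.Quotient.mk (J ^ n))) ≫ hU.fromSpec
    have hcomm : c ≫ f = Spec.map (CommRingCat.ofHom (Ideal.quotientMap (J ^ n) α.hom hle)) ≫
        Spec.map (CommRingCat.ofHom (Ideal.Quotient.mk (I ^ n))) := by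
      rw [Category.assoc, ← hα, ← Spec.map_comp, ← Spec.map_comp]
      congr 1
    let a := pullback.lift c (Spec.map (CommRingCat.ofHom (Ideal.quotientMap (J ^ n) α.hom hle))) hcomm
    have ha : a ≫ pullback.fst _ _ = c := pullback.lift_fst _ _ _
    have h1 := h n hn
    have h2 : Etale (pullback.snd p c) := by
      rw [← ha, ← pullbackLeftPullbackSndIso_inv_snd_snd]
      infer_instance
    exact etale_tensor p hU hV e (Γ(X, U) ⧸ J ^ n) (Ideal.Quotient.mk (J ^ n)) rfl h2
  have hq : J.map (algebraMap Γ(X, U) Γ(Y, V)) ≤ (hV.primeIdealOf ⟨y, hyV⟩).asIdeal := by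
    have h1 : hV.fromSpec ≫ p ≫ f = Spec.map (α ≫ p.appLE U V e) := by
      rw [← IsAffineOpen.SpecMap_appLE_fromSpec_assoc p hU hV e, ← hα, Spec.map_comp]
    have h2 : (p ≫ f) y = Spec.map (α ≫ p.appLE U V e) (hV.primeIdealOf ⟨y, hyV⟩) := by
      rw [← h1, Scheme.Hom.comp_apply hV.fromSpec, hV.fromSpec_primeIdealOf]
    rw [h2] at hy
    rw [Ideal.map_map, Ideal.map_le_iff_le_comap]
    exact hy
  have hea : Algebra.IsEtaleAt Γ(X, U) (hV.primeIdealOf ⟨y, hyV⟩).asIdeal := by
    refine FormalEtaleAlg.isEtaleAt_of_quotient J (fun n hn => ?_) ?_ _ hq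
    · have := het n hn
      infer_instance
    · have h1 := het 1 one_pos
      have : Algebra.FormallyUnramified (Γ(X, U) ⧸ J ^ 1) ((Γ(X, U) ⧸ J ^ 1) ⊗[Γ(X, U)] Γ(Y, V)) := inferInstance
      rw [pow_one] at this
      exact this
  have hfp : Algebra.FinitePresentation Γ(X, U) Γ(Y, V) :=
    Algebra.FinitePresentation.of_finiteType.mp inferInstance
  obtain ⟨s, hs, hse⟩ := Algebra.exists_etale_of_isEtaleAt (R := Γ(X, U))
    (hV.primeIdealOf ⟨y, hyV⟩).asIdeal
  let j₀ : Spec (CommRingCat.of (Localization.Away s)) ⟶ Spec Γ(Y, V) :=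
    Spec.map (CommRingCat.ofHom (algebraMap Γ(Y, V) (Localization.Away s)))
  have hj₀ : IsOpenImmersion j₀ := inferInstance
  let j := j₀ ≫ hV.fromSpec
  have hj : IsOpenImmersion j := inferInstance
  refine ⟨j.opensRange, ?_, QfUnramSch.etale_opensRange p j ?_⟩
  · have h1 : hV.primeIdealOf ⟨y, hyV⟩ ∈ Set.range j₀ := by
      have := PrimeSpectrum.localization_away_comap_range (Localization.Away s) s
      have h2 : hV.primeIdealOf ⟨y, hyV⟩ ∈
        (PrimeSpectrum.basicOpen s : Set (PrimeSpectrum Γ(Y, V))) := hs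
      rw [← this] at h2
      exact h2
    obtain ⟨z, hz⟩ := h1
    refine ⟨z, ?_⟩
    rw [Scheme.Hom.comp_apply, hz, hV.fromSpec_primeIdealOf]
  · have h1 : j ≫ p = Spec.map (CommRingCat.ofHom (algebraMap Γ(X, U) (Localization.Away s))) ≫
        hU.fromSpec := by
      have h2 : Spec.map (CommRingCat.ofHom (algebraMap Γ(X, U) (Localization.Away s))) =
          j₀ ≫ Spec.map (p.appLE U V e) := by
        rw [← Spec.map_comp]
        congr 1
      rw [Category.assoc, ← IsAffineOpen.SpecMap_appLE_fromSpec p hU hV e, h2, Category.assoc]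
    rw [h1]
    have : Etale (Spec.map (CommRingCat.ofHom (algebraMap Γ(X, U) (Localization.Away s)))) := by
      rw [HasRingHomProperty.Spec_iff (P := @Etale)]
      exact RingHom.etale_algebraMap.mpr hse
    infer_instance

/-- The main statement. -/
theorem etale_of_forall_etale {A : Type u} [CommRing A] (I : Ideal A)
    (hI : ∀ m : Ideal A, m.IsMaximal → I ≤ m) {X Y : Scheme.{u}}
    (f : X ⟶ Spec (CommRingCat.of A)) [IsLocallyNoetherian X] (p : Y ⟶ X) [LocallyOfFiniteType p]
    [UniversallyClosed (p ≫ f)]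
    (h : ∀ n : ℕ, 0 < n → Etale (pullback.snd p (pullback.fst f
      (Spec.map (CommRingCat.ofHom (Ideal.Quotient.mk (I ^ n))))))) : Etale p := by
  let E : Set Y := {y | ∃ W : Y.Opens, y ∈ W ∧ Etale (W.ι ≫ p)}
  have hE : IsOpen E := by
    rw [isOpen_iff_forall_mem_open]
    rintro y ⟨W, hyW, hW⟩
    exact ⟨W, fun z hz => ⟨W, hz, hW⟩, W.2, hyW⟩
  have huniv : E = Set.univ := by
    by_contra hne
    have hne' : (Eᶜ).Nonempty := Set.nonempty_compl.mpr hne
    have hcl : IsClosed ((p ≫ f) '' Eᶜ) := (p ≫ f).isClosedMap _ hE.isClosed_compl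
    obtain ⟨m, hm, hmc⟩ : ∃ m ∈ (p ≫ f) '' Eᶜ, IsClosed ({m} : Set (PrimeSpectrum A)) := by
      exact hcl.exists_closed_singleton (hne'.image _)
    obtain ⟨y, hy, rfl⟩ := hm
    have hmax : ((p ≫ f) y).asIdeal.IsMaximal :=
      (PrimeSpectrum.isClosed_singleton_iff_isMaximal _).mp hmc
    exact hy (exists_etale_at I f p h y (hI _ hmax))
  have hall : ∀ y : Y, ∃ W : Y.Opens, y ∈ W ∧ Etale (W.ι ≫ p) := fun y => by
    have : y ∈ E := huniv ▸ trivial
    exact this
  choose W hyW hW using hall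
  refine (IsZariskiLocalAtSource.iff_of_iSup_eq_top (P := @Etale) W ?_).mpr hW
  rw [eq_top_iff]
  exact fun y _ => TopologicalSpace.Opens.mem_iSup.mpr ⟨y, hyW y⟩

/-- Over an `I`-adically complete Noetherian ring: a finite morphism to a proper scheme is finite
etale if its base changes to the thickenings `A/Iⁿ` are etale. -/
theorem prop_of_isAdicComplete {A : Type u} [CommRing A] [IsNoetherianRing A] (I : Ideal A)
    [IsAdicComplete I A] {X Y : Scheme.{u}} (f : X ⟶ Spec (CommRingCat.of A)) [IsProper f]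
    (p : Y ⟶ X) [IsFinite p]
    (h : ∀ n : ℕ, 0 < n → Etale (pullback.snd p (pullback.fst f
      (Spec.map (CommRingCat.ofHom (Ideal.Quotient.mk (I ^ n))))))) : FEt.prop p := by
  have hN : IsLocallyNoetherian (Spec (CommRingCat.of A)) := inferInstance
  have hX : IsLocallyNoetherian X := LocallyOfFiniteType.isLocallyNoetherian f
  refine ⟨inferInstance, etale_of_forall_etale I (fun m hm => ?_) f p h⟩
  refine (IsAdicComplete.le_jacobson_bot I).trans ?_
  rw [Ideal.jacobson]
  exact sInf_le ⟨bot_le, hm⟩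

end Groth.Agent.Pi1A.FormalEtale
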