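import Mathlib.RingTheory.Flat.FaithfullyFlat.Basic
import Mathlib.RingTheory.TensorProduct.Basic
import Mathlib.LinearAlgebra.TensorProduct.RightExactness
import Mathlib.RingTheory.Flat.Stability

/-!
# Formal gluing (algebra part)

Let `A` be a ring, `I` an ideal, `S` a flat `A`-algebra such that `S = A + I^k S` for every `k`
(for example the `I`-adic completion of a Noetherian ring), `N` an `A`-module, `B'` an `S`-module and
`φ : B' → S ⊗ N` an `S`-linear map whose kernel and cokernel are `I`-power torsion. Then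
`B = N ×_{S ⊗ N} B'` satisfies `S ⊗ B = B'` and `B → N` has `I`-power torsion kernel and cokernel.
-/

set_option autoImplicit false

open TensorProduct

namespace Groth.Agent.Pi1A.FormalGlue

universe u v

section Module

variable {A : Type*} {S : Type*} [CommRing A] [CommRing S] [Algebra A S] (I : Ideal A)

/-- `S = A + I^k S` for every `k`. -/
def DenseAlg (A : Type*) (S : Type*) [CommRing A] [CommRing S] [Algebra A S] (I : Ideal A) : Prop :=
  ∀ (k : ℕ) (s : S), ∃ a : A, s - algebraMap A S a ∈ (I ^ k).map (algebraMap A S)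

variable {T : Type*} [AddCommGroup T] [Module A T]

/-- If `x ∈ J S` and `J` kills `t` then `x ⊗ t = 0`. -/
lemma tmul_eq_zero_of_mem_map {J : Ideal A} {x : S} (hx : x ∈ J.map (algebraMap A S)) {t : T}
    (ht : ∀ a ∈ J, a • t = 0) : x ⊗ₜ[A] t = 0 := by
  rw [Ideal.map, ← Submodule.mem_toAddSubmonoid] at hx
  refine Submodule.span_induction (p := fun x _ => x ⊗ₜ[A] t = 0) ?_ ?_ ?_ ?_ hx
  · rintro _ ⟨a, ha, rfl⟩
    rw [Algebra.algebraMap_eq_smul_one, smul_tmul, ht a ha, tmul_zero]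
  · exact zero_tmul _ _
  · intro x y _ _ hx hy
    rw [add_tmul, hx, hy, add_zero]
  · intro s x _ hx
    rw [smul_eq_mul]
    have : (s * x) ⊗ₜ[A] t = s • (x ⊗ₜ[A] t) := by rw [smul_tmul', smul_eq_mul]
    rw [this, hx, smul_zero]

variable {I}

/-- Over an `I`-power torsion module every tensor is of the form `1 ⊗ t`. -/
lemma exists_eq_one_tmul (hd : DenseAlg A S I) (hT : ∀ t : T, ∃ k, ∀ a ∈ I ^ k, a • t = 0)
    (z : S ⊗[A] T) : ∃ t : T, z = 1 ⊗ₜ[A] t := by
  induction z with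
  | zero => exact ⟨0, (tmul_zero _ _).symm⟩
  | tmul s t =>
    obtain ⟨k, hk⟩ := hT t
    obtain ⟨a, ha⟩ := hd k s
    refine ⟨a • t, ?_⟩
    have h := tmul_eq_zero_of_mem_map ha hk
    rw [sub_tmul, sub_eq_zero] at h
    rw [h, Algebra.algebraMap_eq_smul_one, smul_tmul]
  | add x y hx hy =>
    obtain ⟨t, rfl⟩ := hx
    obtain ⟨t', rfl⟩ := hy
    exact ⟨t + t', (tmul_add _ _ _).symm⟩

variable {N : Type*} [AddCommGroup N] [Module A N] {B' : Type*} [AddCommGroup B'] [Module A B']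
  [Module S B'] [IsScalarTower A S B'] (φ : B' →ₗ[S] S ⊗[A] N)

/-- The fibre product `N ×_{S ⊗ N} B'` as a submodule of `N × B'`. -/
def fib : Submodule A (N × B') where
  carrier := {p | (1 : S) ⊗ₜ[A] p.1 = φ p.2}
  add_mem' := by
    intro a b ha hb
    simp only [Set.mem_ofPred_eq, Prod.fst_add, Prod.snd_add, tmul_add, map_add] at *
    rw [ha, hb]
  zero_mem' := by simp
  smul_mem' := by
    intro c x hx
    simp only [Set.mem_ofPred_eq, Prod.smul_fst, Prod.smul_snd] at *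
    rw [tmul_smul, hx, ← algebraMap_smul S c x.2, map_smul, algebraMap_smul]

/-- first projection -/
def fibFst : fib φ →ₗ[A] N := (LinearMap.fst A N B') ∘ₗ (fib φ).subtype

/-- second projection -/
def fibSnd : fib φ →ₗ[A] B' := (LinearMap.snd A N B') ∘ₗ (fib φ).subtype

lemma fib_eq (x : fib φ) : (1 : S) ⊗ₜ[A] fibFst φ x = φ (fibSnd φ x) := x.2

/-- The natural map `S ⊗ (N ×_{S ⊗ N} B') → B'`. -/
noncomputable def fibMap : S ⊗[A] fib φ →ₗ[S] B' := (fibSnd φ).liftBaseChange S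

@[simp] lemma fibMap_tmul (s : S) (x : fib φ) : fibMap φ (s ⊗ₜ x) = s • fibSnd φ x := by
  simp [fibMap]

lemma comp_fibMap (z : S ⊗[A] fib φ) : φ (fibMap φ z) = (fibFst φ).lTensor S z := by
  induction z with
  | zero => simp
  | tmul s t =>
    rw [fibMap_tmul, map_smul, ← fib_eq, LinearMap.lTensor_tmul, smul_tmul', smul_eq_mul, mul_one]
  | add x y hx hy => simp [hx, hy]

variable {φ}

/-- cokernel of the first projection is `I`-power torsion -/
lemma exists_pow_smul_mem_range_fibFst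
    (h2 : ∀ n : N, ∃ k, ∀ a ∈ I ^ k, ((1 : S) ⊗ₜ[A] (a • n)) ∈ LinearMap.range φ) (n : N) :
    ∃ k, ∀ a ∈ I ^ k, a • n ∈ LinearMap.range (fibFst φ) := by
  obtain ⟨k, hk⟩ := h2 n
  refine ⟨k, fun a ha => ?_⟩
  obtain ⟨b, hb⟩ := hk a ha
  exact ⟨⟨(a • n, b), hb.symm⟩, rfl⟩

lemma exists_pow_smul_eq_zero (h1 : ∀ b : B', φ b = 0 → ∃ k, ∀ a ∈ I ^ k, a • b = 0)
    (x : fib φ) (hx : fibFst φ x = 0) : ∃ k, ∀ a ∈ I ^ k, a • x = 0 := by
  have h := fib_eq φ x
  rw [hx, tmul_zero] at h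
  obtain ⟨k, hk⟩ := h1 _ h.symm
  refine ⟨k, fun a ha => ?_⟩
  apply Subtype.ext
  refine Prod.ext ?_ ?_
  · change a • fibFst φ x = 0
    rw [hx, smul_zero]
  · exact hk a ha

theorem fibMap_surjective (hd : DenseAlg A S I)
    (h2 : ∀ n : N, ∃ k, ∀ a ∈ I ^ k, ((1 : S) ⊗ₜ[A] (a • n)) ∈ LinearMap.range φ) :
    Function.Surjective (fibMap φ) := by
  intro b
  let q : N →ₗ[A] N ⧸ LinearMap.range (fibFst φ) := Submodule.mkQ _
  have hT : ∀ t : N ⧸ LinearMap.range (fibFst φ), ∃ k, ∀ a ∈ I ^ k, a • t = 0 := by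
    intro t
    obtain ⟨n, rfl⟩ := Submodule.mkQ_surjective _ t
    obtain ⟨k, hk⟩ := exists_pow_smul_mem_range_fibFst h2 n
    refine ⟨k, fun a ha => ?_⟩
    rw [← map_smul]
    exact (Submodule.Quotient.mk_eq_zero _).2 (hk a ha)
  obtain ⟨t, ht⟩ := exists_eq_one_tmul hd hT (q.lTensor S (φ b))
  obtain ⟨n, rfl⟩ := Submodule.mkQ_surjective _ t
  have hex : Function.Exact ((fibFst φ).lTensor S) (q.lTensor S) :=
    lTensor_exact S (LinearMap.exact_map_mkQ_range _) (Submodule.mkQ_surjective _)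
  obtain ⟨z, hz⟩ := (hex (φ b - 1 ⊗ₜ n)).1 (by rw [map_sub, ht]; simp [q])
  rw [← comp_fibMap] at hz
  have hb : (n, b - fibMap φ z) ∈ fib φ := by
    change (1 : S) ⊗ₜ[A] n = φ (b - fibMap φ z)
    rw [map_sub, hz]
    abel
  refine ⟨z + 1 ⊗ₜ ⟨_, hb⟩, ?_⟩
  rw [map_add, fibMap_tmul, one_smul]
  change fibMap φ z + (b - fibMap φ z) = b
  abel

theorem fibMap_injective [Module.Flat A S] (hd : DenseAlg A S I)
    (h1 : ∀ b : B', φ b = 0 → ∃ k, ∀ a ∈ I ^ k, a • b = 0) :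
    Function.Injective (fibMap φ) := by
  rw [injective_iff_map_eq_zero]
  intro z hz
  have h0 : (fibFst φ).lTensor S z = 0 := by rw [← comp_fibMap, hz, map_zero]
  let K := LinearMap.ker (fibFst φ)
  have hex : Function.Exact (K.subtype.lTensor S) ((fibFst φ).lTensor S) :=
    Module.Flat.lTensor_exact S (LinearMap.exact_subtype_ker_map _)
  obtain ⟨w, rfl⟩ := (hex z).1 h0
  have hT : ∀ t : K, ∃ k, ∀ a ∈ I ^ k, a • t = 0 := by
    intro t
    obtain ⟨k, hk⟩ := exists_pow_smul_eq_zero h1 t.1 t.2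
    exact ⟨k, fun a ha => Subtype.ext (hk a ha)⟩
  obtain ⟨t, rfl⟩ := exists_eq_one_tmul (T := K) hd hT w
  rw [LinearMap.lTensor_tmul, fibMap_tmul, one_smul] at hz
  have : K.subtype t = 0 := by
    apply Subtype.ext
    exact Prod.ext t.2 hz
  rw [LinearMap.lTensor_tmul, this, tmul_zero]

theorem fibMap_bijective [Module.Flat A S] (hd : DenseAlg A S I)
    (h1 : ∀ b : B', φ b = 0 → ∃ k, ∀ a ∈ I ^ k, a • b = 0)
    (h2 : ∀ n : N, ∃ k, ∀ a ∈ I ^ k, ((1 : S) ⊗ₜ[A] (a • n)) ∈ LinearMap.range φ) :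
    Function.Bijective (fibMap φ) :=
  ⟨fibMap_injective hd h1, fibMap_surjective hd h2⟩

end Module

end Groth.Agent.Pi1A.FormalGlue
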