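import Mathlib.RingTheory.Localization.Away.Basic
import Mathlib.RingTheory.Noetherian.Basic
import Mathlib.RingTheory.Ideal.Operations
import Mathlib.RingTheory.Finiteness.Ideal

/-!
# Ring maps which become bijective after inverting one element

`IsoAway p f` for `p : B →+* N`, `f : B`: the kernel and the cokernel of `p` are `f`-power torsion.
-/

set_option autoImplicit false
set_option linter.dupNamespace false

namespace Groth.Agent.Pi1A.IsoAway

variable {B N L : Type*} [CommRing B] [CommRing N] [CommRing L]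

/-- The kernel and cokernel of `p` are `f`-power torsion, i.e. `p` becomes bijective after
inverting `f`. -/
def IsoAway (p : B →+* N) (f : B) : Prop :=
  (∀ b, p b = 0 → ∃ k : ℕ, f ^ k * b = 0) ∧ (∀ n, ∃ (k : ℕ) (b : B), p f ^ k * n = p b)

/-- If `N → L` is localization at `p f` and `B → L` is localization at `f`, then `IsoAway p f`. -/
lemma isoAway_of_isLocalization [Algebra B L] [Algebra N L] (p : B →+* N) (f : B)
    (hp : (algebraMap N L).comp p = algebraMap B L)
    [IsLocalization.Away f L] [IsLocalization.Away (p f) L] : IsoAway p f := by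
  have hp' : ∀ b, algebraMap N L (p b) = algebraMap B L b := fun b => by rw [← hp]; rfl
  constructor
  · intro b hb
    have h0 : algebraMap B L b = algebraMap B L 0 := by rw [← hp', hb, map_zero, map_zero]
    obtain ⟨⟨_, k, rfl⟩, hk⟩ := (IsLocalization.eq_iff_exists (Submonoid.powers f) L).1 h0
    exact ⟨k, by simpa using hk⟩
  · intro n
    obtain ⟨⟨b, ⟨_, k, rfl⟩⟩, hb⟩ := IsLocalization.surj (Submonoid.powers f) (algebraMap N L n)
    simp only at hb
    have h0 : algebraMap N L (p f ^ k * n) = algebraMap N L (p b) := by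
      rw [map_mul, map_pow, hp', hp', ← hb, map_pow, mul_comm]
    obtain ⟨⟨_, j, rfl⟩, hj⟩ := (IsLocalization.eq_iff_exists (Submonoid.powers (p f)) L).1 h0
    simp only at hj
    refine ⟨j + k, f ^ j * b, ?_⟩
    rw [pow_add, mul_assoc, hj, map_mul, map_pow]

/-- If `IsoAway p f` and `N → L` is localization at `p f` then the composite `B → L` is
localization at `f`. -/
lemma isLocalization_of_isoAway [Algebra B L] [Algebra N L] (p : B →+* N) (f : B)
    (hp : (algebraMap N L).comp p = algebraMap B L) (h : IsoAway p f)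
    [IsLocalization.Away (p f) L] : IsLocalization.Away f L := by
  have hp' : ∀ b, algebraMap N L (p b) = algebraMap B L b := fun b => by rw [← hp]; rfl
  rw [IsLocalization.Away, isLocalization_iff]
  refine ⟨?_, ?_, ?_⟩
  · rintro ⟨_, k, rfl⟩
    simp only [map_pow]
    rw [← hp']
    exact (IsLocalization.Away.algebraMap_isUnit (p f)).pow k
  · intro z
    obtain ⟨⟨n, ⟨_, k, rfl⟩⟩, hn⟩ := IsLocalization.surj (Submonoid.powers (p f)) z
    obtain ⟨j, b, hb⟩ := h.2 n
    refine ⟨⟨b, ⟨_, j + k, rfl⟩⟩, ?_⟩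
    simp only at hn ⊢
    rw [← hp' b, ← hb, map_mul, ← hn, ← hp', map_pow, pow_add, map_mul, map_pow, map_pow]
    ring
  · intro x y hxy
    have h0 : algebraMap N L (p (x - y)) = algebraMap N L 0 := by
      rw [hp', map_sub, hxy, sub_self, map_zero]
    obtain ⟨⟨_, k, rfl⟩, hk⟩ := (IsLocalization.eq_iff_exists (Submonoid.powers (p f)) L).1 h0
    simp only [mul_zero] at hk
    rw [← map_pow, ← map_mul] at hk
    obtain ⟨j, hj⟩ := h.1 _ hk
    refine ⟨⟨_, j + k, rfl⟩, ?_⟩
    simp only
    rw [← sub_eq_zero, ← mul_sub, pow_add, mul_assoc, hj]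

/-- A ring map between two localizations of `B` compatible with the structure maps is bijective. -/
lemma bijective_of_isLocalization {L₁ L₂ : Type*} [CommRing L₁] [CommRing L₂] [Algebra B L₁]
    [Algebra B L₂] (M : Submonoid B) [IsLocalization M L₁] [IsLocalization M L₂] (g : L₁ →+* L₂)
    (hg : g.comp (algebraMap B L₁) = algebraMap B L₂) : Function.Bijective g := by
  have : g = (IsLocalization.algEquiv M L₁ L₂ : L₁ ≃ₐ[B] L₂).toRingEquiv.toRingHom := by
    apply IsLocalization.ringHom_ext M
    rw [hg]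
    ext x
    simp
  rw [this]
  exact (IsLocalization.algEquiv M L₁ L₂ : L₁ ≃ₐ[B] L₂).bijective

lemma IsoAway.injective_comp {C : Type*} [CommRing C] {p : B →+* N} {f : B} (h : IsoAway p f)
    (e : N →+* C) (he : Function.Bijective e) : IsoAway (e.comp p) f := by
  constructor
  · intro b hb
    exact h.1 b (he.1 (by simpa using hb))
  · intro n
    obtain ⟨m, rfl⟩ := he.2 n
    obtain ⟨k, b, hb⟩ := h.2 m
    exact ⟨k, b, by simp only [RingHom.comp_apply]; rw [← hb]; simp⟩

lemma IsoAway.comp_bijective {C : Type*} [CommRing C] {p : B →+* N} {e : C →+* B} {f : C}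
    (h : IsoAway p (e f)) (he : Function.Bijective e) : IsoAway (p.comp e) f := by
  constructor
  · intro b hb
    obtain ⟨k, hk⟩ := h.1 (e b) (by simpa using hb)
    exact ⟨k, he.1 (by simpa using hk)⟩
  · intro n
    obtain ⟨k, b, hb⟩ := h.2 n
    obtain ⟨c, rfl⟩ := he.2 b
    exact ⟨k, c, by simpa using hb⟩

/-- From elementwise power torsion for all `f ∈ I` to `I^k`-torsion, `I` finitely generated. -/
lemma exists_pow_le {A M : Type*} [CommRing A] [AddCommGroup M] [Module A M] {I : Ideal A}
    (hI : I.FG) (R : Submodule A M) (m : M) (h : ∀ f ∈ I, ∃ k : ℕ, f ^ k • m ∈ R) :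
    ∃ k : ℕ, ∀ a ∈ I ^ k, a • m ∈ R := by
  let J : Ideal A := R.comap (LinearMap.toSpanSingleton A M m)
  have hJ : ∀ a, a ∈ J ↔ a • m ∈ R := fun a => Iff.rfl
  obtain ⟨k, hk⟩ := Ideal.exists_pow_le_of_le_radical_of_fg (I := I) (J := J)
    (fun f hf => by
      obtain ⟨k, hk⟩ := h f hf
      exact ⟨k, (hJ _).2 hk⟩) hI
  exact ⟨k, fun a ha => (hJ a).1 (hk ha)⟩

end Groth.Agent.Pi1A.IsoAway
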