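import Groth.Agent.Pi1A.FormalGlue
import Groth.Agent.Pi1A.IsoAway
import Mathlib.RingTheory.Etale.Descent
import Mathlib.RingTheory.Finiteness.Descent
import Mathlib.RingTheory.IsTensorProduct
import Mathlib.RingTheory.RingHom.FaithfullyFlat

/-!
# Formal gluing of finite étale algebras
-/

set_option autoImplicit false

open TensorProduct

namespace Groth.Agent.Pi1A.FormalGlueAlg

open FormalGlue IsoAway

variable {A S : Type*} [CommRing A] [CommRing S] [Algebra A S] (I : Ideal A)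
variable {N : Type*} [CommRing N] [Algebra A N] {B' : Type*} [CommRing B'] [Algebra A B']
  [Algebra S B'] [IsScalarTower A S B'] (φ : B' →ₐ[S] S ⊗[A] N)

/-- The fibre product `N ×_{S ⊗ N} B'` as a subalgebra of `N × B'`. -/
def fibAlg : Subalgebra A (N × B') :=
  AlgHom.equalizer ((Algebra.TensorProduct.includeRight : N →ₐ[A] S ⊗[A] N).comp (AlgHom.fst A N B'))
    ((φ.restrictScalars A).comp (AlgHom.snd A N B'))

lemma mem_fibAlg (x : N × B') : x ∈ fibAlg φ ↔ (1 : S) ⊗ₜ[A] x.1 = φ x.2 := Iff.rfl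

/-- comparison of the two versions of the fibre product -/
def fibEquiv : fibAlg φ ≃ₗ[A] fib (φ.toLinearMap) where
  toFun x := ⟨x.1, x.2⟩
  invFun x := ⟨x.1, x.2⟩
  map_add' _ _ := rfl
  map_smul' _ _ := rfl
  left_inv _ := rfl
  right_inv _ := rfl

/-- first projection -/
def fstAlg : fibAlg φ →ₐ[A] N := (AlgHom.fst A N B').comp (fibAlg φ).val

/-- second projection -/
def sndAlg : fibAlg φ →ₐ[A] B' := (AlgHom.snd A N B').comp (fibAlg φ).val

/-- `S ⊗ (N ×_{S ⊗ N} B') → B'` -/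
noncomputable def mapAlg : S ⊗[A] fibAlg φ →ₐ[S] B' :=
  Algebra.TensorProduct.lift (Algebra.ofId S B') (sndAlg φ) (fun _ _ => .all _ _)

lemma mapAlg_eq (z : S ⊗[A] fibAlg φ) :
    mapAlg φ z = fibMap φ.toLinearMap ((fibEquiv φ).toLinearMap.lTensor S z) := by
  induction z with
  | zero => simp
  | tmul s t =>
    simp only [mapAlg, Algebra.TensorProduct.lift_tmul, LinearMap.lTensor_tmul, fibMap_tmul,
      Algebra.ofId_apply]
    rw [Algebra.smul_def]
    rfl
  | add x y hx hy => simp [hx, hy]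

variable {φ I}

theorem mapAlg_bijective [Module.Flat A S] (hd : DenseAlg A S I)
    (h1 : ∀ b : B', φ b = 0 → ∃ k, ∀ a ∈ I ^ k, a • b = 0)
    (h2 : ∀ n : N, ∃ k, ∀ a ∈ I ^ k, ((1 : S) ⊗ₜ[A] (a • n)) ∈ LinearMap.range φ.toLinearMap) :
    Function.Bijective (mapAlg φ) := by
  have h : (mapAlg φ : S ⊗[A] fibAlg φ → B') =
      (fibMap φ.toLinearMap) ∘ ((fibEquiv φ).toLinearMap.lTensor S) := by
    ext z
    exact mapAlg_eq φ z
  rw [h]
  exact (fibMap_bijective hd h1 h2).comp (LinearEquiv.lTensor S (fibEquiv φ)).bijective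

theorem exists_algebra_aux [Module.FaithfullyFlat A S] (hI : I.FG) (hd : DenseAlg A S I)
    [Module.Finite S B'] [Algebra.Etale S B']
    (h : ∀ f ∈ I, IsoAway φ.toRingHom (algebraMap A B' f)) :
    Algebra.Etale A (fibAlg φ) ∧ Module.Finite A (fibAlg φ) ∧
      ∀ f ∈ I, IsoAway (fstAlg φ).toRingHom (algebraMap A (fibAlg φ) f) := by
  have h1 : ∀ b : B', φ b = 0 → ∃ k, ∀ a ∈ I ^ k, a • b = 0 := by
    intro b hb
    have := exists_pow_le hI (⊥ : Submodule A B') b (fun f hf => by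
      obtain ⟨k, hk⟩ := (h f hf).1 b hb
      refine ⟨k, ?_⟩
      rw [Submodule.mem_bot, Algebra.smul_def, map_pow]
      exact hk)
    simpa using this
  have h2 : ∀ n : N, ∃ k, ∀ a ∈ I ^ k,
      ((1 : S) ⊗ₜ[A] (a • n)) ∈ LinearMap.range φ.toLinearMap := by
    intro n
    have := exists_pow_le hI ((LinearMap.range φ.toLinearMap).restrictScalars A)
      ((1 : S) ⊗ₜ[A] n) (fun f hf => by
        obtain ⟨k, b, hb⟩ := (h f hf).2 (1 ⊗ₜ n)
        refine ⟨k, b, ?_⟩
        have h3 : φ (algebraMap A B' f) = algebraMap A (S ⊗[A] N) f :=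
          (φ.restrictScalars A).commutes f
        change φ (algebraMap A B' f) ^ k * _ = φ b at hb
        rw [Algebra.smul_def, map_pow, ← h3, hb]
        rfl)
    obtain ⟨k, hk⟩ := this
    refine ⟨k, fun a ha => ?_⟩
    have := hk a ha
    rwa [← tmul_smul] at this
  have hbij := mapAlg_bijective hd h1 h2
  let e : B' ≃ₐ[S] S ⊗[A] fibAlg φ := (AlgEquiv.ofBijective (mapAlg φ) hbij).symm
  have hfin : Module.Finite S (S ⊗[A] fibAlg φ) := Module.Finite.equiv e.toLinearEquiv
  have het : Algebra.Etale S (S ⊗[A] fibAlg φ) := Algebra.Etale.of_equiv e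
  refine ⟨.of_etale_tensorProduct_of_faithfullyFlat S,
    .of_finite_tensorProduct_of_faithfullyFlat S, fun f hf => ⟨fun b hb => ?_, fun n => ?_⟩⟩
  · obtain ⟨⟨n, b⟩, hnb⟩ := b
    obtain rfl : n = 0 := hb
    have hb0 : φ b = 0 := by
      rw [mem_fibAlg] at hnb
      simpa using hnb.symm
    obtain ⟨k, hk⟩ := h1 b hb0
    refine ⟨k, ?_⟩
    rw [← map_pow, ← Algebra.smul_def]
    apply Subtype.ext
    refine Prod.ext ?_ ?_
    · exact smul_zero _
    · exact hk _ (Ideal.pow_mem_pow hf k)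
  · obtain ⟨k, hk⟩ := h2 n
    obtain ⟨b, hb⟩ := hk _ (Ideal.pow_mem_pow hf k)
    refine ⟨k, ⟨(f ^ k • n, b), hb.symm⟩, ?_⟩
    change fstAlg φ (algebraMap A (fibAlg φ) f) ^ k * n = f ^ k • n
    rw [(fstAlg φ).commutes, Algebra.smul_def, map_pow]

/-- Formal gluing for finite étale algebras: `A → S` faithfully flat with `S = A + I^k S`,
`N' = S ⊗ N`, `φ : B' → N'` becomes bijective after inverting any `f ∈ I`. Then there is a finite
étale `A`-algebra `B` with a map `p : B → N` which becomes bijective after inverting any `f ∈ I`. -/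
theorem exists_algebra {A S N B' N' : Type*} [CommRing A] [CommRing S] [CommRing N] [CommRing B']
    [CommRing N'] [Algebra A S] [Algebra A N] [Algebra S B'] [Algebra A B'] [IsScalarTower A S B']
    [Algebra A N'] [Algebra S N'] [Algebra N N'] [IsScalarTower A S N'] [IsScalarTower A N N']
    [Algebra.IsPushout A S N N'] [Module.FaithfullyFlat A S] [Module.Finite S B']
    [Algebra.Etale S B'] {I : Ideal A} (hI : I.FG) (hd : DenseAlg A S I) (φ : B' →ₐ[S] N')
    (h : ∀ f ∈ I, IsoAway φ.toRingHom (algebraMap A B' f)) :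
    ∃ (B : Subalgebra A (N × B')) (p : B →ₐ[A] N), Algebra.Etale A B ∧ Module.Finite A B ∧
      ∀ f ∈ I, IsoAway p.toRingHom (algebraMap A B f) := by
  let e : N' ≃ₐ[S] S ⊗[A] N := (Algebra.IsPushout.equiv A S N N').symm
  let φ' : B' →ₐ[S] S ⊗[A] N := e.toAlgHom.comp φ
  refine ⟨fibAlg φ', fstAlg φ', exists_algebra_aux hI hd fun f hf => ?_⟩
  exact (h f hf).injective_comp e.toRingEquiv.toRingHom e.bijective

end Groth.Agent.Pi1A.FormalGlueAlg
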