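import Groth.Agent.FlatA.CompactifBasic

/-!
# Compatible compactifications of a morphism of affine schemes
-/

set_option autoImplicit false
universe u

open CategoryTheory CategoryTheory.Limits AlgebraicGeometry

namespace Groth.Agent.Pi1A.GeoProj

open Groth.Agent.FlatA.CompactifBasic

/-- Compatible compactifications over `S` of a morphism `g : V ⟶ Y` of affine schemes of finite
type over a quasi-separated base `S`: the map on compactifications is proper. -/
theorem exists_compactification {V Y S : Scheme.{u}} (g : V ⟶ Y) (h : Y ⟶ S) [IsAffine V]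
    [IsAffine Y] [LocallyOfFiniteType (g ≫ h)] [LocallyOfFiniteType h] [QuasiSeparatedSpace S] :
    ∃ (Yb P : Scheme.{u}) (jY : Y ⟶ Yb) (jV : V ⟶ P) (q : P ⟶ Yb) (p : Yb ⟶ S),
      IsOpenImmersion jY ∧ QuasiCompact jY ∧ IsOpenImmersion jV ∧ QuasiCompact jV ∧
      IsProper q ∧ IsProper p ∧ jV ≫ q = g ≫ jY ∧ jY ≫ p = h := by
  obtain ⟨Yb, jY, p, hj, hj', hp, hjp⟩ := HasCompactification.of_isAffine h
  have : LocallyOfFiniteType (g ≫ jY) := by
    have h1 : (g ≫ jY) ≫ p = g ≫ h := by rw [Category.assoc, hjp]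
    have : LocallyOfFiniteType ((g ≫ jY) ≫ p) := by rw [h1]; infer_instance
    exact locallyOfFiniteType_of_comp (g ≫ jY) p
  have : QuasiSeparatedSpace Yb := quasiSeparatedSpace_of_quasiSeparated p
  obtain ⟨P, jV, q, hj2, hj2', hq, hjq⟩ := HasCompactification.of_isAffine (g ≫ jY)
  exact ⟨Yb, P, jY, jV, q, p, hj, hj', hj2, hj2', hq, hp, hjq, hjp⟩

end Groth.Agent.Pi1A.GeoProj
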