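import Mathlib.RingTheory.Regular.RegularSequence
import Mathlib.RingTheory.Ideal.AssociatedPrime.Finiteness
import Mathlib.LinearAlgebra.Matrix.Adjugate
import Mathlib.LinearAlgebra.Matrix.Block

/-!
# The linkage lemma

`R` a Noetherian local ring, `f = M h` with `f` and `h` regular sequences in the maximal ideal:
`((f) : (h)) ⊆ (f) + (det M)` (Wiebe).  Everything is proved relative to an ideal `J`.
-/

set_option autoImplicit false

universe u

open RingTheory.Sequence Ideal

namespace Groth.Agent.Pi1A.Linkage703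

variable {R : Type u} [CommRing R]

/-- Coset form of prime avoidance. -/
theorem exists_add_notMem (s : Finset (Ideal R)) (hs : ∀ p ∈ s, p.IsPrime) (x : R) (J : Ideal R)
    (h : ∀ p ∈ s, x ∈ p → ¬ J ≤ p) : ∃ y ∈ J, ∀ p ∈ s, x + y ∉ p := by
  classical
  induction s using Finset.strongInduction with
  | H s ih =>
    rcases s.eq_empty_or_nonempty with rfl | hne
    · exact ⟨0, J.zero_mem, by simp⟩
    · obtain ⟨p, hp⟩ := s.exists_minimal hne
      have hps : p ∈ s := hp.prop
      obtain ⟨y, hy, hy'⟩ := ih (s.erase p) (Finset.erase_ssubset hps)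
        (fun q hq => hs q (Finset.mem_of_mem_erase hq))
        (fun q hq => h q (Finset.mem_of_mem_erase hq))
      by_cases hxy : x + y ∈ p
      · have hJp : ¬ J ≤ p := by
          intro hJ
          exact h p hps (by simpa using p.sub_mem hxy (hJ hy)) hJ
        have hinf : ¬ (J ⊓ (s.erase p).inf id) ≤ p := by
          intro hle
          rcases (hs p hps).inf_le.1 hle with h1 | h1
          · exact hJp h1
          · obtain ⟨q, hq, hqp⟩ := ((hs p hps).inf_le' (s := s.erase p) (f := id)).1 h1
            have hq' := Finset.mem_erase.1 hq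
            exact hq'.1 (le_antisymm hqp (hp.2 hq'.2 hqp))
        obtain ⟨z, hz, hzp⟩ := SetLike.not_le_iff_exists.1 hinf
        refine ⟨y + z, J.add_mem hy hz.1, fun q hq => ?_⟩
        by_cases hqp : q = p
        · subst hqp
          intro hm
          apply hzp
          have := q.sub_mem hm hxy
          convert this using 1
          ring
        · intro hm
          have hq' : q ∈ s.erase p := Finset.mem_erase.2 ⟨hqp, hq⟩
          have hzq : z ∈ q := by
            have := hz.2
            rw [SetLike.mem_coe, Submodule.mem_finsetInf] at this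
            exact this q hq'
          apply hy' q hq'
          have := q.sub_mem hm hzq
          convert this using 1
          ring
      · refine ⟨y, hy, fun q hq => ?_⟩
        by_cases hqp : q = p
        · subst hqp; exact hxy
        · exact hy' q (Finset.mem_erase.2 ⟨hqp, hq⟩)

/-- `r` is a non-zero-divisor modulo `J`. -/
def NZ (J : Ideal R) (r : R) : Prop := ∀ x, r * x ∈ J → x ∈ J

/-- `L` is weakly regular modulo `J`, in ideal form. -/
def WReg (J : Ideal R) : List R → Prop
  | [] => True
  | r :: L => NZ J r ∧ WReg (J ⊔ span {r}) L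

theorem isSMulRegular_quotient_iff (J : Ideal R) (r : R) :
    IsSMulRegular (R ⧸ J) r ↔ NZ J r := by
  constructor
  · intro h x hx
    have : r • (Ideal.Quotient.mk J x) = r • (0 : R ⧸ J) := by
      rw [smul_zero, ← Ideal.Quotient.mk_eq_mk, ← Submodule.Quotient.mk_smul, smul_eq_mul]
      exact (Submodule.Quotient.mk_eq_zero J).2 hx
    exact Ideal.Quotient.eq_zero_iff_mem.1 (h this)
  · intro h a b hab
    obtain ⟨a, rfl⟩ := Ideal.Quotient.mk_surjective a
    obtain ⟨b, rfl⟩ := Ideal.Quotient.mk_surjective b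
    have hab' : Ideal.Quotient.mk J (r * a) = Ideal.Quotient.mk J (r * b) := by
      simpa [Algebra.smul_def] using hab
    rw [Ideal.Quotient.eq, ← mul_sub] at hab'
    rw [Ideal.Quotient.eq]
    exact h _ hab'

/-- `(R ⧸ J) ⧸ (r)(R ⧸ J) ≃ R ⧸ (J ⊔ (r))`. -/
noncomputable def quotEquiv (J : Ideal R) (r : R) :
    QuotSMulTop r (R ⧸ J) ≃ₗ[R] (R ⧸ (J ⊔ span {r})) := by
  refine (Submodule.quotEquivOfEq _ _ ?_).trans
    (Submodule.quotientQuotientEquivQuotientSup J (span {r}))
  apply le_antisymm
  · intro y hy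
    obtain ⟨y', -, rfl⟩ := (Submodule.mem_smul_pointwise_iff_exists _ _ _).1 hy
    obtain ⟨z, rfl⟩ := Submodule.Quotient.mk_surjective _ y'
    refine ⟨r * z, ?_, rfl⟩
    exact Ideal.mul_mem_right _ _ (Ideal.mem_span_singleton_self r)
  · rintro _ ⟨y, hy, rfl⟩
    obtain ⟨z, rfl⟩ := Ideal.mem_span_singleton.1 hy
    exact (Submodule.mem_smul_pointwise_iff_exists _ _ _).2 ⟨Submodule.Quotient.mk z, trivial, rfl⟩

theorem isWeaklyRegular_iff (J : Ideal R) (L : List R) :
    IsWeaklyRegular (R ⧸ J) L ↔ WReg J L := by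
  induction L generalizing J with
  | nil => simp [WReg]
  | cons r L ih =>
    rw [isWeaklyRegular_cons_iff, (quotEquiv J r).isWeaklyRegular_congr, ih,
      isSMulRegular_quotient_iff, WReg]

theorem wreg_bot_iff (L : List R) : IsWeaklyRegular R L ↔ WReg (⊥ : Ideal R) L := by
  rw [← isWeaklyRegular_iff, (Submodule.quotEquivOfEqBot (⊥ : Submodule R R) rfl).isWeaklyRegular_congr]

theorem WReg.append_iff (J : Ideal R) (L L' : List R) :
    WReg J (L ++ L') ↔ WReg J L ∧ WReg (J ⊔ Ideal.ofList L) L' := by
  induction L generalizing J with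
  | nil => simp [WReg]
  | cons r L ih =>
    rw [List.cons_append, WReg, WReg, ih, Ideal.ofList_cons, sup_assoc, and_assoc]

theorem WReg.perm [IsLocalRing R] [IsNoetherianRing R] {J : Ideal R} {L L' : List R}
    (h : WReg J L) (hp : L.Perm L') (hm : ∀ r ∈ L, r ∈ IsLocalRing.maximalIdeal R) :
    WReg J L' := by
  rw [← isWeaklyRegular_iff] at h ⊢
  exact IsLocalRing.isWeaklyRegular_of_perm_of_subset_maximalIdeal h hp hm

theorem ofList_ofFn {n : ℕ} (f : Fin n → R) : Ideal.ofList (List.ofFn f) = span (Set.range f) := by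
  rw [Ideal.ofList]
  congr 1
  ext x
  simp [List.mem_ofFn]

/-- If `r` is a non-zero-divisor modulo `J` and `r ∈ J ⊔ (x) ⊔ K`, then some `x + y`, `y ∈ K`, is a
non-zero-divisor modulo `J`. -/
theorem exists_NZ [IsNoetherianRing R] (J K : Ideal R) (r x : R) (hr : NZ J r)
    (hx : r ∈ J ⊔ span {x} ⊔ K) : ∃ y ∈ K, NZ J (x + y) := by
  classical
  have hfin : (associatedPrimes R (R ⧸ J)).Finite := associatedPrimes.finite R (R ⧸ J)
  obtain ⟨y, hy, hy'⟩ := exists_add_notMem hfin.toFinset
    (fun p hp => ((hfin.mem_toFinset).1 hp).isPrime) x K (by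
      intro p hp hxp hKp
      have hp' : IsAssociatedPrime p (R ⧸ J) := (hfin.mem_toFinset).1 hp
      have hJp : J ≤ p := by
        have := IsAssociatedPrime.annihilator_le hp'
        rwa [Submodule.annihilator_top, Ideal.annihilator_quotient] at this
      have hrp : r ∈ p := by
        have : J ⊔ span {x} ⊔ K ≤ p :=
          sup_le (sup_le hJp ((Ideal.span_singleton_le_iff_mem _).2 hxp)) hKp
        exact this hx
      have hreg := (isSMulRegular_quotient_iff J r).2 hr
      have hmem : r ∈ ⋃ p ∈ associatedPrimes R (R ⧸ J), (p : Set R) :=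
        Set.mem_biUnion (show p ∈ associatedPrimes R (R ⧸ J) from hp') hrp
      rw [biUnion_associatedPrimes_eq_compl_regular] at hmem
      exact hmem hreg)
  refine ⟨y, hy, ?_⟩
  rw [← isSMulRegular_quotient_iff]
  by_contra hcon
  have : x + y ∈ ⋃ p ∈ associatedPrimes R (R ⧸ J), (p : Set R) := by
    rw [biUnion_associatedPrimes_eq_compl_regular]
    exact hcon
  obtain ⟨p, hp, hxp⟩ := Set.mem_iUnion₂.1 this
  exact hy' p ((hfin.mem_toFinset).2 hp) hxp

/-- **Linkage lemma**, relative to an ideal `J`. -/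
theorem colon_le_aux [IsLocalRing R] [IsNoetherianRing R] (n : ℕ) :
    ∀ (J : Ideal R) (f h : Fin n → R) (M : Matrix (Fin n) (Fin n) R)
      (_ : WReg J (List.ofFn f)) (_ : WReg J (List.ofFn h))
      (_ : ∀ i, f i ∈ IsLocalRing.maximalIdeal R) (_ : ∀ i, h i ∈ IsLocalRing.maximalIdeal R)
      (_ : ∀ i, f i - ∑ j, M i j * h j ∈ J) (x : R)
      (_ : ∀ j, x * h j ∈ J ⊔ span (Set.range f)),
      x ∈ J ⊔ span (Set.range f) ⊔ span {M.det} := by
  induction n with
  | zero =>
    intro J f h M _ _ _ _ _ x _
    have : span {M.det} = (⊤ : Ideal R) := by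
      rw [Matrix.det_isEmpty]; exact Ideal.span_singleton_one
    rw [this]
    exact Submodule.mem_sup_right Submodule.mem_top
  | succ n ih =>
    intro J f h M hf hh hfm hhm hM x hx
    set f' : Fin n → R := fun i => f i.succ with hf'
    set h' : Fin n → R := fun i => h i.succ with hh'
    set J' : Ideal R := J ⊔ span (Set.range f') with hJ'
    -- permuted sequences
    have hfl : List.ofFn f = f 0 :: List.ofFn f' := by rw [List.ofFn_succ]
    have hhl : List.ofFn h = h 0 :: List.ofFn h' := by rw [List.ofFn_succ]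
    have hmemf : ∀ r ∈ List.ofFn f, r ∈ IsLocalRing.maximalIdeal R := by
      intro r hr; obtain ⟨i, rfl⟩ := (List.mem_ofFn ..).1 hr; exact hfm i
    have hmemh : ∀ r ∈ List.ofFn h, r ∈ IsLocalRing.maximalIdeal R := by
      intro r hr; obtain ⟨i, rfl⟩ := (List.mem_ofFn ..).1 hr; exact hhm i
    have hf2 : WReg J (List.ofFn f' ++ [f 0]) := by
      refine hf.perm ?_ hmemf
      rw [hfl]; exact (List.perm_append_singleton _ _).symm
    have hh2 : WReg J (List.ofFn h' ++ [h 0]) := by
      refine hh.perm ?_ hmemh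
      rw [hhl]; exact (List.perm_append_singleton _ _).symm
    rw [WReg.append_iff, ofList_ofFn] at hf2 hh2
    obtain ⟨hf'r, hf0, -⟩ := hf2
    obtain ⟨hh'r, hh0, -⟩ := hh2
    -- choose `c`
    have hf0mem : f 0 ∈ J' ⊔ span {h 0} ⊔ span (Set.range h') := by
      have h1 := hM 0
      rw [Fin.sum_univ_succ] at h1
      have h2 : f 0 = (f 0 - (M 0 0 * h 0 + ∑ i, M 0 (Fin.succ i) * h (Fin.succ i))) +
          M 0 0 * h 0 + ∑ i, M 0 (Fin.succ i) * h (Fin.succ i) := by ring
      rw [h2]
      refine Ideal.add_mem _ (Ideal.add_mem _ ?_ ?_) ?_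
      · exact Submodule.mem_sup_left (Submodule.mem_sup_left (Submodule.mem_sup_left h1))
      · exact Submodule.mem_sup_left (Submodule.mem_sup_right
          (Ideal.mul_mem_left _ _ (Ideal.mem_span_singleton_self _)))
      · refine Submodule.mem_sup_right (Ideal.sum_mem _ fun i _ => Ideal.mul_mem_left _ _ ?_)
        exact Ideal.subset_span ⟨i, rfl⟩
    obtain ⟨c, hc, hreg⟩ := exists_NZ J' (span (Set.range h')) (f 0) (h 0) hf0 hf0mem
    obtain ⟨cc, hcc⟩ := (Submodule.mem_span_range_iff_exists_fun R).1 hc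
    set h0 : R := h 0 + c with hh0def
    have hcm : c ∈ IsLocalRing.maximalIdeal R := by
      refine (Ideal.span_le.2 ?_ : span (Set.range h') ≤ IsLocalRing.maximalIdeal R) hc
      rintro _ ⟨i, rfl⟩; exact hhm i.succ
    have hh0m : h0 ∈ IsLocalRing.maximalIdeal R := Ideal.add_mem _ (hhm 0) hcm
    -- regularity modulo `J1`
    set J1 : Ideal R := J ⊔ span {h0} with hJ1
    have hf1 : WReg J1 (List.ofFn f') := by
      have h1 : WReg J (List.ofFn f' ++ [h0]) := by
        rw [WReg.append_iff, ofList_ofFn]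
        exact ⟨hf'r, hreg, trivial⟩
      have h2 : WReg J (h0 :: List.ofFn f') := by
        refine h1.perm (List.perm_append_singleton _ _) ?_
        intro r hr
        rcases List.mem_append.1 hr with hr | hr
        · obtain ⟨i, rfl⟩ := (List.mem_ofFn ..).1 hr; exact hfm i.succ
        · rw [List.mem_singleton.1 hr]; exact hh0m
      exact h2.2
    have hh1 : WReg J1 (List.ofFn h') := by
      have h1 : WReg J (List.ofFn h' ++ [h0]) := by
        rw [WReg.append_iff, ofList_ofFn]
        refine ⟨hh'r, ?_, trivial⟩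
        intro z hz
        apply hh0
        have : h 0 * z = h0 * z - z * c := by rw [hh0def]; ring
        rw [this]
        exact Ideal.sub_mem _ hz (Submodule.mem_sup_right (Ideal.mul_mem_left _ _ hc))
      have h2 : WReg J (h0 :: List.ofFn h') := by
        refine h1.perm (List.perm_append_singleton _ _) ?_
        intro r hr
        rcases List.mem_append.1 hr with hr | hr
        · obtain ⟨i, rfl⟩ := (List.mem_ofFn ..).1 hr; exact hhm i.succ
        · rw [List.mem_singleton.1 hr]; exact hh0m
      exact h2.2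
    -- the new matrix
    set M' : Matrix (Fin (n + 1)) (Fin (n + 1)) R := fun i j =>
      Fin.cases (M i 0) (fun j => M i j.succ - M i 0 * cc j) j with hM'
    have hMi0 : ∀ i, M' i 0 = M i 0 := fun i => rfl
    have hMis : ∀ i (j : Fin n), M' i j.succ = M i j.succ - M i 0 * cc j := fun i j => rfl
    set h2 : Fin (n + 1) → R := Fin.cons h0 h' with hh2def
    have hrel : ∀ i, ∑ j, M' i j * h2 j = ∑ j, M i j * h j := by
      intro i
      rw [Fin.sum_univ_succ, Fin.sum_univ_succ]
      simp only [hMi0, hMis, hh2def, Fin.cons_zero, Fin.cons_succ]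
      have : ∑ j, (M i (Fin.succ j) - M i 0 * cc j) * h' j =
          ∑ j, M i (Fin.succ j) * h (Fin.succ j) - M i 0 * c := by
        rw [← hcc, Finset.mul_sum, ← Finset.sum_sub_distrib]
        refine Finset.sum_congr rfl fun j _ => ?_
        simp only [smul_eq_mul, hh']
        ring
      rw [this, hh0def]
      ring
    have hdet : M'.det = M.det := by
      let E : Matrix (Fin (n + 1)) (Fin (n + 1)) R := Matrix.of fun i j =>
        Fin.cases (Fin.cases 1 (fun j => - cc j) j)
          (fun i => Fin.cases 0 (fun j => if i = j then 1 else 0) j) i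
      have hE00 : E 0 0 = 1 := rfl
      have hE0s : ∀ j : Fin n, E 0 j.succ = - cc j := fun j => rfl
      have hEs0 : ∀ i : Fin n, E i.succ 0 = 0 := fun i => rfl
      have hEss : ∀ i j : Fin n, E i.succ j.succ = if i = j then 1 else 0 := fun i j => rfl
      have : M' = M * E := by
        ext i j
        rw [Matrix.mul_apply, Fin.sum_univ_succ]
        refine Fin.cases ?_ (fun j => ?_) j
        · simp [hMi0, hE00, hEs0]
        · simp [hMis, hE0s, hEss, sub_eq_add_neg, add_comm]
      have hEdet : E.det = 1 := by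
        rw [Matrix.det_of_isUpperTriangular, Fin.prod_univ_succ]
        · simp [hE00, hEss]
        · intro i j
          refine Fin.cases ?_ (fun i => ?_) i
          · exact fun h => absurd h (by simp)
          · refine Fin.cases ?_ (fun j => ?_) j
            · intro _; exact hEs0 i
            · intro hij
              have : i ≠ j := by
                rintro rfl
                simp at hij
              rw [hEss, if_neg this]
      rw [this, Matrix.det_mul, hEdet, mul_one]
    have hspan : J ⊔ span (Set.range f) = J' ⊔ span {f 0} := by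
      rw [hJ', sup_assoc, ← Ideal.span_union]
      congr 2
      ext r
      constructor
      · rintro ⟨i, rfl⟩
        refine Fin.cases (Or.inr rfl) (fun i => Or.inl ⟨i, rfl⟩) i
      · rintro (⟨i, rfl⟩ | hr)
        · exact ⟨i.succ, rfl⟩
        · exact ⟨0, hr.symm⟩
    have hJJ' : J ≤ J' := le_sup_left
    have hf'J' : ∀ i, f' i ∈ J' := fun i => Submodule.mem_sup_right (Ideal.subset_span ⟨i, rfl⟩)
    -- decomposition of `x * h j`
    have hdec : ∀ r, r ∈ J ⊔ span (Set.range f) → ∃ a ∈ J', ∃ b, r = a + b * f 0 := by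
      intro r hr
      rw [hspan] at hr
      obtain ⟨a, ha, w, hw, rfl⟩ := Submodule.mem_sup.1 hr
      obtain ⟨b, rfl⟩ := Ideal.mem_span_singleton'.1 hw
      exact ⟨a, ha, b, rfl⟩
    have hxc : x * c ∈ J ⊔ span (Set.range f) := by
      rw [← hcc, Finset.mul_sum]
      refine Ideal.sum_mem _ fun j _ => ?_
      have : x * cc j • h' j = cc j * (x * h j.succ) := by simp [hh']; ring
      rw [this]
      exact Ideal.mul_mem_left _ _ (hx j.succ)
    obtain ⟨a, ha, z, hz⟩ := hdec (x * h0) (by
      rw [hh0def, mul_add]; exact Ideal.add_mem _ (hx 0) hxc)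
    have hz' : ∀ j, z * h' j ∈ J1 ⊔ span (Set.range f') := by
      intro j
      obtain ⟨aj, haj, bj, hbj⟩ := hdec (x * h j.succ) (hx j.succ)
      have h1 : f 0 * (z * h' j - bj * h0) ∈ J' := by
        have : f 0 * (z * h' j - bj * h0) = aj * h0 - a * h' j := by
          have e1 : z * f 0 = x * h0 - a := by rw [hz]; ring
          have e2 : bj * f 0 = x * h j.succ - aj := by rw [hbj]; ring
          calc f 0 * (z * h' j - bj * h0) = (z * f 0) * h' j - (bj * f 0) * h0 := by ring
            _ = (x * h0 - a) * h' j - (x * h j.succ - aj) * h0 := by rw [e1, e2]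
            _ = aj * h0 - a * h' j := by simp only [hh']; ring
        rw [this]
        exact Ideal.sub_mem _ (Ideal.mul_mem_right _ _ haj) (Ideal.mul_mem_right _ _ ha)
      have h3 := hf0 _ h1
      have h4 : z * h' j = (z * h' j - bj * h0) + bj * h0 := by ring
      rw [h4]
      refine Ideal.add_mem _ ?_ ?_
      · have : J ⊔ span (Set.range f') ≤ J1 ⊔ span (Set.range f') := sup_le_sup_right le_sup_left _
        exact this h3
      · exact Submodule.mem_sup_left (Submodule.mem_sup_right
          (Ideal.mul_mem_left _ _ (Ideal.mem_span_singleton_self _)))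
    have hMsub : ∀ i, f' i - ∑ j, (M'.submatrix Fin.succ Fin.succ) i j * h' j ∈ J1 := by
      intro i
      have h1 := hM i.succ
      rw [← hrel, Fin.sum_univ_succ] at h1
      simp only [hh2def, Fin.cons_zero, Fin.cons_succ] at h1
      have h3 : f' i - ∑ j, (M'.submatrix Fin.succ Fin.succ) i j * h' j =
          (f i.succ - (M' i.succ 0 * h0 + ∑ j, M' i.succ (Fin.succ j) * h' j)) +
            M' i.succ 0 * h0 := by
        simp only [Matrix.submatrix_apply, hf']
        ring
      rw [h3]
      exact Ideal.add_mem _ (Submodule.mem_sup_left h1) (Submodule.mem_sup_right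
          (Ideal.mul_mem_left _ _ (Ideal.mem_span_singleton_self _)))
    have hzmem := ih J1 f' h' (M'.submatrix Fin.succ Fin.succ) hf1 hh1 (fun i => hfm i.succ)
      (fun i => hhm i.succ) hMsub z hz'
    set d := (M'.submatrix Fin.succ Fin.succ).det with hd
    obtain ⟨w, hw, w', hw', hww'⟩ := Submodule.mem_sup.1 hzmem
    obtain ⟨k, rfl⟩ := Ideal.mem_span_singleton'.1 hw'
    have hw2 : ∃ a1 ∈ J', ∃ e, w = a1 + e * h0 := by
      have : J1 ⊔ span (Set.range f') = J' ⊔ span {h0} := by
        rw [hJ1, hJ']; ac_rfl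
      rw [this] at hw
      obtain ⟨a1, ha1, v, hv, rfl⟩ := Submodule.mem_sup.1 hw
      obtain ⟨e, rfl⟩ := Ideal.mem_span_singleton'.1 hv
      exact ⟨a1, ha1, e, rfl⟩
    obtain ⟨a1, ha1, e, rfl⟩ := hw2
    -- Cramer
    have hcr : M'.det * h0 - d * f 0 ∈ J' := by
      have h1 : M'.det * h0 = ∑ i, M'.adjugate 0 i * ∑ j, M' i j * h2 j := by
        have h3 : (M'.adjugate * M').mulVec h2 0 = M'.det * h0 := by
          rw [Matrix.adjugate_mul, Matrix.smul_mulVec, Matrix.one_mulVec]
          simp [hh2def]
        rw [← h3, ← Matrix.mulVec_mulVec]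
        simp only [Matrix.mulVec, dotProduct]
      rw [h1, Fin.sum_univ_succ]
      have hadj : M'.adjugate 0 0 = d := by
        rw [Matrix.adjugate_fin_succ_eq_det_submatrix]
        simp [hd]
      rw [hadj]
      have h4 : d * ∑ j, M' 0 j * h2 j + ∑ i, M'.adjugate 0 (Fin.succ i) *
          ∑ j, M' (Fin.succ i) j * h2 j - d * f 0 =
          - (d * (f 0 - ∑ j, M' 0 j * h2 j)) + ∑ i, M'.adjugate 0 (Fin.succ i) *
          ∑ j, M' (Fin.succ i) j * h2 j := by ring
      rw [h4]
      refine Ideal.add_mem _ (Ideal.neg_mem_iff _ |>.2 (Ideal.mul_mem_left _ _ (hJJ' ?_)))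
        (Ideal.sum_mem _ fun i _ => Ideal.mul_mem_left _ _ ?_)
      · rw [hrel]; exact hM 0
      · have h5 : ∑ j, M' (Fin.succ i) j * h2 j =
            f' i - (f i.succ - ∑ j, M' (Fin.succ i) j * h2 j) := by simp [hf']
        rw [h5]
        exact Ideal.sub_mem _ (hf'J' i) (hJJ' (by rw [hrel]; exact hM i.succ))
    have hfin : h0 * (x - e * f 0 - k * M'.det) ∈ J' := by
      have h1 : h0 * (x - e * f 0 - k * M'.det) =
          a + a1 * f 0 - k * (M'.det * h0 - d * f 0) := by
        have e1 : x * h0 = a + (a1 + e * h0 + k * d) * f 0 := by rw [hz, hww']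
        calc h0 * (x - e * f 0 - k * M'.det) = x * h0 - e * f 0 * h0 - k * M'.det * h0 := by ring
          _ = a + (a1 + e * h0 + k * d) * f 0 - e * f 0 * h0 - k * M'.det * h0 := by rw [e1]
          _ = _ := by ring
      rw [h1]
      exact Ideal.sub_mem _ (Ideal.add_mem _ ha (Ideal.mul_mem_right _ _ ha1))
        (Ideal.mul_mem_left _ _ hcr)
    have hlast := hreg _ hfin
    rw [hspan, ← hdet]
    have h6 : x = (x - e * f 0 - k * M'.det) + e * f 0 + k * M'.det := by ring
    rw [h6]
    refine Ideal.add_mem _ (Ideal.add_mem _ ?_ ?_) ?_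
    · exact Submodule.mem_sup_left (Submodule.mem_sup_left hlast)
    · exact Submodule.mem_sup_left (Submodule.mem_sup_right
          (Ideal.mul_mem_left _ _ (Ideal.mem_span_singleton_self _)))
    · exact Submodule.mem_sup_right (Ideal.mul_mem_left _ _ (Ideal.mem_span_singleton_self _))

/-- **Linkage lemma** (Wiebe): `R` Noetherian local, `f`, `h` regular sequences in the maximal
ideal, `f = M h`; then `((f) : (h)) ⊆ (f) + (det M)`. -/
theorem mem_sup_det_of_mul_mem [IsLocalRing R] [IsNoetherianRing R] {n : ℕ}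
    (f h : Fin n → R) (M : Matrix (Fin n) (Fin n) R)
    (hf : IsWeaklyRegular R (List.ofFn f)) (hh : IsWeaklyRegular R (List.ofFn h))
    (hfm : ∀ i, f i ∈ IsLocalRing.maximalIdeal R) (hhm : ∀ i, h i ∈ IsLocalRing.maximalIdeal R)
    (hM : ∀ i, f i = ∑ j, M i j * h j) (x : R)
    (hx : ∀ j, x * h j ∈ span (Set.range f)) :
    x ∈ span (Set.range f) ⊔ span {M.det} := by
  have := colon_le_aux n ⊥ f h M ((wreg_bot_iff _).1 hf) ((wreg_bot_iff _).1 hh) hfm hhm
    (fun i => by rw [hM i, sub_self]; exact Ideal.zero_mem _) x (fun j => by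
      rw [bot_sup_eq]; exact hx j)
  rwa [bot_sup_eq] at this

end Groth.Agent.Pi1A.Linkage703
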