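import Groth.Agent.Localalg.GorDepth
import Groth.Agent.LoccohB.GorBasic
import Groth.Agent.CurvesB.GorDimOne
import Groth.Agent.S0343
import Groth.Agent.S0342
import Groth.Agent.Pi1A.Linkage703
import Groth.Agent.CalgA.DepthSmall

/-!
# Lifting homomorphisms into a Gorenstein ring modulo a regular element

`S` Gorenstein local of dimension at most two, `I` an ideal, `t` regular on `S` and `S / I`, and
some element of the maximal ideal regular on `S / (I, t)`.  Then every linear map `I → S` is a
multiplication (`Ext¹(S/I, S) = 0`) and `Hom(S/I, S) → Hom(S/I, S/t)` is surjective.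
-/

set_option autoImplicit false

universe u

open IsLocalRing CategoryTheory

namespace Groth.Agent.Pi1A.GorLift703

/-- Every linear map from `I` to the ring is a multiplication. -/
def AllMul (S : Type u) [CommRing S] (I : Ideal S) : Prop :=
  ∀ ψ : I →ₗ[S] S, ∃ s : S, ∀ x : I, ψ x = s * x

/-- Gorenstein and depth zero: every linear map from an ideal is a multiplication. -/
theorem allMul_of_depth_zero (A : Type u) [CommRing A] [LocCoh.IsGorensteinLocalRing A]
    (h : ∀ x ∈ maximalIdeal A, ¬ IsSMulRegular A x) (I : Ideal A) : AllMul A I := by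
  obtain ⟨n, hn⟩ := LocCoh.IsGorensteinLocalRing.exists_hasInjectiveDimensionLT (A := A)
  have h1 : HasInjectiveDimensionLT (ModuleCat.of A A) 1 :=
    Groth.Agent.Localalg.GorDepth.hasInjectiveDimensionLT_one _ n hn h
  have h2 : Injective (ModuleCat.of A A) := injective_iff_hasInjectiveDimensionLT_one.2 h1
  have h3 : Module.Injective A A := Module.injective_module_of_injective_object A A
  have h4 : Module.Baer A A := Module.Baer.of_injective h3
  intro ψ
  obtain ⟨g, hg⟩ := h4 I ψ
  refine ⟨g 1, fun x => ?_⟩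
  rw [← hg x.1 x.2, mul_comm, ← smul_eq_mul, ← map_smul, smul_eq_mul, mul_one]

/-- Lifting through a regular element. -/
theorem AllMul.of_quotient {S : Type u} [CommRing S] [IsLocalRing S] [IsNoetherianRing S]
    {I : Ideal S} {t : S} (ht : t ∈ maximalIdeal S) (hreg : IsSMulRegular S t)
    (hI : ∀ x, t * x ∈ I → x ∈ I)
    (h : AllMul (S ⧸ Ideal.span {t}) (I.map (Ideal.Quotient.mk (Ideal.span {t})))) :
    AllMul S I := by
  classical
  set π := Ideal.Quotient.mk (Ideal.span {t}) with hπ
  have hπs : Function.Surjective π := Ideal.Quotient.mk_surjective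
  -- the submodule of multiplications
  let mulL : S →ₗ[S] (I →ₗ[S] S) :=
    { toFun := fun s => (LinearMap.mulLeft S s).comp I.subtype
      map_add' := fun a b => by ext x; simp [add_mul]
      map_smul' := fun a b => by ext x; simp }
  have hmulL : ∀ s x, mulL s x = s * x := fun s x => rfl
  have key : ∀ ψ : I →ₗ[S] S, ∃ s, ∃ ψ₁ : I →ₗ[S] S, ψ = mulL s + t • ψ₁ := by
    intro ψ
    have hker : ∀ x : I, π x = 0 → π (ψ x) = 0 := by
      intro x hx
      rw [hπ, Ideal.Quotient.eq_zero_iff_mem, Ideal.mem_span_singleton] at hx ⊢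
      obtain ⟨y, hy⟩ := hx
      have hyI : y ∈ I := hI y (hy ▸ x.2)
      have : x = t • (⟨y, hyI⟩ : I) := Subtype.ext hy
      rw [this, map_smul]
      exact ⟨_, rfl⟩
    have hsub : ∀ x y : I, π x = π y → π (ψ x) = π (ψ y) := by
      intro x y hxy
      have : π (ψ (x - y)) = 0 := hker (x - y) (by simp [hxy])
      rw [map_sub, map_sub, sub_eq_zero] at this
      exact this
    have hlift : ∀ x : I.map π, ∃ y : I, π y = x := by
      intro x
      obtain ⟨y, hy, hyx⟩ := (Ideal.mem_map_iff_of_surjective π hπs).1 x.2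
      exact ⟨⟨y, hy⟩, hyx⟩
    choose l hl using hlift
    let ψb : I.map π →ₗ[S ⧸ Ideal.span {t}] (S ⧸ Ideal.span {t}) :=
      { toFun := fun x => π (ψ (l x))
        map_add' := fun x y => by
          rw [← map_add, ← map_add]
          apply hsub
          rw [hl]
          simp [hl]
        map_smul' := fun a x => by
          obtain ⟨a, rfl⟩ := hπs a
          have : π (ψ (l (π a • x))) = π (ψ (a • l x)) := by
            apply hsub
            rw [hl]
            change π a * (x : S ⧸ Ideal.span {t}) = π (a * (l x : S))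
            rw [map_mul, hl]
          rw [this, map_smul]
          simp [hπ] }
    obtain ⟨s, hs⟩ := h ψb
    obtain ⟨s, rfl⟩ := hπs s
    have hs' : ∀ x : I, ψ x - s * x ∈ Ideal.span {t} := by
      intro x
      have h1 := hs ⟨π x, Ideal.mem_map_of_mem π x.2⟩
      have h2 : ψb ⟨π x, Ideal.mem_map_of_mem π x.2⟩ = π (ψ x) := hsub _ _ (hl _)
      rw [h2] at h1
      rw [← Ideal.Quotient.eq, map_mul]
      exact h1
    simp only [Ideal.mem_span_singleton'] at hs'
    choose c hc using hs'
    have hinj : ∀ a b : S, t * a = t * b → a = b := fun a b hab => hreg hab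
    refine ⟨s, { toFun := c, map_add' := fun x y => ?_, map_smul' := fun a x => ?_ }, ?_⟩
    · apply hinj
      rw [mul_add, mul_comm t, mul_comm t, mul_comm t, hc, hc, hc, map_add]
      push_cast
      ring
    · apply hinj
      have : t * (a • c x) = a * (c x * t) := by rw [smul_eq_mul]; ring
      rw [RingHom.id_apply, this, mul_comm t, hc, hc, map_smul]
      simp only [smul_eq_mul, SetLike.val_smul]
      ring
    · ext x
      have := hc x
      change ψ x = s * x + t * c x
      linear_combination -this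
  have hfg : (⊤ : Submodule S (I →ₗ[S] S)).FG := by
    have : IsNoetherian S (I →ₗ[S] S) := inferInstance
    exact IsNoetherian.noetherian _
  have hle : (⊤ : Submodule S (I →ₗ[S] S)) ≤ LinearMap.range mulL := by
    refine Submodule.le_of_le_smul_of_le_jacobson_bot (I := Ideal.span {t}) hfg ?_ ?_
    · rw [Ideal.span_singleton_le_iff_mem]
      exact IsLocalRing.maximalIdeal_le_jacobson _ ht
    · intro ψ _
      obtain ⟨s, ψ₁, rfl⟩ := key ψ
      exact Submodule.add_mem_sup ⟨s, rfl⟩
        (Submodule.smul_mem_smul (Ideal.mem_span_singleton_self t) trivial)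
  intro ψ
  obtain ⟨s, rfl⟩ := hle (x := ψ) trivial
  exact ⟨s, fun x => rfl⟩

/-- Dimension at most one. -/
theorem allMul_of_dim_le_one (S : Type u) [CommRing S] [LocCoh.IsGorensteinLocalRing S]
    [Ring.KrullDimLE 1 S] (I : Ideal S) (u : S) (hu : u ∈ maximalIdeal S)
    (huI : ∀ x, u * x ∈ I → x ∈ I) : AllMul S I := by
  by_cases h : ∀ x ∈ maximalIdeal S, ¬ IsSMulRegular S x
  · exact allMul_of_depth_zero S h I
  push Not at h
  obtain ⟨x, hx, hxr⟩ := h
  -- an element regular on both
  have h1 : maximalIdeal S ∉ associatedPrimes S (S × (S ⧸ I)) := by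
    rw [associatedPrimes.prod]
    rintro (h | h)
    · exact Groth.Agent.CalgA.DepthSmall.notMem_associatedPrimes_of_isSMulRegular hx hxr h
    · refine Groth.Agent.CalgA.DepthSmall.notMem_associatedPrimes_of_isSMulRegular hu ?_ h
      rw [Linkage703.isSMulRegular_quotient_iff]
      exact huI
  obtain ⟨v, hv, hvr⟩ :=
    Groth.Agent.CalgA.DepthSmall.exists_isSMulRegular_of_notMem_associatedPrimes _ h1
  have hvS : IsSMulRegular S v := by
    intro a b hab
    have : v • ((a, 0) : S × (S ⧸ I)) = v • (b, 0) := by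
      simpa [Prod.smul_mk] using hab
    simpa using congrArg Prod.fst (hvr this)
  have hvI : IsSMulRegular (S ⧸ I) v := by
    intro a b hab
    have : v • ((0, a) : S × (S ⧸ I)) = v • (0, b) := by
      simpa [Prod.smul_mk] using hab
    simpa using congrArg Prod.snd (hvr this)
  refine AllMul.of_quotient hv hvS ((Linkage703.isSMulRegular_quotient_iff _ _).1 hvI) ?_
  have hG : LocCoh.IsGorensteinLocalRing (S ⧸ Ideal.span {v}) :=
    (Groth.Agent.S0343.result S v hv hvS).1 inferInstance
  have hart : IsArtinianRing (S ⧸ Ideal.span {v}) :=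
    Groth.Agent.CurvesB.GorDimOne.isArtinianRing_quotient (by
      rw [mem_nonZeroDivisors_iff_right]
      intro x hx
      have : v • x = v • (0 : S) := by simpa [mul_comm] using hx
      exact hvS this)
  refine allMul_of_depth_zero _ ?_ _
  intro x hx hxr
  have hnil : IsNilpotent x := by
    rw [← mem_nilradical]
    rwa [Ring.KrullDimLE.nilradical_eq_maximalIdeal]
  obtain ⟨n, hn⟩ := hnil
  have hpow : IsSMulRegular (S ⧸ Ideal.span {v}) (x ^ n) := hxr.pow n
  rw [hn] at hpow
  exact one_ne_zero (hpow (show (0 : S ⧸ Ideal.span {v}) • (1 : S ⧸ Ideal.span {v}) = (0 : S ⧸ Ideal.span {v}) • 0 by simp))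

theorem le_of_add_le_add_nat {a : WithBot ℕ∞} {m k : ℕ} (h : a + k ≤ m + k) : a ≤ m := by
  induction a using WithBot.recBotCoe with
  | bot => exact bot_le
  | coe a =>
    induction a using ENat.recTopCoe with
    | top =>
      exfalso
      have : ((⊤ : ℕ∞) : WithBot ℕ∞) + (k : WithBot ℕ∞) = ((⊤ : ℕ∞) : WithBot ℕ∞) := by
        norm_cast
      rw [this] at h
      have h2 : ((⊤ : ℕ∞) : WithBot ℕ∞) ≤ (((m + k : ℕ) : ℕ∞) : WithBot ℕ∞) := by
        exact_mod_cast h
      rw [WithBot.coe_le_coe] at h2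
      exact absurd h2 (not_le.2 (ENat.natCast_lt_top _))
    | coe a =>
      norm_cast at h ⊢
      omega

theorem map_mem_maximalIdeal {A B : Type*} [CommRing A] [CommRing B] [IsLocalRing A]
    [IsLocalRing B] (f : A →+* B) (hf : Function.Surjective f) {a : A}
    (ha : a ∈ maximalIdeal A) : f a ∈ maximalIdeal B := by
  have := IsLocalHom.of_surjective f hf
  rw [mem_maximalIdeal, mem_nonunits_iff] at ha ⊢
  exact fun h => ha (isUnit_of_map_unit f a h)

theorem krullDimLE_quotient {S : Type u} [CommRing S] {n : ℕ}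
    (h : ringKrullDim S ≤ (n + 1 : ℕ)) {t : S} (ht : IsSMulRegular S t) :
    Ring.KrullDimLE n (S ⧸ Ideal.span {t}) := by
  rw [Ring.krullDimLE_iff]
  have h1 := ringKrullDim_quotient_succ_le_of_nonZeroDivisor (R := S) (r := t) (by
    rw [mem_nonZeroDivisors_iff_right]
    intro x hx
    have : t • x = t • (0 : S) := by simpa [mul_comm] using hx
    exact ht this)
  have h2 := h1.trans h
  exact le_of_add_le_add_nat (k := 1) (by exact_mod_cast h2)

/-- Dimension at most two: `Ext¹(S/I, S) = 0` when `S/I` has depth two (`t` also regular on `S`). -/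
theorem allMul_of_dim_le_two (S : Type u) [CommRing S] [LocCoh.IsGorensteinLocalRing S]
    (hdim : ringKrullDim S ≤ 2) (I : Ideal S) (t u : S) (ht : t ∈ maximalIdeal S)
    (htS : IsSMulRegular S t) (htI : ∀ x, t * x ∈ I → x ∈ I) (hu : u ∈ maximalIdeal S)
    (huI : ∀ x, u * x ∈ I ⊔ Ideal.span {t} → x ∈ I ⊔ Ideal.span {t}) : AllMul S I := by
  refine AllMul.of_quotient ht htS htI ?_
  have hG : LocCoh.IsGorensteinLocalRing (S ⧸ Ideal.span {t}) :=
    (Groth.Agent.S0343.result S t ht htS).1 inferInstance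
  have hd : Ring.KrullDimLE 1 (S ⧸ Ideal.span {t}) :=
    krullDimLE_quotient (n := 1) (by simpa using hdim) htS
  refine allMul_of_dim_le_one _ _ (Ideal.Quotient.mk _ u) ?_ ?_
  · exact map_mem_maximalIdeal _ Ideal.Quotient.mk_surjective hu
  · intro x hx
    obtain ⟨x, rfl⟩ := Ideal.Quotient.mk_surjective x
    rw [← map_mul, ← Ideal.mem_comap, Ideal.comap_map_of_surjective _ Ideal.Quotient.mk_surjective,
      ← RingHom.ker_eq_comap_bot, Ideal.mk_ker] at hx
    rw [← Ideal.mem_comap, Ideal.comap_map_of_surjective _ Ideal.Quotient.mk_surjective,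
      ← RingHom.ker_eq_comap_bot, Ideal.mk_ker]
    exact huI x hx

/-- `AllMul` lifts homomorphisms `S/I → S/t` to `S/I → S`. -/
theorem AllMul.exists_lift {S : Type u} [CommRing S] {I : Ideal S} (h : AllMul S I) {t : S}
    (ht : IsSMulRegular S t) (y : S) (hy : ∀ x ∈ I, y * x ∈ Ideal.span {t}) :
    ∃ z, (∀ x ∈ I, z * x = 0) ∧ y - z ∈ Ideal.span {t} := by
  have hy' : ∀ x : I, ∃ c, c * t = y * x := fun x => Ideal.mem_span_singleton'.1 (hy x x.2)
  choose c hc using hy'
  have hinj : ∀ a b : S, t * a = t * b → a = b := fun a b hab => ht hab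
  let ψ : I →ₗ[S] S :=
    { toFun := c
      map_add' := fun x y' => by
        apply hinj
        have h1 := hc (x + y')
        have h2 := hc x
        have h3 := hc y'
        push_cast at h1
        linear_combination h1 - h2 - h3
      map_smul' := fun a x => by
        apply hinj
        have h1 := hc (a • x)
        have h2 := hc x
        rw [RingHom.id_apply]
        simp only [SetLike.val_smul, smul_eq_mul] at h1 ⊢
        linear_combination h1 - a * h2 }
  obtain ⟨s, hs⟩ := h ψ
  refine ⟨y - s * t, fun x hx => ?_, ?_⟩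
  · have h1 : c ⟨x, hx⟩ = s * x := hs ⟨x, hx⟩
    have h2 := hc ⟨x, hx⟩
    rw [h1] at h2
    simp only at h2
    linear_combination -h2
  · rw [sub_sub_cancel]
    exact Ideal.mul_mem_left _ _ (Ideal.mem_span_singleton_self t)

/-- **Ext lifting lemma**: `R` Gorenstein local of dimension at most `n + 2`, `L` of length `n` and
`L ++ [t]` weakly regular in the maximal ideal, `L ⊆ I`, `(t, u)` regular on `R / I`.  Then
`((L, t) : I) ⊆ ((L) : I) + (t)`. -/
theorem exists_lift_colon (R : Type u) [CommRing R] [LocCoh.IsGorensteinLocalRing R]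
    (L : List R) (t u : R) (hL : ∀ r ∈ L, r ∈ maximalIdeal R) (ht : t ∈ maximalIdeal R)
    (hu : u ∈ maximalIdeal R) (hreg : RingTheory.Sequence.IsWeaklyRegular R (L ++ [t]))
    (hdim : ringKrullDim R ≤ (L.length + 2 : ℕ)) (I : Ideal R) (hLI : Ideal.ofList L ≤ I)
    (htI : ∀ x, t * x ∈ I → x ∈ I)
    (huI : ∀ x, u * x ∈ I ⊔ Ideal.span {t} → x ∈ I ⊔ Ideal.span {t})
    (y : R) (hy : ∀ x ∈ I, y * x ∈ Ideal.ofList L ⊔ Ideal.span {t}) :
    ∃ z, (∀ x ∈ I, z * x ∈ Ideal.ofList L) ∧ y - z ∈ Ideal.span {t} := by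
  set π := Ideal.Quotient.mk (Ideal.ofList L) with hπ
  have hπs : Function.Surjective π := Ideal.Quotient.mk_surjective
  have hLm : Ideal.ofList L ≤ maximalIdeal R := Ideal.span_le.2 hL
  have hLtop : Ideal.ofList L ≠ ⊤ := fun h => (maximalIdeal.isMaximal R).ne_top
    (top_le_iff.1 (h ▸ hLm))
  have hnt : Nontrivial (R ⧸ Ideal.ofList L) := Ideal.Quotient.nontrivial_iff.2 hLtop
  have hlr : IsLocalRing (R ⧸ Ideal.ofList L) := IsLocalRing.of_surjective' π hπs
  have hW := (Linkage703.wreg_bot_iff _).1 hreg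
  rw [Linkage703.WReg.append_iff, bot_sup_eq] at hW
  obtain ⟨hWL, htL, -⟩ := hW
  have hLreg : RingTheory.Sequence.IsWeaklyRegular R L := (Linkage703.wreg_bot_iff _).2 hWL
  have hG : LocCoh.IsGorensteinLocalRing (R ⧸ Ideal.ofList L) :=
    Groth.Agent.LoccohB.GorBasic.isGorensteinLocalRing_iff.2 ⟨inferInstance, hlr,
      Groth.Agent.LoccohB.GorBasic.FID.quotient_ofList L
        (Groth.Agent.LoccohB.GorBasic.isGorensteinLocalRing_iff.1 inferInstance).2.2 hLreg⟩
  have hdimS : ringKrullDim (R ⧸ Ideal.ofList L) ≤ 2 := by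
    have h1 := ringKrullDim_add_length_eq_ringKrullDim_of_isRegular L
      (RingTheory.Sequence.IsRegular.mk hLreg (by
        intro h
        apply hLtop
        rw [smul_eq_mul, Ideal.mul_top] at h
        exact h.symm))
    have h2 : ringKrullDim (R ⧸ Ideal.ofList L) + L.length ≤ (2 : ℕ) + L.length := by
      rw [h1]
      refine hdim.trans (le_of_eq ?_)
      push_cast
      rw [add_comm]
    exact le_of_add_le_add_nat h2
  have hmaxmap : ∀ r ∈ maximalIdeal R, π r ∈ maximalIdeal (R ⧸ Ideal.ofList L) := fun r hr =>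
    map_mem_maximalIdeal _ hπs hr
  have hcomapI : (I.map π).comap π = I := by
    rw [Ideal.comap_map_of_surjective _ hπs, ← RingHom.ker_eq_comap_bot, Ideal.mk_ker,
      sup_eq_left]
    exact hLI
  have htS : IsSMulRegular (R ⧸ Ideal.ofList L) (π t) := by
    have h1 : IsSMulRegular (R ⧸ Ideal.ofList L) t :=
      (Linkage703.isSMulRegular_quotient_iff _ _).2 htL
    intro a b hab
    apply h1
    simpa [hπ, Algebra.smul_def] using hab
  have hall : AllMul (R ⧸ Ideal.ofList L) (I.map π) := by
    refine allMul_of_dim_le_two _ hdimS _ (π t) (π u) (hmaxmap t ht) htS ?_ (hmaxmap u hu) ?_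
    · intro x hx
      obtain ⟨x, rfl⟩ := hπs x
      rw [← map_mul, ← Ideal.mem_comap, hcomapI] at hx
      rw [← Ideal.mem_comap, hcomapI]
      exact htI x hx
    · intro x hx
      obtain ⟨x, rfl⟩ := hπs x
      have hsup : (I.map π ⊔ Ideal.span {π t}).comap π = I ⊔ Ideal.span {t} := by
        rw [← Set.image_singleton, ← Ideal.map_span, ← Ideal.map_sup,
          Ideal.comap_map_of_surjective _ hπs, ← RingHom.ker_eq_comap_bot, Ideal.mk_ker,
          sup_eq_left]
        exact hLI.trans le_sup_left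
      rw [← map_mul, ← Ideal.mem_comap, hsup] at hx
      rw [← Ideal.mem_comap, hsup]
      exact huI x hx
  obtain ⟨z, hz, hz'⟩ := hall.exists_lift htS (π y) (by
    intro x hx
    obtain ⟨x, rfl⟩ := hπs x
    rw [← Ideal.mem_comap, hcomapI] at hx
    have h1 := Ideal.mem_map_of_mem π (hy x hx)
    rw [map_mul, Ideal.map_sup, Ideal.map_quotient_self, bot_sup_eq, Ideal.map_span,
      Set.image_singleton] at h1
    exact h1)
  obtain ⟨z, rfl⟩ := hπs z
  obtain ⟨c, hc⟩ := Ideal.mem_span_singleton'.1 hz'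
  obtain ⟨c, rfl⟩ := hπs c
  have h2 : y - z - c * t ∈ Ideal.ofList L := by
    rw [← Ideal.Quotient.eq_zero_iff_mem, map_sub, map_sub, map_mul]
    change π y - π z - π c * π t = 0
    rw [hc, sub_self]
  refine ⟨y - c * t, fun x hx => ?_, ?_⟩
  · have h3 : z * x ∈ Ideal.ofList L := by
      rw [← Ideal.Quotient.eq_zero_iff_mem, map_mul]
      exact hz _ (Ideal.mem_map_of_mem π hx)
    have h4 : (y - c * t) * x = (y - z - c * t) * x + z * x := by ring
    rw [h4]
    exact Ideal.add_mem _ (Ideal.mul_mem_right _ _ h2) h3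
  · rw [sub_sub_cancel]
    exact Ideal.mul_mem_left _ _ (Ideal.mem_span_singleton_self t)

end Groth.Agent.Pi1A.GorLift703
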