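import Groth.Agent.Pi1A.RegPair
import Mathlib.RingTheory.Smooth.Basic
import Mathlib.RingTheory.Unramified.Basic
import Mathlib.RingTheory.Localization.Away.Basic

/-!
# Lifting and gluing algebra maps out of an algebra which is étale over `D(u) ∪ D(v)`

Let `π : E → C` be a surjective map of `A`-algebras with nilpotent kernel and `g : B → C` a map of
`A`-algebras, where `B` is formally étale over `A` after inverting `u` and after inverting `v`.
If `(u, v)` is a regular pair on `E` and `u` is a nonzerodivisor on `C`, then `g` lifts to `E`.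
-/

namespace Groth.Agent.Pi1A.Purity

variable {A : Type*} [CommRing A]

/-- Localization of an `A`-algebra at (the image of) an element of `A`. -/
abbrev Loc (a : A) (E : Type*) [CommRing E] [Algebra A E] : Type _ :=
  Localization.Away (algebraMap A E a)

section

variable {E C W B : Type*} [CommRing E] [Algebra A E] [CommRing C] [Algebra A C]
  [CommRing W] [Algebra A W] [CommRing B] [Algebra A B]

theorem isUnit_loc (a : A) (E : Type*) [CommRing E] [Algebra A E] :
    IsUnit (algebraMap A (Loc a E) a) := by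
  rw [IsScalarTower.algebraMap_apply A E (Loc a E)]
  exact IsLocalization.Away.algebraMap_isUnit _

/-- Extend a map to the localization. -/
noncomputable def locLift (a : A) (f : E →ₐ[A] W) (h : IsUnit (algebraMap A W a)) :
    Loc a E →ₐ[A] W :=
  IsLocalization.liftAlgHom (M := Submonoid.powers (algebraMap A E a)) (f := f) (by
    rintro ⟨_, n, rfl⟩
    simpa using h.pow n)

@[simp] theorem locLift_algebraMap (a : A) (f : E →ₐ[A] W) (h : IsUnit (algebraMap A W a)) (e : E) :
    locLift a f h (algebraMap E (Loc a E) e) = f e := by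
  rw [locLift, IsLocalization.coe_liftAlgHom]
  exact IsLocalization.lift_eq _ e

theorem loc_hom_ext {a : A} {f g : Loc a E →ₐ[A] W}
    (h : ∀ e : E, f (algebraMap E (Loc a E) e) = g (algebraMap E (Loc a E) e)) : f = g :=
  IsLocalization.algHom_ext (Submonoid.powers (algebraMap A E a)) (AlgHom.ext h)

/-- The map on localizations. -/
noncomputable def locMap (a : A) (f : E →ₐ[A] C) : Loc a E →ₐ[A] Loc a C :=
  locLift a ((IsScalarTower.toAlgHom A C (Loc a C)).comp f) (isUnit_loc a C)

@[simp] theorem locMap_algebraMap (a : A) (f : E →ₐ[A] C) (e : E) :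
    locMap a f (algebraMap E (Loc a E) e) = algebraMap C (Loc a C) (f e) := by
  rw [locMap, locLift_algebraMap]
  rfl

theorem exists_smul_eq (a : A) (z : Loc a E) :
    ∃ (n : ℕ) (e : E), a ^ n • z = algebraMap E (Loc a E) e := by
  obtain ⟨n, e, h⟩ := IsLocalization.Away.surj (algebraMap A E a) z
  refine ⟨n, e, ?_⟩
  rw [← h, mul_comm, Algebra.smul_def, map_pow, IsScalarTower.algebraMap_apply A E (Loc a E)]

theorem exists_smul_eq_of_eq (a : A) {e e' : E}
    (h : algebraMap E (Loc a E) e = algebraMap E (Loc a E) e') :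
    ∃ n : ℕ, a ^ n • e = a ^ n • e' := by
  obtain ⟨n, hn⟩ := IsLocalization.Away.exists_of_eq (algebraMap A E a) h
  refine ⟨n, ?_⟩
  rw [Algebra.smul_def, Algebra.smul_def, map_pow, hn]

theorem smul_cancel (a : A) (n : ℕ) {z w : Loc a E} (h : a ^ n • z = a ^ n • w) : z = w := by
  rw [Algebra.smul_def, Algebra.smul_def, map_pow] at h
  exact ((isUnit_loc a E).pow n).mul_left_cancel h

theorem locMap_surjective (a : A) (f : E →ₐ[A] C) (hf : Function.Surjective f) :
    Function.Surjective (locMap a f) := by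
  intro z
  obtain ⟨n, c, hc⟩ := exists_smul_eq a z
  obtain ⟨e, rfl⟩ := hf c
  obtain ⟨w, hw⟩ := ((isUnit_loc a E).pow n).exists_right_inv
  refine ⟨w * algebraMap E _ e, ?_⟩
  apply smul_cancel a n
  rw [hc, ← map_smul, ← locMap_algebraMap, Algebra.smul_def, map_pow, ← mul_assoc, hw, one_mul]

theorem ker_locMap_le (a : A) (f : E →ₐ[A] C) :
    RingHom.ker (locMap a f : Loc a E →+* Loc a C) ≤
      (RingHom.ker (f : E →+* C)).map (algebraMap E (Loc a E)) := by
  intro z hz
  obtain ⟨n, e, he⟩ := exists_smul_eq a z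
  have hz' : locMap a f z = 0 := hz
  have h1 : algebraMap C (Loc a C) (f e) = algebraMap C (Loc a C) 0 := by
    rw [← locMap_algebraMap, ← he, map_smul, hz', smul_zero, map_zero]
  obtain ⟨m, hm⟩ := exists_smul_eq_of_eq a h1
  have h2 : a ^ m • e ∈ RingHom.ker (f : E →+* C) := by
    change f (a ^ m • e) = 0
    rw [map_smul, hm, smul_zero]
  obtain ⟨w, hw⟩ := ((isUnit_loc a E).pow (m + n)).exists_left_inv
  have h3 : z = w * algebraMap E (Loc a E) (a ^ m • e) := by
    have : algebraMap E (Loc a E) (a ^ m • e) = a ^ m • algebraMap E (Loc a E) e :=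
      (IsScalarTower.toAlgHom A E (Loc a E)).map_smul_of_tower _ _
    rw [this, ← he, smul_smul, ← pow_add, Algebra.smul_def, map_pow, ← mul_assoc, hw, one_mul]
  rw [h3]
  exact Ideal.mul_mem_left _ _ (Ideal.mem_map_of_mem _ h2)

theorem isNilpotent_ker_locMap (a : A) (f : E →ₐ[A] C)
    (hf : IsNilpotent (RingHom.ker (f : E →+* C))) :
    IsNilpotent (RingHom.ker (locMap a f : Loc a E →+* Loc a C)) := by
  obtain ⟨n, hn⟩ := hf
  refine ⟨n, ?_⟩
  rw [Submodule.zero_eq_bot, eq_bot_iff]
  calc _ ≤ ((RingHom.ker (f : E →+* C)).map (algebraMap E (Loc a E))) ^ n :=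
        Ideal.pow_right_mono (ker_locMap_le a f) n
    _ = ((RingHom.ker (f : E →+* C)) ^ n).map (algebraMap E (Loc a E)) := (Ideal.map_pow _ _ _).symm
    _ ≤ ⊥ := by rw [hn, Submodule.zero_eq_bot, Ideal.map_bot]

/-- Uniqueness of lifts, over a ring where `a` is invertible. -/
theorem algHom_eq_of_unramified (a : A) [Algebra.FormallyUnramified A (Loc a B)]
    (ρ : E →ₐ[A] C) (hρ : IsNilpotent (RingHom.ker (ρ : E →+* C)))
    (ha : IsUnit (algebraMap A E a)) {f g : B →ₐ[A] E} (h : ρ.comp f = ρ.comp g) : f = g := by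
  have : locLift a f ha = locLift a g ha := by
    refine Algebra.FormallyUnramified.lift_unique' ρ hρ _ _ (loc_hom_ext fun e => ?_)
    simpa using DFunLike.congr_fun h e
  ext b
  simpa using DFunLike.congr_fun this (algebraMap B _ b)

/-- Existence of lifts after inverting `a`. -/
theorem exists_lift_away (a : A) [Algebra.FormallySmooth A (Loc a B)]
    (π : E →ₐ[A] C) (hπ : Function.Surjective π) (hker : IsNilpotent (RingHom.ker (π : E →+* C)))
    (g : B →ₐ[A] C) :
    ∃ ψ : B →ₐ[A] Loc a E, ∀ b, locMap a π (ψ b) = algebraMap C (Loc a C) (g b) := by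
  let ψ' : Loc a B →ₐ[A] Loc a E := Algebra.FormallySmooth.liftOfSurjective (locMap a g)
    (locMap a π) (locMap_surjective a π hπ) (isNilpotent_ker_locMap a π hker)
  refine ⟨ψ'.comp (IsScalarTower.toAlgHom A B (Loc a B)), fun b => ?_⟩
  have := Algebra.FormallySmooth.liftOfSurjective_apply (locMap a g)
    (locMap a π) (locMap_surjective a π hπ) (isNilpotent_ker_locMap a π hker)
    (algebraMap B (Loc a B) b)
  rw [locMap_algebraMap] at this
  exact this

theorem algebraMap_loc_smul (a : A) (n : ℕ) (b : A) (e : E) :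
    algebraMap E (Loc a E) (b ^ n • e) = b ^ n • algebraMap E (Loc a E) e :=
  (IsScalarTower.toAlgHom A E (Loc a E)).map_smul_of_tower _ _

theorem algebraMap_loc_injective {a : A} (h : ∀ e : E, a • e = 0 → e = 0) :
    Function.Injective (algebraMap E (Loc a E)) := by
  intro e e' hee
  obtain ⟨n, hn⟩ := exists_smul_eq_of_eq a hee
  have : ∀ k : ℕ, ∀ z : E, a ^ k • z = 0 → z = 0 := by
    intro k
    induction k with
    | zero => intro z hz; simpa using hz
    | succ k ih =>
      intro z hz
      rw [pow_succ', mul_smul] at hz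
      exact ih z (h _ hz)
  exact sub_eq_zero.mp (this n _ (by rw [smul_sub, hn, sub_self]))

/-- Gluing of elements over `D(u) ∪ D(v)`. -/
theorem exists_glue {u v : A} (hE : RegPair u v E) (zu : Loc u E) (zv : Loc v E)
    (h : algebraMap (Loc u E) (Loc v (Loc u E)) zu =
      locLift v (IsScalarTower.toAlgHom A E (Loc v (Loc u E))) (isUnit_loc v (Loc u E)) zv) :
    ∃ e : E, algebraMap E (Loc u E) e = zu ∧ algebraMap E (Loc v E) e = zv := by
  obtain ⟨n, p, hp⟩ := exists_smul_eq u zu
  obtain ⟨m, q, hq⟩ := exists_smul_eq v zv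
  set j2 := locLift v (IsScalarTower.toAlgHom A E (Loc v (Loc u E))) (isUnit_loc v (Loc u E))
    with hj2
  set j1 := IsScalarTower.toAlgHom A (Loc u E) (Loc v (Loc u E)) with hj1
  have h1 : v ^ m • j1 (algebraMap E (Loc u E) p) = u ^ n • j2 (algebraMap E (Loc v E) q) := by
    rw [← hp, ← hq, map_smul, map_smul, smul_comm]
    congr 2
  have h2 : algebraMap (Loc u E) (Loc v (Loc u E)) (algebraMap E (Loc u E) (v ^ m • p)) =
      algebraMap (Loc u E) (Loc v (Loc u E)) (algebraMap E (Loc u E) (u ^ n • q)) := by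
    have e1 : j2 (algebraMap E (Loc v E) q) =
        algebraMap (Loc u E) (Loc v (Loc u E)) (algebraMap E (Loc u E) q) := by
      rw [hj2, locLift_algebraMap]
      rfl
    rw [e1] at h1
    rw [algebraMap_loc_smul, algebraMap_loc_smul, algebraMap_loc_smul, algebraMap_loc_smul]
    exact h1
  obtain ⟨k, hk⟩ := exists_smul_eq_of_eq (E := Loc u E) v h2
  rw [← algebraMap_loc_smul, ← algebraMap_loc_smul] at hk
  obtain ⟨l, hl⟩ := exists_smul_eq_of_eq u hk
  have h3 := hE.pow_inj l hl
  rw [smul_smul, ← pow_add, smul_comm] at h3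
  obtain ⟨e, he1, he2⟩ := hE.glue n (k + m) h3
  refine ⟨e, ?_, ?_⟩
  · apply smul_cancel u n
    rw [hp, he1, algebraMap_loc_smul]
  · apply smul_cancel v (k + m)
    rw [← algebraMap_loc_smul, ← he2, algebraMap_loc_smul, ← hq, smul_smul, pow_add]

/-- Lifting a map of algebras out of an algebra which is étale over `D(u) ∪ D(v)`. -/
theorem exists_lift {u v : A} (hE : RegPair u v E) (hC : ∀ c : C, u • c = 0 → c = 0)
    (π : E →ₐ[A] C) (hπ : Function.Surjective π) (hker : IsNilpotent (RingHom.ker (π : E →+* C)))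
    (g : B →ₐ[A] C) [Algebra.FormallySmooth A (Loc u B)] [Algebra.FormallyUnramified A (Loc u B)]
    [Algebra.FormallySmooth A (Loc v B)] :
    ∃ φ : B →ₐ[A] E, π.comp φ = g := by
  obtain ⟨ψu, hψu⟩ := exists_lift_away u π hπ hker g
  obtain ⟨ψv, hψv⟩ := exists_lift_away v π hπ hker g
  let W := Loc v (Loc u E)
  let W' := Loc v (Loc u C)
  let ρ : W →ₐ[A] W' := locMap v (locMap u π)
  have hρ : IsNilpotent (RingHom.ker (ρ : W →+* W')) :=
    isNilpotent_ker_locMap v _ (isNilpotent_ker_locMap u π hker)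
  have huW : IsUnit (algebraMap A W u) := by
    rw [IsScalarTower.algebraMap_apply A (Loc u E) W]
    exact (isUnit_loc u E).map _
  let j1 : Loc u E →ₐ[A] W := IsScalarTower.toAlgHom A (Loc u E) W
  let j2 : Loc v E →ₐ[A] W := locLift v (IsScalarTower.toAlgHom A E W) (isUnit_loc v (Loc u E))
  let j2' : Loc v C →ₐ[A] W' := locLift v (IsScalarTower.toAlgHom A C W') (isUnit_loc v (Loc u C))
  have hρ2 : ρ.comp j2 = j2'.comp (locMap v π) := by
    refine loc_hom_ext fun e => ?_
    simp only [AlgHom.comp_apply, locMap_algebraMap, j2, j2', locLift_algebraMap]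
    change ρ (algebraMap (Loc u E) W (algebraMap E (Loc u E) e)) =
      algebraMap (Loc u C) W' (algebraMap C (Loc u C) (π e))
    refine (locMap_algebraMap v (locMap u π) _).trans ?_
    rw [locMap_algebraMap]
  have hf : ρ.comp (j1.comp ψu) = ρ.comp (j2.comp ψv) := by
    ext b
    have e1 : ρ (j1 (ψu b)) = algebraMap (Loc u C) W' (algebraMap C (Loc u C) (g b)) := by
      rw [← hψu]
      exact locMap_algebraMap v (locMap u π) (ψu b)
    have e2 : ρ (j2 (ψv b)) = algebraMap (Loc u C) W' (algebraMap C (Loc u C) (g b)) := by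
      have := DFunLike.congr_fun hρ2 (ψv b)
      simp only [AlgHom.comp_apply] at this
      rw [this, hψv]
      simp only [j2', locLift_algebraMap]
      rfl
    simp only [AlgHom.comp_apply]
    rw [e1, e2]
  have hf' : j1.comp ψu = j2.comp ψv := algHom_eq_of_unramified u ρ hρ huW hf
  have hglue : ∀ b : B, ∃ e : E, algebraMap E (Loc u E) e = ψu b := fun b => by
    obtain ⟨e, he, -⟩ := exists_glue hE (ψu b) (ψv b) (DFunLike.congr_fun hf' b)
    exact ⟨e, he⟩
  let J : E →ₐ[A] Loc u E := IsScalarTower.toAlgHom A E (Loc u E)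
  have hJ : Function.Injective J := algebraMap_loc_injective hE.reg
  let φ : B →ₐ[A] E := (AlgEquiv.ofInjective J hJ).symm.toAlgHom.comp
    (ψu.codRestrict J.range (fun b => hglue b))
  have hφ : ∀ b, algebraMap E (Loc u E) (φ b) = ψu b := by
    intro b
    have : AlgEquiv.ofInjective J hJ (φ b) = ψu.codRestrict J.range (fun b => hglue b) b :=
      (AlgEquiv.ofInjective J hJ).apply_symm_apply _
    exact congrArg Subtype.val this
  refine ⟨φ, ?_⟩
  ext b
  apply algebraMap_loc_injective hC
  rw [← hψu, ← hφ, locMap_algebraMap]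
  rfl

end

end Groth.Agent.Pi1A.Purity
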