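import Mathlib.RingTheory.Regular.RegularSequence
import Mathlib.Algebra.Module.FinitePresentation
import Mathlib.RingTheory.Noetherian.Basic
import Mathlib.RingTheory.Localization.Away.Basic
import Mathlib.RingTheory.Ideal.Maps

/-!
# Elementary (fraction free) Koszul/Cech conditions `D1`, `D2`, `D3`

For a finite family `g` of elements of `A` and an `A`-module `M`:
* `D1 g M`: an element killed by the `l`-th powers of all `g i` is zero (`H^0_I(M) = 0`);
* `D2 g M`: compatible fractions `r i / g i ^ l` glue to an element of `M`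
  (`M → Γ(U, M)` surjective, `U = ⋃ D(g i)`);
* `D3 g s M`: the element `s` kills `H^1(U, M)` in Koszul form.
-/

set_option autoImplicit false

open Pointwise

namespace Groth.Agent.Pi1A.LefAlg

universe u v w

section Defs

variable {A : Type u} [CommRing A] {ι : Type w} (g : ι → A) (M : Type v) [AddCommGroup M]
  [Module A M]

/-- an element killed by the `l`-th powers of all `g i` is zero. -/
def D1 : Prop := ∀ (l : ℕ) (x : M), (∀ i, g i ^ l • x = 0) → x = 0

/-- compatible fractions `r i / g i ^ l` glue. -/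
def D2 : Prop := ∀ (l : ℕ) (r : ι → M), (∀ i j, g j ^ l • r i = g i ^ l • r j) →
  ∃ x : M, ∀ i, r i = g i ^ l • x

/-- the element `s` kills one-cocycles. -/
def D3 (s : A) : Prop := ∀ (l : ℕ) (c : ι → ι → M),
  (∀ i j k, g k ^ l • c i j + g i ^ l • c j k = g j ^ l • c i k) →
  ∃ (L : ℕ) (r : ι → M), ∀ i j,
    (g i * g j) ^ L • s • c i j = g j ^ (l + L) • r i - g i ^ (l + L) • r j

end Defs

section Regular

variable {A : Type u} [CommRing A] {ι : Type w} [Finite ι] {g : ι → A} {M : Type v} [AddCommGroup M]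
  [Module A M]

lemma exists_pow_eq_sum [Fintype ι] {a : A} (ha : a ∈ (Ideal.span (Set.range g)).radical) (l : ℕ) :
    ∃ (N : ℕ) (h : ι → A), a ^ N = ∑ i, h i * g i ^ l := by
  have h1 : a ∈ (Ideal.span (Set.range fun i => g i ^ l)).radical := by
    have h2 : Ideal.span (Set.range g) ≤ (Ideal.span (Set.range fun i => g i ^ l)).radical := by
      rw [Ideal.span_le]
      rintro _ ⟨i, rfl⟩
      exact ⟨l, Ideal.subset_span ⟨i, rfl⟩⟩
    exact (Ideal.radical_le_radical_iff.mpr h2) ha
  obtain ⟨N, hN⟩ := h1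
  obtain ⟨h, hh⟩ := (Ideal.mem_span_range_iff_exists_fun).mp hN
  exact ⟨N, h, by rw [← hh]⟩

lemma mem_smul_top_iff {a : A} {x : M} :
    x ∈ (a • ⊤ : Submodule A M) ↔ ∃ y, x = a • y := by
  constructor
  · intro h
    obtain ⟨y, -, rfl⟩ := h
    exact ⟨y, rfl⟩
  · rintro ⟨y, rfl⟩
    exact ⟨y, trivial, rfl⟩

/-- the class in the quotient `M / a M`. -/
lemma mk_eq_zero_iff {a : A} {x : M} :
    (Submodule.Quotient.mk x : QuotSMulTop a M) = 0 ↔ ∃ y, x = a • y := by
  rw [Submodule.Quotient.mk_eq_zero, mem_smul_top_iff]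

theorem D1_of_isSMulRegular {a : A} (ha : a ∈ (Ideal.span (Set.range g)).radical)
    (hr : IsSMulRegular M a) : D1 g M := by
  cases nonempty_fintype ι
  intro l x hx
  obtain ⟨N, h, hN⟩ := exists_pow_eq_sum ha l
  have h1 : a ^ N • x = 0 := by
    rw [hN, Finset.sum_smul]
    refine Finset.sum_eq_zero fun i _ => ?_
    rw [mul_smul, hx i, smul_zero]
  exact (hr.pow N) (by simpa using h1)

theorem D2_of_isSMulRegular {a : A} (ha : a ∈ (Ideal.span (Set.range g)).radical)
    (hr : IsSMulRegular M a) (hq : D1 g (QuotSMulTop a M)) : D2 g M := by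
  cases nonempty_fintype ι
  intro l r hrr
  obtain ⟨N, h, hN⟩ := exists_pow_eq_sum ha l
  -- `y = ∑ h i r i`
  have hy : ∀ j, g j ^ l • (∑ i, h i • r i) = a ^ N • r j := by
    intro j
    rw [hN, Finset.sum_smul, Finset.smul_sum]
    refine Finset.sum_congr rfl fun i _ => ?_
    rw [smul_comm, hrr i j, mul_smul]
  -- divisibility
  have key : ∀ t, t ≤ N → ∃ y', (∑ i, h i • r i) = a ^ t • y' := by
    intro t
    induction t with
    | zero => intro _; exact ⟨_, by rw [pow_zero, one_smul]⟩
    | succ t ih =>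
      intro ht
      obtain ⟨y', hy'⟩ := ih (by omega)
      have h2 : ∀ j, g j ^ l • y' = a ^ (N - t) • r j := by
        intro j
        apply (hr.pow t)
        change a ^ t • g j ^ l • y' = a ^ t • a ^ (N - t) • r j
        rw [smul_comm, ← hy', hy j, smul_smul, ← pow_add]
        congr 2
        omega
      have h3 : (Submodule.Quotient.mk y' : QuotSMulTop a M) = 0 := by
        apply hq l
        intro j
        rw [← Submodule.Quotient.mk_smul, h2 j, mk_eq_zero_iff]
        refine ⟨a ^ (N - t - 1) • r j, ?_⟩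
        rw [smul_smul, ← pow_succ']
        congr 2
        omega
      obtain ⟨y'', hy''⟩ := mk_eq_zero_iff.mp h3
      exact ⟨y'', by rw [hy', hy'', smul_smul, pow_succ]⟩
  obtain ⟨y, hy'⟩ := key N le_rfl
  refine ⟨y, fun j => ?_⟩
  apply (hr.pow N)
  change a ^ N • r j = a ^ N • g j ^ l • y
  rw [← hy j, hy', smul_comm]

theorem D3_of_isSMulRegular {a : A} (ha : a ∈ (Ideal.span (Set.range g)).radical)
    (hr : IsSMulRegular M a) (hq : D2 g (QuotSMulTop a M)) : D3 g M 1 := by
  cases nonempty_fintype ι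
  intro l c hc
  obtain ⟨N, h, hN⟩ := exists_pow_eq_sum ha l
  -- `y i = ∑ k, h k c i k`
  have hy : ∀ i j, g j ^ l • (∑ k, h k • c i k) - g i ^ l • (∑ k, h k • c j k) = a ^ N • c i j := by
    intro i j
    rw [hN, Finset.sum_smul, Finset.smul_sum, Finset.smul_sum, ← Finset.sum_sub_distrib]
    refine Finset.sum_congr rfl fun k _ => ?_
    rw [smul_comm, smul_comm (g i ^ l), ← smul_sub, mul_smul, ← hc i j k, add_sub_cancel_right]
  have key : ∀ t, t ≤ N → ∃ (z : M) (y' : ι → M),
      ∀ i, (∑ k, h k • c i k) = g i ^ l • z + a ^ t • y' i := by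
    intro t
    induction t with
    | zero => intro _; exact ⟨0, fun i => ∑ k, h k • c i k, fun i => by simp⟩
    | succ t ih =>
      intro ht
      obtain ⟨z, y', hy'⟩ := ih (by omega)
      have h2 : ∀ i j, g j ^ l • y' i - g i ^ l • y' j = a ^ (N - t) • c i j := by
        intro i j
        apply (hr.pow t)
        change a ^ t • (g j ^ l • y' i - g i ^ l • y' j) = a ^ t • a ^ (N - t) • c i j
        have h3 := hy i j
        rw [hy' i, hy' j] at h3
        have h4 : a ^ t • a ^ (N - t) • c i j = a ^ N • c i j := by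
          rw [smul_smul, ← pow_add]
          congr 2
          omega
        rw [h4, ← h3]
        module
      obtain ⟨zq, hzq⟩ := hq l (fun i => (Submodule.Quotient.mk (y' i) : QuotSMulTop a M)) (by
        intro i j
        rw [← sub_eq_zero, ← Submodule.Quotient.mk_smul, ← Submodule.Quotient.mk_smul,
          ← Submodule.Quotient.mk_sub, h2 i j, mk_eq_zero_iff]
        refine ⟨a ^ (N - t - 1) • c i j, ?_⟩
        rw [smul_smul, ← pow_succ']
        congr 2
        omega)
      obtain ⟨z', rfl⟩ := Submodule.Quotient.mk_surjective _ zq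
      have h5 : ∀ i, ∃ y'', y' i = g i ^ l • z' + a • y'' := by
        intro i
        have := hzq i
        rw [← Submodule.Quotient.mk_smul, ← sub_eq_zero, ← Submodule.Quotient.mk_sub,
          mk_eq_zero_iff] at this
        obtain ⟨y'', h''⟩ := this
        exact ⟨y'', by rw [← h'']; abel⟩
      choose y'' hy'' using h5
      refine ⟨z + a ^ t • z', y'', fun i => ?_⟩
      rw [hy' i, hy'' i, pow_succ]
      module
  obtain ⟨z, y', hy'⟩ := key N le_rfl
  refine ⟨0, y', fun i j => ?_⟩
  rw [pow_zero, one_smul, one_smul, add_zero]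
  apply (hr.pow N)
  change a ^ N • c i j = a ^ N • (g j ^ l • y' i - g i ^ l • y' j)
  rw [← hy i j, hy' i, hy' j]
  module

end Regular

end Groth.Agent.Pi1A.LefAlg
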