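import Groth.Agent.Pi1A.LefAlg
import Groth.Prelude.Def_CAlg

/-!
# Depth at least two or three implies the Koszul conditions `D1`, `D2`, `D3`
-/

set_option autoImplicit false

namespace Groth.Agent.Pi1A.LefDepth

universe u v w

open Groth.Agent.Pi1A.LefAlg RingTheory.Sequence

lemma exists_isWeaklyRegular {A : Type u} [CommRing A] [IsLocalRing A] {n : ℕ}
    (h : ((n + 1 : ℕ) : ℕ∞) ≤ LocCoh.depth A A) :
    ∃ rs : List A, IsWeaklyRegular A rs ∧ (∀ r ∈ rs, r ∈ IsLocalRing.maximalIdeal A) ∧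
      n + 1 ≤ rs.length := by
  unfold LocCoh.depth LocCoh.idealDepth at h
  rw [if_neg] at h
  · have h1 : (n : ℕ∞) < ⨆ (rs : List A) (_ : IsWeaklyRegular A rs ∧
        ∀ r ∈ rs, r ∈ IsLocalRing.maximalIdeal A), (rs.length : ℕ∞) :=
      lt_of_lt_of_le (by exact_mod_cast Nat.lt_succ_self n) h
    rw [lt_iSup_iff] at h1
    obtain ⟨rs, hrs⟩ := h1
    rw [lt_iSup_iff] at hrs
    obtain ⟨⟨h2, h3⟩, h4⟩ := hrs
    exact ⟨rs, h2, h3, by exact_mod_cast h4⟩
  · intro h2
    rw [Ideal.smul_eq_mul, Ideal.mul_top] at h2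
    exact (IsLocalRing.maximalIdeal.isMaximal A).ne_top h2

section

variable {A : Type u} [CommRing A] [IsLocalRing A] {ι : Type w} [Finite ι] {g : ι → A}

/-- Depth at least two: `A = Γ(U, O)` in Koszul form. -/
theorem D1_D2 (hg : IsLocalRing.maximalIdeal A ≤ (Ideal.span (Set.range g)).radical)
    (h : (2 : ℕ∞) ≤ LocCoh.depth A A) : D1 g A ∧ D2 g A := by
  obtain ⟨rs, h1, h2, h3⟩ := exists_isWeaklyRegular (n := 1) (by exact_mod_cast h)
  match rs, h1, h2, h3 with
  | a :: b :: rs, h1, h2, h3 =>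
    rw [isWeaklyRegular_cons_iff, isWeaklyRegular_cons_iff] at h1
    have ha := hg (h2 a (by simp))
    have hb := hg (h2 b (by simp))
    exact ⟨D1_of_isSMulRegular ha h1.1,
      D2_of_isSMulRegular ha h1.1 (D1_of_isSMulRegular hb h1.2.1)⟩

/-- Depth at least three: `H^1(U, O) = 0` in Koszul form. -/
theorem D3_one (hg : IsLocalRing.maximalIdeal A ≤ (Ideal.span (Set.range g)).radical)
    (h : (3 : ℕ∞) ≤ LocCoh.depth A A) : D3 g A 1 := by
  obtain ⟨rs, h1, h2, h3⟩ := exists_isWeaklyRegular (n := 2) (by exact_mod_cast h)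
  match rs, h1, h2, h3 with
  | a :: b :: c :: rs, h1, h2, h3 =>
    rw [isWeaklyRegular_cons_iff, isWeaklyRegular_cons_iff, isWeaklyRegular_cons_iff] at h1
    have ha := hg (h2 a (by simp))
    have hb := hg (h2 b (by simp))
    have hc := hg (h2 c (by simp))
    exact D3_of_isSMulRegular ha h1.1 (D2_of_isSMulRegular hb h1.2.1
      (D1_of_isSMulRegular hc h1.2.2.1))

end

end Groth.Agent.Pi1A.LefDepth
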