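import Groth.Agent.Pi1A.LefFac
import Groth.Agent.Hensel.LocalSplit
import Mathlib.RingTheory.Henselian

/-!
# Lifting idempotents from `V(f)` in the punctured spectrum (algebraic core of Stacks 0BLJ)
-/

set_option autoImplicit false

namespace Groth.Agent.Pi1A.LefIdem

universe u v w

open Groth.Agent.Pi1A.LefAlg Groth.Agent.Pi1A.LefFac

/-- Idempotents modulo `f` lift in a finite algebra over a henselian local ring. -/
theorem exists_idem_of_henselianLocal {A B : Type u} [CommRing A] [HenselianLocalRing A]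
    [CommRing B] [Algebra A B] [Module.Finite A B] {f : A} (hf : f ∈ IsLocalRing.maximalIdeal A)
    {b c : B} (h : b - b ^ 2 = f • c) :
    ∃ e : B, IsIdempotentElem e ∧ ∃ d, e - b = f • d := by
  classical
  have := Groth.Agent.Hensel.LocalSplit.finite_maximalSpectrum A B
  have := Fintype.ofFinite (MaximalSpectrum B)
  obtain ⟨e, he, heq, hne⟩ :=
    Groth.Agent.Hensel.LocalSplit.exists_completeOrthogonalIdempotents A B
  let S : Finset (MaximalSpectrum B) := Finset.univ.filter fun q => b ∉ q.asIdeal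
  let E : B := ∑ q ∈ S, e q
  have hE : IsIdempotentElem E := he.toOrthogonalIdempotents.isIdempotentElem_sum
  have hfq : ∀ q : MaximalSpectrum B, algebraMap A B f ∈ q.asIdeal := by
    intro q
    have := q.isMaximal
    have h1 := Groth.Agent.Hensel.LocalSplit.comap_eq_maximalIdeal (R := A) q.asIdeal
    have h2 : f ∈ q.asIdeal.under A := by rw [← h1.over]; exact hf
    exact h2
  have h1E : 1 - E = ∑ q ∈ Sᶜ, e q := by
    rw [← he.complete, ← Finset.sum_add_sum_compl S, add_sub_cancel_left]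
  have hmem : ∀ q : MaximalSpectrum B, E - b ∈ q.asIdeal := by
    intro q
    have := q.isMaximal.isPrime
    by_cases hb : b ∈ q.asIdeal
    · refine q.asIdeal.sub_mem ?_ hb
      refine Ideal.sum_mem _ fun q' hq' => hne q' q ?_
      rintro rfl
      exact (Finset.mem_filter.mp hq').2 hb
    · have h1b : 1 - b ∈ q.asIdeal := by
        have h3 : b * (1 - b) ∈ q.asIdeal := by
          have : b * (1 - b) = algebraMap A B f * c := by
            rw [← Algebra.smul_def, ← h]; ring
          rw [this]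
          exact Ideal.mul_mem_right _ _ (hfq q)
        exact (this.mem_or_mem h3).resolve_left hb
      have h1e : 1 - E ∈ q.asIdeal := by
        rw [h1E]
        refine Ideal.sum_mem _ fun q' hq' => hne q' q ?_
        rintro rfl
        rw [Finset.mem_compl, Finset.mem_filter] at hq'
        exact hq' ⟨Finset.mem_univ _, hb⟩
      have : E - b = (1 - b) - (1 - E) := by ring
      rw [this]
      exact q.asIdeal.sub_mem h1b h1e
  have hu : IsUnit ((E - b) ^ 2 - 1) := by
    by_contra hn
    obtain ⟨q, hq, hle⟩ := exists_max_ideal_of_mem_nonunits hn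
    have h4 := hmem ⟨q, hq⟩
    have h5 : (1 : B) = (E - b) * (E - b) - ((E - b) ^ 2 - 1) := by ring
    exact hq.ne_top ((Ideal.eq_top_iff_one _).mpr (h5 ▸ q.sub_mem (q.mul_mem_left _ h4) hle))
  obtain ⟨u, hu⟩ := hu
  refine ⟨E, hE, c * (1 + b - 3 * E) * ↑u⁻¹, ?_⟩
  have hE' : E * E = E := hE
  rw [Algebra.smul_def] at h ⊢
  have h6 : (E - b) * u = algebraMap A B f * (c * (1 + b - 3 * E)) := by
    rw [hu]
    linear_combination (E - 3 * b + 1 : B) * hE' + (1 + b - 3 * E) * h
  calc E - b = (E - b) * u * ↑u⁻¹ := by rw [mul_assoc, Units.mul_inv, mul_one]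
    _ = _ := by rw [h6]; ring

section Main

variable {A B : Type u} [CommRing A] [IsNoetherianRing A] [HenselianLocalRing A]
    [CommRing B] [Algebra A B] [Module.Finite A B] {ι : Type w} [Finite ι] {g : ι → A}

/-- **Algebraic core of Stacks 0BLJ.** -/
theorem exists_idempotent (hB1 : D1 g B) (hB2 : D2 g B) {f : A}
    (hf : f ∈ IsLocalRing.maximalIdeal A) {N : ℕ} (hB3 : D3 g B (f ^ N)) (J₁ J₂ : Ideal B)
    (hJ : ∀ i, algebraMap A B (g i) ∈ (J₁ ⊔ J₂).radical)
    (hJ' : J₁ * J₂ ≤ (Ideal.span {algebraMap A B f}).radical) :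
    ∃ e : B, IsIdempotentElem e ∧ ∀ q : Ideal B, q.IsPrime → algebraMap A B f ∈ q →
      (∃ i, algebraMap A B (g i) ∉ q) → (J₁ ≤ q → e ∈ q) ∧ (J₂ ≤ q → 1 - e ∈ q) := by
  have hNB : IsNoetherianRing B := IsNoetherianRing.of_finite A B
  have hNM : IsNoetherian A B := isNoetherian_of_isNoetherianRing_of_finite A B
  obtain ⟨n₀, htor⟩ := exists_torsion_bound (M := B) f
  let n := 2 * n₀ + N + 1
  obtain ⟨k, hk⟩ := Ideal.exists_pow_le_of_le_radical_of_fg hJ' (IsNoetherian.noetherian _)
  -- exponent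
  let m := (k + 1) * n
  have hm0 : m ≠ 0 := by positivity
  have h1 : J₁ ^ m * J₂ ^ m ≤ Ideal.span {algebraMap A B f ^ n} := by
    rw [← mul_pow, pow_mul, ← Ideal.span_singleton_pow]
    refine Ideal.pow_right_mono ?_ n
    rw [pow_succ]
    exact (Ideal.mul_le_left).trans hk
  have h2 : ∀ i, ∃ l, algebraMap A B (g i) ^ l ∈ J₁ ^ m ⊔ J₂ ^ m := by
    intro i
    have h3 : (J₁ ^ m ⊔ J₂ ^ m).radical = (J₁ ⊔ J₂).radical := by
      rw [Ideal.radical_sup, Ideal.radical_pow _ hm0, Ideal.radical_pow _ hm0,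
        ← Ideal.radical_sup]
    have h4 := hJ i
    rw [← h3] at h4
    exact h4
  choose l' hl' using h2
  cases nonempty_fintype ι
  let l := Finset.univ.sup l'
  have h5 : ∀ i, algebraMap A B (g i ^ l) ∈ J₁ ^ m ⊔ J₂ ^ m := by
    intro i
    obtain ⟨t, ht⟩ := Nat.exists_eq_add_of_le (Finset.le_sup (f := l') (Finset.mem_univ i))
    change l = l' i + t at ht
    rw [ht, pow_add, map_mul, map_pow]
    exact Ideal.mul_mem_right _ _ (hl' i)
  have h6 : ∀ i, ∃ x ∈ J₁ ^ m, ∃ y ∈ J₂ ^ m, x + y = algebraMap A B (g i ^ l) := fun i =>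
    Submodule.mem_sup.mp (h5 i)
  choose x hx y hy hxy using h6
  have hd : ∀ i j, ∃ d, x i * y j = f ^ (2 * n₀ + N + 1) • d := by
    intro i j
    obtain ⟨d, hd⟩ := Ideal.mem_span_singleton'.mp (h1 (Ideal.mul_mem_mul (hx i) (hy j)))
    exact ⟨d, by rw [Algebra.smul_def, map_pow, ← hd, mul_comm]⟩
  obtain ⟨b, c, hbc, L, r, hr⟩ := exists_approx hB1 hB2 hB3 htor 1 l x y hxy hd
  rw [pow_one] at hbc
  obtain ⟨e, he, d, hed⟩ := exists_idem_of_henselianLocal hf hbc
  refine ⟨e, he, ?_⟩
  rintro q hq hfq ⟨i, hi⟩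
  have hri := hr i
  rw [pow_one, Algebra.smul_def, Algebra.smul_def, Algebra.smul_def, map_pow, map_pow] at hri
  rw [Algebra.smul_def] at hed
  have hgi : algebraMap A B (g i) ^ (l + L) ∉ q := fun h => hi (hq.mem_of_pow_mem _ h)
  constructor
  · intro hJq
    have hxq : x i ∈ q := hJq (Ideal.pow_le_self hm0 (hx i))
    have h7 : algebraMap A B (g i) ^ (l + L) * b ∈ q := by
      have : algebraMap A B (g i) ^ (l + L) * b =
        algebraMap A B (g i) ^ L * x i - algebraMap A B f * r i := by rw [hri]; ring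
      rw [this]
      exact q.sub_mem (q.mul_mem_left _ hxq) (q.mul_mem_right _ hfq)
    have h8 : b ∈ q := (hq.mem_or_mem h7).resolve_left hgi
    have : e = b + algebraMap A B f * d := by rw [← hed]; ring
    rw [this]
    exact q.add_mem h8 (q.mul_mem_right _ hfq)
  · intro hJq
    have hyq : y i ∈ q := hJq (Ideal.pow_le_self hm0 (hy i))
    have h7 : algebraMap A B (g i) ^ (l + L) * (1 - b) ∈ q := by
      have h9 := hxy i
      rw [map_pow] at h9
      have : algebraMap A B (g i) ^ (l + L) * (1 - b) =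
        algebraMap A B (g i) ^ L * y i + algebraMap A B f * r i := by
        linear_combination (- algebraMap A B (g i) ^ L) * h9 + hri
      rw [this]
      exact q.add_mem (q.mul_mem_left _ hyq) (q.mul_mem_right _ hfq)
    have h8 : 1 - b ∈ q := (hq.mem_or_mem h7).resolve_left hgi
    have : 1 - e = (1 - b) - algebraMap A B f * d := by rw [← hed]; ring
    rw [this]
    exact q.sub_mem h8 (q.mul_mem_right _ hfq)

end Main

end Groth.Agent.Pi1A.LefIdem
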