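import Groth.Agent.Pi1A.LefSch
import Groth.Agent.Pi1A.LefIdem
import Groth.Agent.Pi1A.LefDepth
import Groth.Agent.Pi1A.ClopenCrit
import Mathlib.RingTheory.Spectrum.Prime.RingHom

/-!
# Lifting clopen subsets from `V(f)` (Stacks 0BLJ)
-/

set_option autoImplicit false

universe u

open CategoryTheory CategoryTheory.Limits AlgebraicGeometry TopologicalSpace Opposite

namespace Groth.Agent.Pi1A.LefClopen

open Groth.Agent.Pi1A.LefAlg Groth.Agent.Pi1A.LefFac Groth.Agent.Pi1A.LefFin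
open Groth.Agent.Pi1A.LefSch Groth.Agent.Pi1A.LefIdem Groth.Agent.Pi1A.LefDepth

section Top

variable {V : Scheme.{u}}

lemma mem_basicOpen_iff (b : Γ(V, ⊤)) (v : V) :
    v ∈ V.basicOpen b ↔ b ∉ (V.toSpecΓ v).asIdeal := by
  rw [← Scheme.toSpecΓ_preimage_basicOpen]
  rfl

/-- the affine basic opens of `V` are full basic opens of `Spec Γ(V, ⊤)`. -/
lemma exists_toSpecΓ_eq [CompactSpace V] [QuasiSeparatedSpace V] (s : Γ(V, ⊤))
    (hs : IsAffineOpen (V.basicOpen s)) (q : Spec Γ(V, ⊤)) (hq : s ∉ q.asIdeal) :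
    ∃ v : V, V.toSpecΓ v = q := by
  have := isLocalization_basicOpen_of_qcqs isCompact_univ isQuasiSeparated_univ s
  have h1 := PrimeSpectrum.localization_away_comap_range Γ(V, V.basicOpen s) s
  have hq' : q ∈ Set.range (PrimeSpectrum.comap (algebraMap Γ(V, ⊤) Γ(V, V.basicOpen s))) := by
    rw [h1]; exact hq
  obtain ⟨y, hy⟩ := hq'
  refine ⟨hs.fromSpec (show ↥(Spec Γ(V, V.basicOpen s)) from y), ?_⟩
  have h2 := congrArg (fun (F : Spec Γ(V, V.basicOpen s) ⟶ Spec Γ(V, ⊤)) =>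
    F (show ↥(Spec Γ(V, V.basicOpen s)) from y)) hs.fromSpec_toSpecΓ
  exact h2.trans hy

lemma compactSpace_opens {R : CommRingCat.{u}} [IsNoetherianRing R] (U : (Spec R).Opens) :
    CompactSpace U :=
  isCompact_iff_compactSpace.mp (NoetherianSpace.isCompact _)

variable {R : CommRingCat.{u}} {U : (Spec R).Opens} (π : V ⟶ U)

lemma isQuasiAffine [IsNoetherianRing R] [IsAffineHom π] : V.IsQuasiAffine := by
  have := compactSpace_opens U
  have : (U : Scheme.{u}).IsQuasiAffine := Scheme.IsQuasiAffine.of_isImmersion U.ι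
  exact Scheme.IsQuasiAffine.of_isAffineHom π

lemma isAffineOpen_basicOpen [IsAffineHom π] {a : R} (ha : D a ≤ U) :
    IsAffineOpen (V.basicOpen (phi (π ≫ U.ι) a)) := by
  have : V.basicOpen (phi (π ≫ U.ι) a) = π ⁻¹ᵁ (U.ι ⁻¹ᵁ D a) := basicOpen_phi _ _
  rw [this]
  exact (isAffineOpen_preimage_D ha).preimage π

end Top

section Alg

variable {R : CommRingCat.{u}} {V : Scheme.{u}} {U : (Spec R).Opens} (π : V ⟶ U)

/-- the properties of `B = Γ(V, O)` as an `R`-module, for `V` finite flat over `U`. -/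
theorem module_facts [IsNoetherianRing R] [IsFinite π] [Flat π] [Algebra R Γ(V, ⊤)]
    (halg : ∀ a, algebraMap R Γ(V, ⊤) a = phi (π ≫ U.ι) a) {ι : Type u} [Finite ι] (g : ι → R)
    (hU : ⨆ i, D (g i) = U) (hR1 : D1 g R) (hR2 : D2 g R) :
    Module.Finite R Γ(V, ⊤) ∧ D1 g Γ(V, ⊤) ∧ D2 g Γ(V, ⊤) ∧
      ∀ f : R, D f ≤ U → ∀ s : R, D3 g R s → ∃ N : ℕ, D3 g Γ(V, ⊤) (s * f ^ N) := by
  have := isQuasiAffine π
  have hle : ∀ i, D (g i) ≤ U := fun i => hU ▸ le_iSup (fun i => D (g i)) i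
  have hB1 := D1_sections (π ≫ U.ι) halg g (iSup_basicOpen π g hU)
  have hB2 := D2_sections (π ≫ U.ι) halg g (iSup_basicOpen π g hU)
  have H1 : ∀ i, ∃ M : Submodule R Γ(V, ⊤), M.FG ∧ ∀ b : Γ(V, ⊤), ∃ k : ℕ, g i ^ k • b ∈ M := by
    intro i
    obtain ⟨B', i1, i2, i3, i4, φ, h1, h2, h3⟩ := pkg (π ≫ U.ι) halg (g i)
      (app_finite π (hle i)) (app_flat π (hle i))
    exact exists_fg_submodule φ.toLinearMap (g i) Γ(Spec R, D (g i))
  choose M hMfg hM using H1
  let M' : Submodule R Γ(V, ⊤) := ⨆ i, M i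
  have hfg : M'.FG := Submodule.fg_iSup _ hMfg
  have hM' : ∀ (i : ι) (b : Γ(V, ⊤)), ∃ k : ℕ, g i ^ k • b ∈ M' := by
    intro i b
    obtain ⟨k, hk⟩ := hM i b
    exact ⟨k, le_iSup M i hk⟩
  have : Module.Finite R M' := Module.Finite.iff_fg.mpr hfg
  have hfin : Module.Finite R Γ(V, ⊤) := by
    refine finite_of_factor hR1 hR2 hB1 M' hM' fun i => ?_
    obtain ⟨B', i1, i2, i3, i4, φ, h1, h2, h3⟩ := pkg (π ≫ U.ι) halg (g i)
      (app_finite π (hle i)) (app_flat π (hle i))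
    have := isLocalizedModule_subtype φ.toLinearMap (g i) M' (hM' i)
    exact exists_factor (g i) Γ(Spec R, D (g i)) M' B' (φ.toLinearMap ∘ₗ M'.subtype)
  refine ⟨hfin, hB1, hB2, fun f hf s hs => ?_⟩
  obtain ⟨B', i1, i2, i3, i4, φ, h1, h2, h3⟩ := pkg (π ≫ U.ι) halg f
      (app_finite π hf) (app_flat π hf)
  obtain ⟨n, N, α, β, h⟩ := exists_factor f Γ(Spec R, D f) Γ(V, ⊤) B' φ.toLinearMap
  exact ⟨N, D3_of_factor hs α β h⟩

end Alg

section Main

variable {R : CommRingCat.{u}} {V : Scheme.{u}} {U : (Spec R).Opens} (π : V ⟶ U)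

/-- **Lifting clopen subsets.** -/
theorem exists_isClopen [IsNoetherianRing R] [HenselianLocalRing R]
    (hdepth : (3 : ℕ∞) ≤ LocCoh.depth R R) [IsFinite π] [Flat π]
    (hU : ∀ q : Spec R, q ∈ U ↔ q ≠ IsLocalRing.closedPoint R) (f : R)
    (hf : f ∈ IsLocalRing.maximalIdeal R) (T T' : Set V) (hT : IsClosed T) (hT' : IsClosed T')
    (hd : Disjoint T T') (hu : T ∪ T' = (V.basicOpen (phi (π ≫ U.ι) f) : Set V)ᶜ) :
    ∃ W : Set V, IsClopen W ∧ Disjoint W T ∧ T' ⊆ W := by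
  let m := IsLocalRing.maximalIdeal R
  obtain ⟨S, hS⟩ := (IsNoetherian.noetherian m : m.FG)
  let ι : Type u := ULift.{u} S
  let g : ι → R := fun i => i.down.1
  have hrange : Ideal.span (Set.range g) = m := by
    rw [← hS]
    congr 1
    ext x
    constructor
    · rintro ⟨i, rfl⟩; exact i.down.2
    · intro hx; exact ⟨⟨⟨x, hx⟩⟩, rfl⟩
  have hDle : ∀ a ∈ m, D a ≤ U := by
    intro a ha q hq
    rw [hU]
    rintro rfl
    exact hq ha
  have hgm : ∀ i, g i ∈ m := fun i => hrange ▸ Ideal.subset_span ⟨i, rfl⟩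
  have hcov : ⨆ i, D (g i) = U := by
    apply le_antisymm
    · exact iSup_le fun i => hDle _ (hgm i)
    · intro q hq
      rw [hU] at hq
      by_contra hn
      apply hq
      have h1 : ∀ i, g i ∈ q.asIdeal := by
        intro i
        by_contra hi
        exact hn (Opens.mem_iSup.mpr ⟨i, hi⟩)
      have h2 : m ≤ q.asIdeal := by
        rw [← hrange, Ideal.span_le]
        rintro _ ⟨i, rfl⟩
        exact h1 i
      have h3 : m = q.asIdeal := (IsLocalRing.maximalIdeal.isMaximal R).eq_of_le q.2.ne_top h2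
      exact PrimeSpectrum.ext h3.symm
  let alg : Algebra R Γ(V, ⊤) := (phi (π ≫ U.ι)).toAlgebra
  have halg : ∀ a, algebraMap R Γ(V, ⊤) a = phi (π ≫ U.ι) a := fun _ => rfl
  have hrad : IsLocalRing.maximalIdeal R ≤ (Ideal.span (Set.range g)).radical := by
    rw [hrange]; exact Ideal.le_radical
  have h2le : (2 : ℕ∞) ≤ LocCoh.depth R R := le_trans (by norm_num) hdepth
  obtain ⟨hR1, hR2⟩ := D1_D2 hrad h2le
  have hR3 := D3_one hrad hdepth
  obtain ⟨hfin, hB1, hB2, hB3⟩ := module_facts π halg g hcov hR1 hR2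
  obtain ⟨N, hN⟩ := hB3 f (hDle f hf) 1 hR3
  rw [one_mul] at hN
  have hQA := isQuasiAffine π
  let j : V → PrimeSpectrum Γ(V, ⊤) := fun v => V.toSpecΓ v
  -- the two ideals
  let J₁ : Ideal Γ(V, ⊤) := PrimeSpectrum.vanishingIdeal (j '' T)
  let J₂ : Ideal Γ(V, ⊤) := PrimeSpectrum.vanishingIdeal
    (j '' T' ∪ PrimeSpectrum.zeroLocus (Set.range fun i => phi (π ≫ U.ι) (g i)))
  have hind : Topology.IsInducing j := V.toSpecΓ.isOpenEmbedding.isInducing
  have hjT : ∀ (T : Set V), IsClosed T → ∀ v : V, j v ∈ closure (j '' T) → v ∈ T := by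
    intro T hT v hv
    have := hind.closure_eq_preimage_closure_image T
    rw [hT.closure_eq] at this
    rw [this]
    exact hv
  have hpt : ∀ (q : Ideal Γ(V, ⊤)) (hq : q.IsPrime) (i : ι), phi (π ≫ U.ι) (g i) ∉ q →
      ∃ v : V, j v = (⟨q, hq⟩ : PrimeSpectrum Γ(V, ⊤)) := fun q hq i hi =>
    exists_toSpecΓ_eq _ (isAffineOpen_basicOpen π (hDle _ (hgm i))) ⟨q, hq⟩ hi
  have hJ : ∀ i, algebraMap R Γ(V, ⊤) (g i) ∈ (J₁ ⊔ J₂).radical := by
    intro i
    rw [Ideal.radical_eq_sInf, Ideal.mem_sInf]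
    rintro q ⟨hle, hq⟩
    by_contra hi
    obtain ⟨v, hv⟩ := hpt q hq i hi
    have h1 : j v ∈ closure (j '' T) := by
      rw [← PrimeSpectrum.zeroLocus_vanishingIdeal_eq_closure, hv]
      exact le_sup_left.trans hle
    have h2 : j v ∈ closure (j '' T' ∪ PrimeSpectrum.zeroLocus
        (Set.range fun i => phi (π ≫ U.ι) (g i))) := by
      rw [← PrimeSpectrum.zeroLocus_vanishingIdeal_eq_closure, hv]
      exact le_sup_right.trans hle
    rw [closure_union, (PrimeSpectrum.isClosed_zeroLocus _).closure_eq] at h2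
    rcases h2 with h2 | h2
    · exact Set.disjoint_left.mp hd (hjT T hT v h1) (hjT T' hT' v h2)
    · rw [hv] at h2
      exact hi (h2 ⟨i, rfl⟩)
  have hJ₁ : ∀ v ∈ T, J₁ ≤ (j v).asIdeal := fun v hv b hb =>
    (PrimeSpectrum.mem_vanishingIdeal _ _).mp hb _ ⟨v, hv, rfl⟩
  have hJ₂ : ∀ v ∈ T', J₂ ≤ (j v).asIdeal := fun v hv b hb =>
    (PrimeSpectrum.mem_vanishingIdeal _ _).mp hb _ (Or.inl ⟨v, hv, rfl⟩)
  have hfv : ∀ v : V, v ∈ T ∪ T' ↔ algebraMap R Γ(V, ⊤) f ∈ (j v).asIdeal := by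
    intro v
    rw [hu, Set.mem_compl_iff, SetLike.mem_coe, mem_basicOpen_iff, not_not]
    rfl
  have hJ' : J₁ * J₂ ≤ (Ideal.span {algebraMap R Γ(V, ⊤) f}).radical := by
    rw [Ideal.radical_eq_sInf]
    refine le_sInf ?_
    rintro q ⟨hle, hq⟩
    have hfq : algebraMap R Γ(V, ⊤) f ∈ q := hle (Ideal.subset_span rfl)
    by_cases hall : ∀ i, phi (π ≫ U.ι) (g i) ∈ q
    · refine Ideal.mul_le_right.trans fun b hb => ?_
      refine (PrimeSpectrum.mem_vanishingIdeal _ _).mp hb ⟨q, hq⟩ (Or.inr ?_)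
      rintro _ ⟨i, rfl⟩
      exact hall i
    · push Not at hall
      obtain ⟨i, hi⟩ := hall
      obtain ⟨v, hv⟩ := hpt q hq i hi
      have h1 : v ∈ T ∪ T' := by
        rw [hfv, hv]; exact hfq
      have h2 : (j v).asIdeal = q := by rw [hv]
      rcases h1 with h1 | h1
      · exact Ideal.mul_le_left.trans (h2 ▸ hJ₁ v h1)
      · exact Ideal.mul_le_right.trans (h2 ▸ hJ₂ v h1)
  obtain ⟨e, he, hE⟩ := exists_idempotent hB1 hB2 hf hN J₁ J₂ hJ hJ'
  have hgv : ∀ v : V, ∃ i, algebraMap R Γ(V, ⊤) (g i) ∉ (j v).asIdeal := by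
    intro v
    have h1 : v ∈ (⊤ : V.Opens) := trivial
    rw [← iSup_basicOpen π g hcov, Opens.mem_iSup] at h1
    obtain ⟨i, hi⟩ := h1
    exact ⟨i, (mem_basicOpen_iff _ _).mp hi⟩
  refine ⟨V.basicOpen e, ⟨?_, (V.basicOpen e).isOpen⟩, ?_, ?_⟩
  · rw [← isOpen_compl_iff]
    have h1 : ((V.basicOpen e : Set V))ᶜ = V.basicOpen (1 - e) := by
      ext v
      rw [Set.mem_compl_iff, SetLike.mem_coe, SetLike.mem_coe, mem_basicOpen_iff, mem_basicOpen_iff,
        not_not]
      have hp := (V.toSpecΓ v).2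
      constructor
      · intro h2 h3
        exact hp.ne_top ((Ideal.eq_top_iff_one _).mpr (by simpa using Ideal.add_mem _ h2 h3))
      · intro h2
        refine (hp.mem_or_mem (x := e) (y := 1 - e) ?_).resolve_right h2
        rw [mul_sub, mul_one, he.eq, sub_self]
        exact Ideal.zero_mem _
    rw [h1]
    exact (V.basicOpen (1 - e)).isOpen
  · rw [Set.disjoint_left]
    intro v hv hvT
    rw [SetLike.mem_coe, mem_basicOpen_iff] at hv
    exact hv ((hE _ (j v).2 ((hfv v).mp (Or.inl hvT)) (hgv v)).1 (hJ₁ v hvT))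
  · intro v hv
    rw [SetLike.mem_coe, mem_basicOpen_iff]
    intro h2
    have h3 := (hE _ (j v).2 ((hfv v).mp (Or.inr hv)) (hgv v)).2 (hJ₂ v hv)
    exact (j v).2.ne_top ((Ideal.eq_top_iff_one _).mpr (by simpa using Ideal.add_mem _ h2 h3))

/-- the generators of the maximal ideal, as a family. -/
lemma exists_gens [IsNoetherianRing R] [IsLocalRing R]
    (hU : ∀ q : Spec R, q ∈ U ↔ q ≠ IsLocalRing.closedPoint R) :
    ∃ (ι : Type u) (_ : Finite ι) (g : ι → R),
      Ideal.span (Set.range g) = IsLocalRing.maximalIdeal R ∧ ⨆ i, D (g i) = U := by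
  let m := IsLocalRing.maximalIdeal R
  obtain ⟨S, hS⟩ := (IsNoetherian.noetherian m : m.FG)
  let ι : Type u := ULift.{u} S
  let g : ι → R := fun i => i.down.1
  have hrange : Ideal.span (Set.range g) = m := by
    rw [← hS]
    congr 1
    ext x
    constructor
    · rintro ⟨i, rfl⟩; exact i.down.2
    · intro hx; exact ⟨⟨⟨x, hx⟩⟩, rfl⟩
  refine ⟨ι, inferInstance, g, hrange, ?_⟩
  have hDle : ∀ a ∈ m, D a ≤ U := by
    intro a ha q hq
    rw [hU]
    rintro rfl
    exact hq ha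
  have hgm : ∀ i, g i ∈ m := fun i => hrange ▸ Ideal.subset_span ⟨i, rfl⟩
  apply le_antisymm
  · exact iSup_le fun i => hDle _ (hgm i)
  · intro q hq
    rw [hU] at hq
    by_contra hn
    apply hq
    have h1 : ∀ i, g i ∈ q.asIdeal := by
      intro i
      by_contra hi
      exact hn (Opens.mem_iSup.mpr ⟨i, hi⟩)
    have h2 : m ≤ q.asIdeal := by
      rw [← hrange, Ideal.span_le]
      rintro _ ⟨i, rfl⟩
      exact h1 i
    have h3 : m = q.asIdeal := (IsLocalRing.maximalIdeal.isMaximal R).eq_of_le q.2.ne_top h2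
    exact PrimeSpectrum.ext h3.symm

/-- A clopen subset of `V` on which `f` is invertible is empty. -/
theorem eq_empty_of_isClopen [IsNoetherianRing R] [IsLocalRing R]
    (hdepth : (2 : ℕ∞) ≤ LocCoh.depth R R) [IsFinite π] [Flat π]
    (hU : ∀ q : Spec R, q ∈ U ↔ q ≠ IsLocalRing.closedPoint R) (f : R)
    (hf : f ∈ IsLocalRing.maximalIdeal R) (W : Set V) (hW : IsClopen W)
    (hWf : W ⊆ V.basicOpen (phi (π ≫ U.ι) f)) : W = ∅ := by
  obtain ⟨ι, hι, g, hrange, hcov⟩ := exists_gens hU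
  have hrad : IsLocalRing.maximalIdeal R ≤ (Ideal.span (Set.range g)).radical := by
    rw [hrange]; exact Ideal.le_radical
  obtain ⟨hR1, hR2⟩ := D1_D2 hrad hdepth
  let alg : Algebra R Γ(V, ⊤) := (phi (π ≫ U.ι)).toAlgebra
  have halg : ∀ a, algebraMap R Γ(V, ⊤) a = phi (π ≫ U.ι) a := fun _ => rfl
  obtain ⟨hfin, -⟩ := module_facts π halg g hcov hR1 hR2
  have hQA := isQuasiAffine π
  let W₁ : V.Opens := ⟨W, hW.isOpen⟩
  let W₂ : V.Opens := ⟨Wᶜ, hW.compl.isOpen⟩
  have hsup : W₁ ⊔ W₂ = ⊤ := by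
    ext x
    simp [W₁, W₂]
  have hinf : W₁ ⊓ W₂ = ⊥ := by
    ext x
    simp [W₁, W₂]
  obtain ⟨e, he⟩ := Groth.Agent.Sga2.IdemClopen.exists_isInd hsup hinf
  have hee : IsIdempotentElem e := he.idem hsup
  have hbe : V.basicOpen e = W₁ := he.basicOpen_eq hsup
  have hloc := isLocalization_basicOpen_of_qcqs isCompact_univ isQuasiSeparated_univ e
  have hunit : IsUnit (algebraMap Γ(V, ⊤) Γ(V, V.basicOpen e) (phi (π ≫ U.ι) f)) := by
    change IsUnit (V.presheaf.map (homOfLE (le_top : V.basicOpen e ≤ ⊤)).op (phi (π ≫ U.ι) f))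
    have hle : V.basicOpen e ≤ V.basicOpen (phi (π ≫ U.ι) f) := by
      rw [hbe]; exact hWf
    have h1 : IsUnit (V.presheaf.map (homOfLE (le_top : V.basicOpen (phi (π ≫ U.ι) f) ≤ ⊤)).op
      (phi (π ≫ U.ι) f)) :=
      RingedSpace.isUnit_res_basicOpen V.toLocallyRingedSpace.toRingedSpace _
    have h2 := h1.map (V.presheaf.map (homOfLE hle).op).hom
    change IsUnit (V.presheaf.map (homOfLE hle).op (V.presheaf.map (homOfLE _).op _)) at h2
    rw [← ConcreteCategory.comp_apply, ← Functor.map_comp, ← op_comp] at h2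
    exact h2
  obtain ⟨⟨y, y', hy1, hy2⟩, hy⟩ := hunit
  obtain ⟨⟨b, ⟨_, n, rfl⟩⟩, hb⟩ := IsLocalization.surj (Submonoid.powers e) y'
  have h3 : algebraMap Γ(V, ⊤) Γ(V, V.basicOpen e) (e ^ n) =
      algebraMap Γ(V, ⊤) Γ(V, V.basicOpen e) (b * phi (π ≫ U.ι) f) := by
    rw [map_mul, ← hb, ← hy]
    change _ = y' * _ * y
    rw [mul_right_comm, hy2, one_mul]
  obtain ⟨⟨_, k, rfl⟩, hk⟩ := (IsLocalization.eq_iff_exists (Submonoid.powers e) _).mp h3
  change e ^ k * e ^ n = e ^ k * (b * phi (π ≫ U.ι) f) at hk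
  have he1 : e = algebraMap R Γ(V, ⊤) f * (e * e ^ k * b) := by
    have h4 : e * (e ^ k * e ^ n) = e := by
      rw [← pow_add, ← pow_succ', hee.pow_succ_eq]
    rw [hk] at h4
    rw [halg]
    linear_combination -h4
  have he0 : e = 0 := by
    refine Groth.Agent.Hensel.LocalSplit.eq_zero_of_mem_jacobson hee fun q hq => ?_
    have h1 := Groth.Agent.Hensel.LocalSplit.comap_eq_maximalIdeal (R := R) q
    have h2 : f ∈ q.under R := by rw [← h1.over]; exact hf
    rw [he1]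
    exact Ideal.mul_mem_right _ _ h2
  have h5 : W₁ = ⊥ := by rw [← hbe, he0, Scheme.basicOpen_zero]
  have h6 : (W₁ : Set V) = ∅ := by rw [h5]; rfl
  exact h6

end Main

section Final

/-- **Stacks 0BLJ.** -/
theorem restrict_fullyFaithful (A : Type u) [CommRing A] [IsNoetherianRing A] [HenselianLocalRing A]
    (hA : (3 : ℕ∞) ≤ LocCoh.depth A A) (f : A) (hf : f ∈ IsLocalRing.maximalIdeal A) :
    (FEt.restrict (pullback.fst (FEt.puncturedSpec A).ι
      (Spec.map (CommRingCat.ofHom (Ideal.Quotient.mk (Ideal.span {f})))))).Full ∧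
    (FEt.restrict (pullback.fst (FEt.puncturedSpec A).ι
      (Spec.map (CommRingCat.ofHom (Ideal.Quotient.mk (Ideal.span {f})))))).Faithful := by
  have hU : ∀ q : Spec (CommRingCat.of A), q ∈ FEt.puncturedSpec A ↔
      q ≠ IsLocalRing.closedPoint A := fun q => Iff.rfl
  let i := pullback.fst (FEt.puncturedSpec A).ι
      (Spec.map (CommRingCat.ofHom (Ideal.Quotient.mk (Ideal.span {f}))))
  have hclosed : IsClosedImmersion i := by
    have : IsClosedImmersion (Spec.map (CommRingCat.ofHom (Ideal.Quotient.mk (Ideal.span {f})))) :=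
      IsClosedImmersion.spec_of_surjective _ Ideal.Quotient.mk_surjective
    infer_instance
  have hrange : ∀ T : FEt.Cat (FEt.puncturedSpec A : Scheme.{u}),
      Set.range (pullback.fst T.hom i) =
        (T.left.basicOpen (phi (R := CommRingCat.of A) (T.hom ≫ (FEt.puncturedSpec A).ι) f) :
          Set T.left)ᶜ := by
    intro T
    rw [Scheme.Pullback.range_fst, Scheme.Pullback.range_fst]
    ext v
    rw [basicOpen_phi]
    have h1 : Set.range (Spec.map (CommRingCat.ofHom (Ideal.Quotient.mk (Ideal.span {f})))) =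
        PrimeSpectrum.zeroLocus {f} := by
      have h2 := range_comap_of_surjective (A ⧸ Ideal.span {f})
        (Ideal.Quotient.mk (Ideal.span {f})) Ideal.Quotient.mk_surjective
      rw [Ideal.mk_ker, PrimeSpectrum.zeroLocus_span] at h2
      exact h2
    rw [h1]
    change {f} ⊆ ((((FEt.puncturedSpec A).ι (T.hom v))).asIdeal : Set A) ↔
      ¬ (f ∉ (((FEt.puncturedSpec A).ι (T.hom v))).asIdeal)
    rw [Set.singleton_subset_iff, not_not]
    rfl
  refine Groth.Agent.Pi1A.ClopenCrit.restrict_fullyFaithful_of_isClopen _ ?_ ?_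
  · intro T W hW hW0
    refine eq_empty_of_isClopen (R := CommRingCat.of A) T.hom (le_trans (by norm_num) hA) hU f hf W
      hW ?_
    intro v hv
    by_contra hv'
    have : v ∈ Set.range (pullback.fst T.hom i) := by rw [hrange T]; exact hv'
    obtain ⟨y, rfl⟩ := this
    have h1 : y ∈ pullback.fst T.hom i ⁻¹' W := hv
    rw [hW0] at h1
    exact h1
  · intro T W₀ hW₀
    have hcl := (pullback.fst T.hom i).isClosedEmbedding
    obtain ⟨W, hW, hW1, hW2⟩ := exists_isClopen (R := CommRingCat.of A) T.hom hA hU f hf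
      (pullback.fst T.hom i '' W₀ᶜ) (pullback.fst T.hom i '' W₀)
      (hcl.isClosedMap _ hW₀.compl.isClosed) (hcl.isClosedMap _ hW₀.isClosed)
      ((Set.disjoint_image_iff hcl.injective).mpr disjoint_compl_left) (by
        rw [← Set.image_union, Set.compl_union_self, Set.image_univ, hrange T]
        rfl)
    refine ⟨W, hW, ?_⟩
    ext y
    constructor
    · intro hy
      by_contra hy'
      exact Set.disjoint_left.mp hW1 hy ⟨y, hy', rfl⟩
    · intro hy
      exact hW2 ⟨y, hy, rfl⟩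

end Final

end Groth.Agent.Pi1A.LefClopen
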