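import Groth.Agent.Pi1A.LefAlg
import Mathlib.RingTheory.TensorProduct.IsBaseChangePi
import Mathlib.RingTheory.Localization.Module
import Mathlib.RingTheory.Finiteness.Cardinality
import Mathlib.Algebra.Module.Projective
import Mathlib.Tactic.LinearCombination
import Mathlib.Tactic.Ring

set_option autoImplicit false

namespace Groth.Agent.Pi1A.LefFac

universe u v w

open Submodule

/-- A finite module over a Noetherian ring which is projective after inverting `f`
admits maps `M → A^s → M` whose composition is multiplication by a power of `f`. -/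
theorem exists_factor {A : Type u} [CommRing A] [IsNoetherianRing A] (f : A)
    (Af : Type*) [CommRing Af] [Algebra A Af] [IsLocalization.Away f Af]
    (M : Type*) [AddCommGroup M] [Module A M] [Module.Finite A M]
    (M' : Type*) [AddCommGroup M'] [Module A M'] [Module Af M'] [IsScalarTower A Af M']
    (i : M →ₗ[A] M') [IsLocalizedModule (Submonoid.powers f) i] [Module.Projective Af M'] :
    ∃ (s N : ℕ) (α : M →ₗ[A] (Fin s → A)) (β : (Fin s → A) →ₗ[A] M),
      ∀ x, β (α x) = f ^ N • x := by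
  obtain ⟨s, β, hβ⟩ := Module.Finite.exists_fin' A M
  let v : Fin s → M' := fun j => i (β (Pi.single j 1))
  let β' : (Fin s → Af) →ₗ[Af] M' := Fintype.linearCombination Af v
  have hspan : span A (Set.range fun j => β (Pi.single j 1)) = ⊤ := by
    have h1 : (Set.range fun j => β (Pi.single j 1)) = β '' Set.range (Pi.basisFun A (Fin s)) := by
      rw [← Set.range_comp]
      congr 1
      ext j
      simp
    rw [h1, span_image, (Pi.basisFun A (Fin s)).span_eq, Submodule.map_top,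
      LinearMap.range_eq_top.mpr hβ]
  have hβ' : Function.Surjective β' := by
    have h2 := span_eq_top_of_isLocalizedModule Af (Submonoid.powers f) i hspan
    rw [← Set.range_comp] at h2
    rw [← LinearMap.range_eq_top, Fintype.range_linearCombination]
    exact h2
  obtain ⟨σ, hσ⟩ := Module.projective_lifting_property β' LinearMap.id hβ'
  let p : (Fin s → A) →ₗ[A] (Fin s → Af) := .pi fun j => Algebra.linearMap A Af ∘ₗ .proj j
  have hp : IsLocalizedModule (Submonoid.powers f) p := by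
    exact IsLocalizedModule.pi (Submonoid.powers f) (fun _ => Algebra.linearMap A Af)
  have hcomp : ∀ y : Fin s → A, β' (p y) = i (β y) := by
    intro y
    have : y = ∑ j, y j • (Pi.single j (1 : A) : Fin s → A) := by
      ext k
      simp [Finset.sum_apply, Pi.single_apply]
    conv_rhs => rw [this, map_sum, map_sum]
    simp only [β', Fintype.linearCombination_apply]
    refine Finset.sum_congr rfl fun j _ => ?_
    rw [map_smul, map_smul]
    simp [p, v]
  have : Module.FinitePresentation A M := Module.finitePresentation_of_finite A M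
  obtain ⟨h, t, ht⟩ := Module.FinitePresentation.exists_lift_of_isLocalizedModule
    (Submonoid.powers f) p ((σ.restrictScalars A) ∘ₗ i)
  obtain ⟨_, n, rfl⟩ := t
  have heq : i ∘ₗ (β ∘ₗ h) = i ∘ₗ (f ^ n • LinearMap.id) := by
    ext x
    have h3 : p (h x) = f ^ n • σ (i x) := LinearMap.congr_fun ht x
    have h4 : β' (σ (i x)) = i x := LinearMap.congr_fun hσ (i x)
    simp only [LinearMap.comp_apply, LinearMap.smul_apply, LinearMap.id_apply, map_smul]
    rw [← hcomp, h3, ← algebraMap_smul Af (f ^ n), map_smul, h4, algebraMap_smul]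
  obtain ⟨⟨_, m, rfl⟩, ht'⟩ := Module.Finite.exists_smul_of_comp_eq_of_isLocalizedModule
    (Submonoid.powers f) i _ _ heq
  refine ⟨s, m + n, f ^ m • h, β, fun x => ?_⟩
  have := LinearMap.congr_fun ht' x
  change f ^ m • β (h x) = f ^ m • f ^ n • x at this
  rw [LinearMap.smul_apply, map_smul, this, smul_smul, pow_add]

section Extend

open Groth.Agent.Pi1A.LefAlg

variable {A : Type u} [CommRing A] {ι : Type w} {g : ι → A}
  {B : Type v} [AddCommGroup B] [Module A B] {N : Type*} [AddCommGroup N] [Module A N]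
  (M : Submodule A B) (φ : M →ₗ[A] N)

/-- the graph of the extension. -/
def Rel (g : ι → A) (b : B) (x : N) : Prop :=
  ∃ k : ℕ, ∀ i, ∃ h : g i ^ k • b ∈ M, φ ⟨g i ^ k • b, h⟩ = g i ^ k • x

variable {M φ}

lemma rel_of_le {b : B} {x : N} {k k' : ℕ} (hk : k ≤ k')
    (h : ∀ i, ∃ h : g i ^ k • b ∈ M, φ ⟨g i ^ k • b, h⟩ = g i ^ k • x) :
    ∀ i, ∃ h : g i ^ k' • b ∈ M, φ ⟨g i ^ k' • b, h⟩ = g i ^ k' • x := by
  intro i
  obtain ⟨h1, h2⟩ := h i
  obtain ⟨m, rfl⟩ := Nat.exists_eq_add_of_le hk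
  have e : g i ^ (k + m) • b = g i ^ m • g i ^ k • b := by
    rw [smul_smul, ← pow_add, add_comm]
  refine ⟨e ▸ M.smul_mem _ h1, ?_⟩
  have : (⟨g i ^ (k + m) • b, e ▸ M.smul_mem _ h1⟩ : M) = g i ^ m • ⟨g i ^ k • b, h1⟩ :=
    Subtype.ext e
  rw [this, map_smul, h2, smul_smul, ← pow_add, add_comm]

lemma rel_unique (hN : D1 g N) {b : B} {x y : N} (hx : Rel M φ g b x) (hy : Rel M φ g b y) :
    x = y := by
  obtain ⟨k, hk⟩ := hx
  obtain ⟨k', hk'⟩ := hy
  rw [← sub_eq_zero]
  apply hN (max k k')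
  intro i
  obtain ⟨h1, h2⟩ := rel_of_le (le_max_left k k') hk i
  obtain ⟨h3, h4⟩ := rel_of_le (le_max_right k k') hk' i
  rw [smul_sub, ← h2, ← h4, sub_self]

lemma rel_add {b b' : B} {x x' : N} (hx : Rel M φ g b x) (hy : Rel M φ g b' x') :
    Rel M φ g (b + b') (x + x') := by
  obtain ⟨k, hk⟩ := hx
  obtain ⟨k', hk'⟩ := hy
  refine ⟨max k k', fun i => ?_⟩
  obtain ⟨h1, h2⟩ := rel_of_le (le_max_left k k') hk i
  obtain ⟨h3, h4⟩ := rel_of_le (le_max_right k k') hk' i
  have e : g i ^ (max k k') • (b + b') = g i ^ (max k k') • b + g i ^ (max k k') • b' :=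
    smul_add _ _ _
  refine ⟨e ▸ M.add_mem h1 h3, ?_⟩
  have : (⟨g i ^ (max k k') • (b + b'), e ▸ M.add_mem h1 h3⟩ : M) =
    ⟨g i ^ (max k k') • b, h1⟩ + ⟨g i ^ (max k k') • b', h3⟩ := Subtype.ext e
  rw [this, map_add, h2, h4, smul_add]

lemma rel_smul {b : B} {x : N} (a : A) (hx : Rel M φ g b x) : Rel M φ g (a • b) (a • x) := by
  obtain ⟨k, hk⟩ := hx
  refine ⟨k, fun i => ?_⟩
  obtain ⟨h1, h2⟩ := hk i
  have e : g i ^ k • (a • b) = a • g i ^ k • b := smul_comm _ _ _
  refine ⟨e ▸ M.smul_mem _ h1, ?_⟩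
  have : (⟨g i ^ k • (a • b), e ▸ M.smul_mem _ h1⟩ : M) = a • ⟨g i ^ k • b, h1⟩ :=
    Subtype.ext e
  rw [this, map_smul, h2, smul_comm]

lemma exists_unif [Finite ι] (hM : ∀ (i : ι) (b : B), ∃ k : ℕ, g i ^ k • b ∈ M) (b : B) :
    ∃ k : ℕ, ∀ i, g i ^ k • b ∈ M := by
  cases nonempty_fintype ι
  choose k hk using fun i => hM i b
  refine ⟨Finset.univ.sup k, fun i => ?_⟩
  obtain ⟨m, hm⟩ := Nat.exists_eq_add_of_le (Finset.le_sup (f := k) (Finset.mem_univ i))
  rw [hm, add_comm, pow_add, mul_smul]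
  exact M.smul_mem _ (hk i)

lemma exists_rel [Finite ι] (hN2 : D2 g N) (hM : ∀ (i : ι) (b : B), ∃ k : ℕ, g i ^ k • b ∈ M) (b : B) :
    ∃ x, Rel M φ g b x := by
  obtain ⟨k, hk⟩ := exists_unif hM b
  obtain ⟨x, hx⟩ := hN2 k (fun i => φ ⟨g i ^ k • b, hk i⟩) (by
    intro i j
    rw [← map_smul, ← map_smul]
    congr 1
    exact Subtype.ext (smul_comm _ _ _))
  exact ⟨x, k, fun i => ⟨hk i, hx i⟩⟩

/-- linear maps into a module with `H^0 = H^1 = 0` extend from a submodule with the same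
localizations. -/
theorem exists_extend [Finite ι] (hN1 : D1 g N) (hN2 : D2 g N)
    (hM : ∀ (i : ι) (b : B), ∃ k : ℕ, g i ^ k • b ∈ M) (φ : M →ₗ[A] N) :
    ∃ ψ : B →ₗ[A] N, ∀ m : M, ψ m = φ m := by
  choose F hF using exists_rel (φ := φ) hN2 hM
  refine ⟨⟨⟨F, fun b b' => rel_unique hN1 (hF _) (rel_add (hF b) (hF b'))⟩,
    fun a b => rel_unique hN1 (hF _) (rel_smul a (hF b))⟩, fun m => ?_⟩
  refine rel_unique hN1 (hF _) ⟨0, fun i => ?_⟩
  have e : g i ^ 0 • (m : B) = m := by rw [pow_zero, one_smul]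
  have e' : g i ^ 0 • (m : B) ∈ M := by rw [e]; exact m.2
  refine ⟨e', ?_⟩
  have : (⟨g i ^ 0 • (m : B), e'⟩ : M) = m := Subtype.ext e
  rw [this, pow_zero, one_smul]

/-- **Finiteness of global sections.** -/
theorem finite_of_factor [Finite ι] [IsNoetherianRing A] (hA1 : D1 g A) (hA2 : D2 g A) (hB1 : D1 g B)
    (M : Submodule A B) (hM : ∀ (i : ι) (b : B), ∃ k : ℕ, g i ^ k • b ∈ M)
    (hfac : ∀ i, ∃ (s N : ℕ) (α : M →ₗ[A] (Fin s → A)) (β : (Fin s → A) →ₗ[A] M),
      ∀ x, β (α x) = g i ^ N • x) : Module.Finite A B := by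
  choose s N α β h using hfac
  have hpi1 : ∀ n : ℕ, D1 g (Fin n → A) := fun n l x hx => by
    ext t
    exact hA1 l (x t) fun i => congrFun (hx i) t
  have hpi2 : ∀ n : ℕ, D2 g (Fin n → A) := fun n l r hr => by
    choose x hx using fun t : Fin n => hA2 l (fun i => r i t) (fun i j => congrFun (hr i j) t)
    exact ⟨x, fun i => funext fun t => hx t i⟩
  choose ψ hψ using fun i => exists_extend (hpi1 (s i)) (hpi2 (s i)) hM (α i)
  let Ψ : B →ₗ[A] (∀ i, Fin (s i) → A) := LinearMap.pi ψ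
  have hinj : Function.Injective Ψ := by
    rw [injective_iff_map_eq_zero]
    intro b hb
    obtain ⟨k, hk⟩ := exists_unif hM b
    cases nonempty_fintype ι
    apply hB1 (Finset.univ.sup N + k)
    intro i
    have h1 : ψ i (g i ^ k • b) = 0 := by
      rw [map_smul]
      have : ψ i b = 0 := congrFun hb i
      rw [this, smul_zero]
    have h2 : g i ^ N i • (⟨g i ^ k • b, hk i⟩ : M) = 0 := by
      rw [← h i, ← hψ i]
      have : ((⟨g i ^ k • b, hk i⟩ : M) : B) = g i ^ k • b := rfl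
      rw [this, h1, map_zero]
    have h3 : g i ^ N i • g i ^ k • b = 0 := congrArg Subtype.val h2
    obtain ⟨m, hm⟩ := Nat.exists_eq_add_of_le (Finset.le_sup (f := N) (Finset.mem_univ i))
    rw [hm, add_assoc, add_comm m k, ← add_assoc, pow_add, mul_comm, mul_smul, pow_add, mul_smul,
      h3, smul_zero]
  exact Module.Finite.of_injective Ψ hinj

/-- If `s` kills the one-cocycles of `A` and `M` is a finite module with maps
`M → A^n → M` of composite `f ^ N`, then `s * f ^ N` kills the one-cocycles of `M`. -/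
theorem D3_of_factor {s : A} (hA : D3 g A s) {B : Type v} [AddCommGroup B] [Module A B]
    {n N : ℕ} {f : A} (α : B →ₗ[A] (Fin n → A)) (β : (Fin n → A) →ₗ[A] B)
    (h : ∀ x, β (α x) = f ^ N • x) : D3 g B (s * f ^ N) := by
  intro l c hc
  have h1 : ∀ t : Fin n, ∃ (L : ℕ) (r : ι → A), ∀ i j,
      (g i * g j) ^ L • s • α (c i j) t = g j ^ (l + L) • r i - g i ^ (l + L) • r j := by
    intro t
    apply hA l (fun i j => α (c i j) t)
    intro i j k
    have := congrFun (congrArg α (hc i j k)) t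
    simpa using this
  choose L r hr using h1
  let K := Finset.univ.sup L
  have h2 : ∀ t i j, (g i * g j) ^ K • s • α (c i j) t =
      g j ^ (l + K) • (g i ^ (K - L t) • r t i) - g i ^ (l + K) • (g j ^ (K - L t) • r t j) := by
    intro t i j
    have hLt : L t ≤ K := Finset.le_sup (f := L) (Finset.mem_univ t)
    obtain ⟨m, hm⟩ := Nat.exists_eq_add_of_le hLt
    have h3 : K - L t = m := by omega
    rw [h3, hm]
    have h4 := congrArg ((g i * g j) ^ m • ·) (hr t i j)
    simp only [smul_eq_mul] at h4 ⊢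
    calc (g i * g j) ^ (L t + m) * (s * α (c i j) t)
        = (g i * g j) ^ m * ((g i * g j) ^ L t * (s * α (c i j) t)) := by ring
      _ = (g i * g j) ^ m * (g j ^ (l + L t) * r t i - g i ^ (l + L t) * r t j) := h4
      _ = _ := by ring
  refine ⟨K, fun i => β (fun t => g i ^ (K - L t) • r t i), fun i j => ?_⟩
  rw [← map_smul, ← map_smul, ← map_sub]
  have h5 : (s * f ^ N) • c i j = β (s • α (c i j)) := by
    rw [map_smul, h, mul_smul]
  rw [h5, ← map_smul]
  congr 1
  ext t
  exact h2 t i j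

end Extend

section Torsion

/-- the `f`-power torsion of a Noetherian module is bounded. -/
theorem exists_torsion_bound {A : Type u} [CommRing A] {M : Type v} [AddCommGroup M] [Module A M]
    [IsNoetherian A M] (f : A) :
    ∃ n₀ : ℕ, ∀ (n : ℕ) (x : M), f ^ n • x = 0 → f ^ n₀ • x = 0 := by
  let F : ℕ →o Submodule A M :=
    ⟨fun n => LinearMap.ker (LinearMap.lsmul A M (f ^ n)), by
      intro m n hmn x hx
      obtain ⟨k, rfl⟩ := Nat.exists_eq_add_of_le hmn
      simp only [LinearMap.mem_ker, LinearMap.lsmul_apply] at hx ⊢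
      rw [add_comm, pow_add, mul_smul, hx, smul_zero]⟩
  obtain ⟨n₀, hn₀⟩ := monotone_stabilizes_iff_noetherian.mpr inferInstance F
  refine ⟨n₀, fun n x hx => ?_⟩
  rcases le_total n n₀ with h | h
  · exact F.monotone h (show x ∈ F n from hx)
  · have : x ∈ F n₀ := by rw [hn₀ n h]; exact hx
    exact this

end Torsion

section Lift

open Groth.Agent.Pi1A.LefAlg

variable {A : Type u} [CommRing A] {ι : Type w} {g : ι → A}
  {B : Type v} [CommRing B] [Algebra A B]

/-- **Mittag-Leffler lifting.** An approximate decomposition `x i + y i = g i ^ l` with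
`x i * y j` highly divisible by `f` is, up to powers of `g i`, given by a global element `b`
which is idempotent modulo a power of `f`. -/
theorem exists_approx (hB1 : D1 g B) (hB2 : D2 g B) {f : A} {N n₀ : ℕ} (hB3 : D3 g B (f ^ N))
    (htor : ∀ (n : ℕ) (x : B), f ^ n • x = 0 → f ^ n₀ • x = 0) (e l : ℕ) (x y : ι → B)
    (hxy : ∀ i, x i + y i = algebraMap A B (g i ^ l))
    (hd : ∀ i j, ∃ d, x i * y j = f ^ (2 * n₀ + N + e) • d) :
    ∃ b c : B, b - b ^ 2 = f ^ e • c ∧ ∃ (L : ℕ) (r : ι → B), ∀ i,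
      g i ^ L • x i = g i ^ (l + L) • b + f ^ e • r i := by
  choose d hd using hd
  have hfd : ∀ i j, g j ^ l • x i - g i ^ l • x j = f ^ (2 * n₀ + N + e) • (d i j - d j i) := by
    intro i j
    rw [smul_sub, ← hd, ← hd, Algebra.smul_def, Algebra.smul_def, ← hxy, ← hxy]
    ring
  -- cocycle
  have hcoc : ∀ i j k, g k ^ l • (f ^ n₀ • (d i j - d j i)) + g i ^ l • (f ^ n₀ • (d j k - d k j))
      = g j ^ l • (f ^ n₀ • (d i k - d k i)) := by
    intro i j k
    have h1 : f ^ (2 * n₀ + N + e) • (g k ^ l • (d i j - d j i) + g i ^ l • (d j k - d k j)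
      - g j ^ l • (d i k - d k i)) = 0 := by
      have h2 : ∀ (a : A) (z : B), f ^ (2 * n₀ + N + e) • a • z =
        a • f ^ (2 * n₀ + N + e) • z := fun a z => smul_comm _ _ _
      rw [smul_sub, smul_add, h2, h2, h2, ← hfd, ← hfd, ← hfd]
      module
    have h3 := htor _ _ h1
    rw [← sub_eq_zero, ← h3]
    module
  obtain ⟨L, r, hr⟩ := hB3 l (fun i j => f ^ n₀ • (d i j - d j i)) hcoc
  -- glue
  obtain ⟨b, hb⟩ := hB2 (l + L) (fun i => g i ^ L • x i - f ^ (n₀ + e) • r i) (by
    intro i j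
    have h1 := hfd i j
    have h2 : (g i * g j) ^ L • f ^ (2 * n₀ + N + e) • (d i j - d j i) =
      f ^ (n₀ + e) • (g j ^ (l + L) • r i - g i ^ (l + L) • r j) := by
      rw [← hr i j]
      simp only [smul_smul]
      congr 1
      ring
    rw [← h1] at h2
    rw [← sub_eq_zero]
    have h3 : g j ^ (l + L) • (g i ^ L • x i - f ^ (n₀ + e) • r i) -
      g i ^ (l + L) • (g j ^ L • x j - f ^ (n₀ + e) • r j) =
      (g i * g j) ^ L • (g j ^ l • x i - g i ^ l • x j) -
      f ^ (n₀ + e) • (g j ^ (l + L) • r i - g i ^ (l + L) • r j) := by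
      simp only [smul_sub, smul_smul]
      have e1 : g j ^ (l + L) * g i ^ L = (g i * g j) ^ L * g j ^ l := by ring
      have e2 : g i ^ (l + L) * g j ^ L = (g i * g j) ^ L * g i ^ l := by ring
      have e3 : g j ^ (l + L) * f ^ (n₀ + e) = f ^ (n₀ + e) * g j ^ (l + L) := by ring
      have e4 : g i ^ (l + L) * f ^ (n₀ + e) = f ^ (n₀ + e) * g i ^ (l + L) := by ring
      rw [e1, e2, e3, e4]
      abel
    rw [h3, h2, sub_self])
  have hb' : ∀ i, g i ^ L • x i = g i ^ (l + L) • b + f ^ (n₀ + e) • r i := fun i => by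
    rw [← hb i]; abel
  -- `b - b^2`
  have hy' : ∀ i, g i ^ L • y i = g i ^ (l + L) • (1 - b) - f ^ (n₀ + e) • r i := fun i => by
    have h1 : y i = algebraMap A B (g i ^ l) - x i := by rw [← hxy i]; ring
    have h2 : g i ^ L • algebraMap A B (g i ^ l) = g i ^ (l + L) • (1 : B) := by
      rw [Algebra.smul_def, ← map_mul, ← pow_add, add_comm L l, Algebra.smul_def, mul_one]
    rw [h1, smul_sub, hb', h2, smul_sub]
    abel
  have hw : ∀ i, ∃ w, g i ^ (2 * (l + L)) • (b - b ^ 2) = f ^ (n₀ + e) • w := by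
    intro i
    have h1 : (g i ^ L • x i) * (g i ^ L • y i) = f ^ (n₀ + e) • (g i ^ (2 * L) •
      f ^ (n₀ + N) • d i i) := by
      rw [smul_mul_smul_comm, hd]
      simp only [smul_smul]
      congr 1
      ring
    rw [hb', hy'] at h1
    simp only [Algebra.smul_def, map_pow] at h1 ⊢
    refine ⟨(algebraMap A B (g i) ^ (2 * L) * (algebraMap A B f ^ (n₀ + N) * d i i)) +
      algebraMap A B (g i) ^ (l + L) * b * r i - r i * algebraMap A B (g i) ^ (l + L) * (1 - b) +
      algebraMap A B f ^ (n₀ + e) * r i ^ 2, ?_⟩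
    linear_combination h1
  choose w hw using hw
  obtain ⟨c, hc⟩ := hB2 (2 * (l + L)) (fun i => f ^ n₀ • w i) (by
    intro i j
    have h1 : f ^ (n₀ + e) • (g j ^ (2 * (l + L)) • w i - g i ^ (2 * (l + L)) • w j) = 0 := by
      have e1 : ∀ (a : A) (z : B), f ^ (n₀ + e) • a • z = a • f ^ (n₀ + e) • z :=
        fun a z => smul_comm _ _ _
      rw [smul_sub, e1, e1, ← hw, ← hw, smul_comm, sub_self]
    have h2 := htor _ _ h1
    rw [← sub_eq_zero, ← h2]
    module)
  refine ⟨b, c, ?_, L, fun i => f ^ n₀ • r i, fun i => ?_⟩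
  · rw [← sub_eq_zero]
    apply hB1 (2 * (l + L))
    intro i
    rw [smul_sub, hw, smul_comm _ (f ^ e), ← hc i, smul_smul, ← pow_add, add_comm e n₀, sub_self]
  · rw [hb' i, smul_smul, ← pow_add, add_comm e n₀]

end Lift

end Groth.Agent.Pi1A.LefFac
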