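import Groth.Agent.Pi1A.LefFac
import Mathlib.RingTheory.Localization.Finiteness

/-!
# Finiteness of `Γ(V, O)` for `V` finite locally free over the punctured spectrum, depth `≥ 2`
-/

set_option autoImplicit false

namespace Groth.Agent.Pi1A.LefFin

universe u v w

open Groth.Agent.Pi1A.LefAlg Groth.Agent.Pi1A.LefFac

section

variable {A : Type u} [CommRing A] {B : Type v} [AddCommGroup B] [Module A B]
  {B' : Type*} [AddCommGroup B'] [Module A B'] (i : B →ₗ[A] B') (f : A)
  [IsLocalizedModule (Submonoid.powers f) i]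

/-- A submodule with the same localization. -/
theorem isLocalizedModule_subtype (M : Submodule A B) (hM : ∀ b : B, ∃ k : ℕ, f ^ k • b ∈ M) :
    IsLocalizedModule (Submonoid.powers f) (i ∘ₗ M.subtype) where
  map_units := IsLocalizedModule.map_units i
  surj y := by
    obtain ⟨⟨b, ⟨_, n, rfl⟩⟩, hb⟩ := IsLocalizedModule.surj (Submonoid.powers f) i y
    obtain ⟨k, hk⟩ := hM b
    refine ⟨(⟨f ^ k • b, hk⟩, ⟨f ^ (k + n), k + n, rfl⟩), ?_⟩
    change f ^ (k + n) • y = i (f ^ k • b)
    change f ^ n • y = i b at hb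
    rw [map_smul, ← hb, smul_smul, pow_add]
  exists_of_eq {x y} h := by
    obtain ⟨c, hc⟩ := IsLocalizedModule.exists_of_eq (S := Submonoid.powers f) (f := i) h
    exact ⟨c, Subtype.ext hc⟩

include i in
/-- A finitely generated submodule of `B` with the same localization, when the localization is
finite. -/
theorem exists_fg_submodule (Af : Type*) [CommRing Af] [Algebra A Af] [IsLocalization.Away f Af]
    [Module Af B'] [IsScalarTower A Af B'] [Module.Finite Af B'] :
    ∃ M : Submodule A B, M.FG ∧ ∀ b : B, ∃ k : ℕ, f ^ k • b ∈ M := by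
  obtain ⟨s, hs⟩ := Module.Finite.fg_top (R := Af) (M := B')
  choose b hb using IsLocalizedModule.surj (Submonoid.powers f) i
  let T : Set B := (fun y => (b y).1) '' (s : Set B')
  have hT : T.Finite := s.finite_toSet.image _
  refine ⟨Submodule.span A T, Submodule.fg_span hT, fun x => ?_⟩
  have h1 : Submodule.span Af (i '' T) = ⊤ := by
    rw [eq_top_iff, ← hs, Submodule.span_le]
    intro y hy
    have h2 : ((b y).2 : A) • y = i (b y).1 := hb y
    have h3 : i (b y).1 ∈ Submodule.span Af (i '' T) :=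
      Submodule.subset_span ⟨_, ⟨y, hy, rfl⟩, rfl⟩
    rw [← h2] at h3
    obtain ⟨u, hu⟩ := IsLocalization.map_units Af (b y).2
    have h4 := Submodule.smul_mem (Submodule.span Af (i '' T)) (↑u⁻¹ : Af) h3
    rw [← algebraMap_smul Af ((b y).2 : A) y, smul_smul, ← hu, Units.inv_mul, one_smul] at h4
    exact h4
  obtain ⟨⟨_, n, rfl⟩, hn⟩ := multiple_mem_span_of_mem_localization_span (Submonoid.powers f) Af
    (i '' T) (i x) (h1 ▸ Submodule.mem_top)
  rw [Submodule.span_image] at hn
  obtain ⟨m, hm, hmx⟩ := hn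
  change i m = f ^ n • i x at hmx
  rw [← map_smul] at hmx
  obtain ⟨⟨_, k, rfl⟩, hk⟩ :=
    IsLocalizedModule.exists_of_eq (S := Submonoid.powers f) (f := i) hmx
  change f ^ k • m = f ^ k • f ^ n • x at hk
  refine ⟨k + n, ?_⟩
  rw [pow_add, mul_smul, ← hk]
  exact Submodule.smul_mem _ _ hm

end

section

variable {A : Type u} [CommRing A] [IsNoetherianRing A] {B : Type v} [AddCommGroup B] [Module A B]
  {ι : Type w} [Finite ι] {g : ι → A}

/-- **Finiteness of global sections**: if `A = Γ(U, O)` and the localizations `B_{g i}` are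
finite projective, and `B` has no nonzero sections supported outside `U`, then `B` is finite. -/
theorem finite_of_localizations (hA1 : D1 g A) (hA2 : D2 g A) (hB1 : D1 g B)
    (A' : ι → Type*) [∀ i, CommRing (A' i)] [∀ i, Algebra A (A' i)]
    [∀ i, IsLocalization.Away (g i) (A' i)]
    (B' : ι → Type*) [∀ i, AddCommGroup (B' i)] [∀ i, Module A (B' i)] [∀ i, Module (A' i) (B' i)]
    [∀ i, IsScalarTower A (A' i) (B' i)] (φ : ∀ i, B →ₗ[A] B' i)
    [∀ i, IsLocalizedModule (Submonoid.powers (g i)) (φ i)]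
    [∀ i, Module.Finite (A' i) (B' i)] [∀ i, Module.Projective (A' i) (B' i)] :
    Module.Finite A B := by
  choose M hMfg hM using fun i => exists_fg_submodule (φ i) (g i) (A' i)
  cases nonempty_fintype ι
  let M' : Submodule A B := ⨆ i, M i
  have hfg : M'.FG := Submodule.fg_iSup _ hMfg
  have hM' : ∀ (i : ι) (b : B), ∃ k : ℕ, g i ^ k • b ∈ M' := by
    intro i b
    obtain ⟨k, hk⟩ := hM i b
    exact ⟨k, le_iSup M i hk⟩
  have : Module.Finite A M' := Module.Finite.iff_fg.mpr hfg
  refine finite_of_factor hA1 hA2 hB1 M' hM' fun i => ?_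
  have := isLocalizedModule_subtype (φ i) (g i) M' (hM' i)
  exact exists_factor (g i) (A' i) M' (B' i) (φ i ∘ₗ M'.subtype)

end

end Groth.Agent.Pi1A.LefFin
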