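import Groth.Prelude.Def_FEt
import Groth.Agent.Pi1A.LefFin
import Groth.Agent.Sga2.IdemClopen
import Mathlib.AlgebraicGeometry.QuasiAffine
import Mathlib.AlgebraicGeometry.Noetherian
import Mathlib.AlgebraicGeometry.Morphisms.Flat

/-!
# Schemes finite flat over an open subscheme of `Spec R` and their ring of global sections
-/

set_option autoImplicit false

universe u

open CategoryTheory CategoryTheory.Limits AlgebraicGeometry TopologicalSpace Opposite

namespace Groth.Agent.Pi1A.LefSch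

open Groth.Agent.Pi1A.LefAlg

/-- basic open of the spectrum. -/
def D {R : CommRingCat.{u}} (a : R) : (Spec R).Opens := PrimeSpectrum.basicOpen a

set_option backward.isDefEq.respectTransparency.types false in
instance isLocalization_D (R : CommRingCat.{u}) (a : R) : IsLocalization.Away a Γ(Spec R, D a) :=
  inferInstanceAs (IsLocalization.Away a
    ((Spec.structureSheaf R).obj.obj (op <| PrimeSpectrum.basicOpen a)))

section Sec

variable {R : CommRingCat.{u}} {V : Scheme.{u}} (p : V ⟶ Spec R)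

/-- the structure map `R → Γ(V, ⊤)`. -/
noncomputable def phi : R →+* Γ(V, ⊤) :=
  ((Scheme.ΓSpecIso R).inv ≫ p.appTop).hom

lemma basicOpen_phi (a : R) :
    V.basicOpen (phi p a) = p ⁻¹ᵁ (D a) := by
  have h1 : phi p a = p.appTop ((Scheme.ΓSpecIso R).inv a) := rfl
  rw [h1, ← Scheme.preimage_basicOpen_top]
  congr 1
  rw [basicOpen_eq_of_affine', D]
  congr 1
  rw [← ConcreteCategory.comp_apply, Iso.inv_hom_id]
  rfl

/-- the sections over the preimage of a basic open are the localization. -/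
lemma isLocalization_preimage [CompactSpace V] [QuasiSeparatedSpace V] (a : R) :
    letI := (V.presheaf.map (homOfLE (le_top :
      p ⁻¹ᵁ (D a) ≤ ⊤)).op).hom.toAlgebra
    IsLocalization.Away (phi p a) Γ(V, p ⁻¹ᵁ (D a)) := by
  have h := isLocalization_basicOpen_of_qcqs isCompact_univ isQuasiSeparated_univ (phi p a)
  have key : ∀ (W : V.Opens) (_ : V.basicOpen (phi p a) = W),
      letI := (V.presheaf.map (homOfLE (le_top : W ≤ ⊤)).op).hom.toAlgebra
      IsLocalization.Away (phi p a) Γ(V, W) := by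
    rintro W rfl
    exact h
  exact key _ (basicOpen_phi p a)

lemma map_phi (W : V.Opens) (a : R) (W₀ : (Spec R).Opens) (hW : W ≤ p ⁻¹ᵁ W₀) :
    V.presheaf.map (homOfLE (le_top : W ≤ ⊤)).op (phi p a) =
      p.appLE W₀ W hW (algebraMap R Γ(Spec R, W₀) a) := by
  have h1 : phi p a = p.appTop ((Scheme.ΓSpecIso R).inv a) := rfl
  rw [h1, IsAffineOpen.algebraMap_Spec_obj]
  change _ = (((Spec R).presheaf.map (homOfLE le_top).op ≫ p.appLE W₀ W hW))
    ((Scheme.ΓSpecIso R).inv a)
  rw [Scheme.Hom.map_appLE]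
  rfl

/-- Sections over the preimage of a basic open, packaged. -/
theorem pkg [IsNoetherianRing R] [CompactSpace V] [QuasiSeparatedSpace V] [Algebra R Γ(V, ⊤)]
    (halg : ∀ a, algebraMap R Γ(V, ⊤) a = phi p a) (a : R)
    (hfin : (p.app (D a)).hom.Finite)
    (hflat : (p.app (D a)).hom.Flat) :
    ∃ (B' : Type u) (_ : CommRing B') (_ : Algebra R B')
      (_ : Algebra Γ(Spec R, D a) B')
      (_ : IsScalarTower R Γ(Spec R, D a) B') (i : Γ(V, ⊤) →ₐ[R] B'),
      IsLocalizedModule (Submonoid.powers a) i.toLinearMap ∧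
      Module.Finite Γ(Spec R, D a) B' ∧
      Module.Projective Γ(Spec R, D a) B' := by
  let A' := Γ(Spec R, D a)
  let B' := Γ(V, p ⁻¹ᵁ (D a))
  let alg1 : Algebra Γ(V, ⊤) B' := (V.presheaf.map (homOfLE (le_top :
      p ⁻¹ᵁ (D a) ≤ ⊤)).op).hom.toAlgebra
  let alg2 : Algebra A' B' := (p.app (D a)).hom.toAlgebra
  let alg3 : Algebra R B' := ((algebraMap Γ(V, ⊤) B').comp (algebraMap R Γ(V, ⊤))).toAlgebra
  have t1 : IsScalarTower R Γ(V, ⊤) B' := IsScalarTower.of_algebraMap_eq fun _ => rfl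
  have t2 : IsScalarTower R A' B' := by
    refine IsScalarTower.of_algebraMap_eq fun x => ?_
    change algebraMap Γ(V, ⊤) B' (algebraMap R Γ(V, ⊤) x) = _
    rw [halg]
    change V.presheaf.map _ (phi p x) = p.app _ _
    rw [map_phi p _ x (D a) le_rfl, Scheme.Hom.app_eq_appLE]
  have hloc : IsLocalization.Away (phi p a) B' := isLocalization_preimage p a
  have hnoeth : IsNoetherianRing A' :=
    IsLocalization.isNoetherianRing (Submonoid.powers a) A' inferInstance
  have hF : Module.Finite A' B' := hfin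
  have hFl : Module.Flat A' B' := hflat
  have hFP : Module.FinitePresentation A' B' := Module.finitePresentation_of_finite A' B'
  refine ⟨B', inferInstance, alg3, alg2, t2, IsScalarTower.toAlgHom R Γ(V, ⊤) B', ?_, hF,
    Module.Flat.projective_of_finitePresentation⟩
  rw [isLocalizedModule_iff_isLocalization]
  have : Algebra.algebraMapSubmonoid Γ(V, ⊤) (Submonoid.powers a) =
      Submonoid.powers (phi p a) := by
    rw [Algebra.algebraMapSubmonoid, Submonoid.map_powers]
    congr 1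
    exact halg a
  rw [this]
  exact hloc

/-- `D1` and `D2` for the global sections, `V` covered by the `g i ≠ 0` loci. -/
theorem D1_sections [Algebra R Γ(V, ⊤)] (halg : ∀ a, algebraMap R Γ(V, ⊤) a = phi p a)
    {ι : Type u} (g : ι → R) (hcov : ⨆ i, V.basicOpen (phi p (g i)) = ⊤) : D1 g Γ(V, ⊤) := by
  intro l x hx
  refine V.sheaf.eq_of_locally_eq' (fun i => V.basicOpen (phi p (g i))) ⊤
    (fun i => homOfLE le_top) hcov.ge x 0 fun i => ?_
  have hu : IsUnit (V.presheaf.map (homOfLE (le_top : V.basicOpen (phi p (g i)) ≤ ⊤)).op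
      (phi p (g i))) :=
    RingedSpace.isUnit_res_basicOpen V.toLocallyRingedSpace.toRingedSpace _
  have h1 := congrArg (V.presheaf.map (homOfLE (le_top : V.basicOpen (phi p (g i)) ≤ ⊤)).op) (hx i)
  rw [Algebra.smul_def, map_pow, halg, map_mul, map_pow, map_zero] at h1
  change V.presheaf.map _ x = V.presheaf.map _ 0
  rw [map_zero]
  exact (hu.pow l).mul_right_eq_zero.mp h1

theorem D2_sections [Algebra R Γ(V, ⊤)] (halg : ∀ a, algebraMap R Γ(V, ⊤) a = phi p a)
    {ι : Type u} (g : ι → R) (hcov : ⨆ i, V.basicOpen (phi p (g i)) = ⊤) : D2 g Γ(V, ⊤) := by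
  intro l r hr
  let Ui : ι → V.Opens := fun i => V.basicOpen (phi p (g i))
  have hu : ∀ (i : ι) (W : V.Opens) (hW : W ≤ Ui i),
      IsUnit (V.presheaf.map (homOfLE (le_top : W ≤ ⊤)).op (phi p (g i))) := by
    intro i W hW
    have h1 : IsUnit (V.presheaf.map (homOfLE (le_top : Ui i ≤ ⊤)).op (phi p (g i))) :=
      RingedSpace.isUnit_res_basicOpen V.toLocallyRingedSpace.toRingedSpace _
    have h2 := h1.map (V.presheaf.map (homOfLE hW).op).hom
    change IsUnit (V.presheaf.map (homOfLE hW).op (V.presheaf.map (homOfLE _).op _)) at h2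
    rw [← ConcreteCategory.comp_apply, ← Functor.map_comp, ← op_comp] at h2
    exact h2
  -- local sections
  have hs : ∀ i, ∃ s : Γ(V, Ui i),
      V.presheaf.map (homOfLE (le_top : Ui i ≤ ⊤)).op (phi p (g i)) ^ l * s =
        V.presheaf.map (homOfLE (le_top : Ui i ≤ ⊤)).op (r i) := by
    intro i
    obtain ⟨u, hu'⟩ := (hu i (Ui i) le_rfl).pow l
    exact ⟨↑u⁻¹ * V.presheaf.map (homOfLE (le_top : Ui i ≤ ⊤)).op (r i), by
      rw [← hu', ← mul_assoc, Units.mul_inv, one_mul]⟩
  choose s hs using hs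
  have hres : ∀ (i : ι) (W : V.Opens) (hW : W ≤ Ui i),
      V.presheaf.map (homOfLE (le_top : W ≤ ⊤)).op (phi p (g i)) ^ l *
        V.presheaf.map (homOfLE hW).op (s i) = V.presheaf.map (homOfLE (le_top : W ≤ ⊤)).op (r i) := by
    intro i W hW
    have h1 := congrArg (V.presheaf.map (homOfLE hW).op) (hs i)
    rw [map_mul, map_pow, ← ConcreteCategory.comp_apply, ← ConcreteCategory.comp_apply,
      ← Functor.map_comp, ← op_comp] at h1
    exact h1
  have hcompat : TopCat.Presheaf.IsCompatible V.sheaf.1 Ui s := by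
    intro i j
    change V.presheaf.map (homOfLE (inf_le_left : Ui i ⊓ Ui j ≤ Ui i)).op (s i) =
      V.presheaf.map (homOfLE (inf_le_right : Ui i ⊓ Ui j ≤ Ui j)).op (s j)
    have hi := hres i (Ui i ⊓ Ui j) inf_le_left
    have hj := hres j (Ui i ⊓ Ui j) inf_le_right
    have h1 := congrArg (V.presheaf.map (homOfLE (le_top : Ui i ⊓ Ui j ≤ ⊤)).op) (hr i j)
    rw [Algebra.smul_def, Algebra.smul_def, map_pow, map_pow, halg, halg, map_mul, map_mul, map_pow,
      map_pow, ← hi, ← hj] at h1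
    have h2 := ((hu i _ (inf_le_left : Ui i ⊓ Ui j ≤ Ui i)).pow l).mul
      ((hu j _ (inf_le_right : Ui i ⊓ Ui j ≤ Ui j)).pow l)
    refine h2.mul_left_cancel ?_
    linear_combination h1
  have hex : ∃ b : Γ(V, ⊤), ∀ i, V.presheaf.map (homOfLE (le_top : Ui i ≤ ⊤)).op b = s i := by
    obtain ⟨b, hb, -⟩ :=
      V.sheaf.existsUnique_gluing' Ui ⊤ (fun i => homOfLE le_top) hcov.ge s hcompat
    exact ⟨b, hb⟩
  obtain ⟨b, hb⟩ := hex
  refine ⟨b, fun i => ?_⟩
  refine V.sheaf.eq_of_locally_eq' Ui ⊤ (fun i => homOfLE le_top) hcov.ge _ _ fun j => ?_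
  change V.presheaf.map (homOfLE (le_top : Ui j ≤ ⊤)).op (r i) =
    V.presheaf.map (homOfLE (le_top : Ui j ≤ ⊤)).op (g i ^ l • b)
  have hbj : V.presheaf.map (homOfLE (le_top : Ui j ≤ ⊤)).op b = s j := hb j
  refine ((hu j (Ui j) le_rfl).pow l).mul_left_cancel ?_
  have h1 := congrArg (V.presheaf.map (homOfLE (le_top : Ui j ≤ ⊤)).op) (hr i j)
  rw [Algebra.smul_def, Algebra.smul_def, map_pow, map_pow, halg, halg, map_mul, map_mul, map_pow,
      map_pow, ← hs j] at h1
  rw [h1, Algebra.smul_def, map_pow, halg, map_mul, map_pow, hbj]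
  ring

end Sec

section Over

variable {R : CommRingCat.{u}} {V : Scheme.{u}} {U : (Spec R).Opens} (π : V ⟶ U)

lemma isAffineOpen_D (a : R) : IsAffineOpen (D a) := by
  unfold D
  exact IsAffineOpen.Spec_basicOpen a

lemma app_eq (a : R) :
    ((π ≫ U.ι).app (D a)).hom = (π.app (U.ι ⁻¹ᵁ D a)).hom.comp (U.ι.app (D a)).hom :=
  congrArg CommRingCat.Hom.hom (Scheme.Hom.comp_app π U.ι (D a))

lemma isIso_ι_app {a : R} (ha : D a ≤ U) : IsIso (U.ι.app (D a)) :=
  U.ι.isIso_app _ (by simpa using ha)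

lemma isAffineOpen_preimage_D {a : R} (ha : D a ≤ U) : IsAffineOpen (U.ι ⁻¹ᵁ D a) :=
  (isAffineOpen_D a).preimage_of_isOpenImmersion U.ι (by simpa using ha)

theorem app_finite [IsFinite π] {a : R} (ha : D a ≤ U) : ((π ≫ U.ι).app (D a)).hom.Finite := by
  rw [app_eq]
  have := isIso_ι_app ha
  refine (π.finite_app _ (isAffineOpen_preimage_D ha)).comp ?_
  exact RingHom.Finite.of_surjective _ (ConcreteCategory.bijective_of_isIso (U.ι.app (D a))).2

theorem app_flat [IsAffineHom π] [Flat π] {a : R} (ha : D a ≤ U) :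
    ((π ≫ U.ι).app (D a)).hom.Flat := by
  rw [app_eq]
  have := isIso_ι_app ha
  refine RingHom.Flat.comp ?_ ?_
  · exact RingHom.Flat.of_bijective (ConcreteCategory.bijective_of_isIso (U.ι.app (D a)))
  · have h := HasRingHomProperty.appLE @Flat π inferInstance
      ⟨U.ι ⁻¹ᵁ D a, isAffineOpen_preimage_D ha⟩
      ⟨π ⁻¹ᵁ (U.ι ⁻¹ᵁ D a), (isAffineOpen_preimage_D ha).preimage π⟩ le_rfl
    rw [Scheme.Hom.app_eq_appLE]
    exact h

lemma iSup_basicOpen {ι : Type u} (g : ι → R) (hU : ⨆ i, D (g i) = U) :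
    ⨆ i, V.basicOpen (phi (π ≫ U.ι) (g i)) = ⊤ := by
  have h1 : ∀ i, V.basicOpen (phi (π ≫ U.ι) (g i)) = (π ≫ U.ι) ⁻¹ᵁ (D (g i)) := fun i =>
    basicOpen_phi _ _
  simp_rw [h1]
  rw [← Scheme.Hom.preimage_iSup, hU, Scheme.Hom.comp_preimage]
  simp

end Over

end Groth.Agent.Pi1A.LefSch
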