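import Groth.Agent.Pi1A.LinkExch
import Mathlib.RingTheory.Regular.IsSMulRegular
import Mathlib.Data.List.OfFn
import Mathlib.Data.List.GetD

/-!
# Linkage by regular sequences

* `conn` : any two regular sequences of the same length inside an ideal `I` of a Noetherian local
  ring are connected by one-element exchanges inside `I`.
* `linkage` : `h`, `f` regular sequences of length `n` in a Noetherian local ring, `(f) ⊆ (h)`; then
  there is a matrix `M` with `f = M h` and `(f) : (h) = (f) + (det M)`.
-/

set_option autoImplicit false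
universe u

namespace Groth.Agent.Pi1A.LinkConn

open Ideal Matrix RingTheory.Sequence

variable {R : Type u} [CommRing R]

theorem isSMulRegular_iff (J : Ideal R) (a : R) :
    IsSMulRegular (R ⧸ (J • ⊤ : Submodule R R)) a ↔ ∀ x, x * a ∈ J → x ∈ J := by
  rw [isSMulRegular_quotient_iff_mem_of_smul_mem]
  simp only [smul_eq_mul, Ideal.mul_top, mul_comm a]

/-- common element avoiding the associated primes of two ideals. -/
theorem exists_common [IsNoetherianRing R] (I J₁ J₂ : Ideal R) (a b : R) (haI : a ∈ I) (hbI : b ∈ I)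
    (ha : ∀ x, x * a ∈ J₁ → x ∈ J₁) (hb : ∀ x, x * b ∈ J₂ → x ∈ J₂) :
    ∃ l ∈ I, (∀ x, x * l ∈ J₁ → x ∈ J₁) ∧ (∀ x, x * l ∈ J₂ → x ∈ J₂) := by
  rw [← isSMulRegular_iff] at ha hb
  have hfin : (associatedPrimes R (R ⧸ (J₁ • ⊤ : Submodule R R)) ∪
      associatedPrimes R (R ⧸ (J₂ • ⊤ : Submodule R R))).Finite :=
    (associatedPrimes.finite R _).union (associatedPrimes.finite R _)
  have key : ¬ ((I : Set R) ⊆ ⋃ P ∈ (associatedPrimes R (R ⧸ (J₁ • ⊤ : Submodule R R)) ∪
      associatedPrimes R (R ⧸ (J₂ • ⊤ : Submodule R R))), ((P : Ideal R) : Set R)) := by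
    rw [Ideal.subset_union_prime_finite hfin ⊤ ⊤ (fun P hP _ _ => by
      rcases hP with hP | hP
      · exact hP.isPrime
      · exact hP.isPrime)]
    rintro ⟨P, hP, hIP⟩
    rcases hP with hP | hP
    · have : a ∈ ⋃ P ∈ associatedPrimes R (R ⧸ (J₁ • ⊤ : Submodule R R)), (P : Set R) :=
        Set.mem_biUnion hP (hIP haI)
      rw [biUnion_associatedPrimes_eq_compl_regular] at this
      exact this ha
    · have : b ∈ ⋃ P ∈ associatedPrimes R (R ⧸ (J₂ • ⊤ : Submodule R R)), (P : Set R) :=
        Set.mem_biUnion hP (hIP hbI)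
      rw [biUnion_associatedPrimes_eq_compl_regular] at this
      exact this hb
  obtain ⟨l, hlI, hl⟩ := Set.not_subset.mp key
  refine ⟨l, hlI, ?_, ?_⟩
  · rw [← isSMulRegular_iff]
    by_contra hcon
    apply hl
    have : l ∈ ⋃ P ∈ associatedPrimes R (R ⧸ (J₁ • ⊤ : Submodule R R)), (P : Set R) := by
      rw [biUnion_associatedPrimes_eq_compl_regular]
      exact hcon
    rw [Set.biUnion_union]
    exact Or.inl this
  · rw [← isSMulRegular_iff]
    by_contra hcon
    apply hl
    have : l ∈ ⋃ P ∈ associatedPrimes R (R ⧸ (J₂ • ⊤ : Submodule R R)), (P : Set R) := by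
      rw [biUnion_associatedPrimes_eq_compl_regular]
      exact hcon
    rw [Set.biUnion_union]
    exact Or.inr this

theorem wr_append_iff (p : List R) (a : R) :
    IsWeaklyRegular R (p ++ [a]) ↔
      IsWeaklyRegular R p ∧ ∀ x, x * a ∈ ofList p → x ∈ ofList p := by
  rw [isWeaklyRegular_append_iff, isWeaklyRegular_singleton_iff, isSMulRegular_iff]

theorem wr_insert [IsNoetherianRing R] [IsLocalRing R] (p s : List R) (a : R)
    (hp : ∀ x ∈ p ++ a :: s, x ∈ IsLocalRing.maximalIdeal R) :
    IsWeaklyRegular R (p ++ a :: s) ↔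
      IsWeaklyRegular R (p ++ s) ∧ ∀ x, x * a ∈ ofList (p ++ s) → x ∈ ofList (p ++ s) := by
  rw [← wr_append_iff]
  have hperm : List.Perm (p ++ a :: s) (p ++ s ++ [a]) := by
    rw [List.append_assoc]
    exact List.Perm.append_left p (List.perm_append_singleton a s).symm
  constructor
  · intro h
    exact IsLocalRing.isWeaklyRegular_of_perm_of_subset_maximalIdeal h hperm hp
  · intro h
    exact IsLocalRing.isWeaklyRegular_of_perm_of_subset_maximalIdeal h hperm.symm
      fun x hx => hp x (hperm.mem_iff.mpr hx)

theorem conn [IsNoetherianRing R] [IsLocalRing R] (I : Ideal R)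
    (hI : I ≤ IsLocalRing.maximalIdeal R) (Q : List R → Prop)
    (hex : ∀ (p s : List R) (a b : R), (∀ x ∈ p ++ a :: s, x ∈ I) → b ∈ I →
      IsWeaklyRegular R (p ++ a :: s) → IsWeaklyRegular R (p ++ b :: s) →
      Q (p ++ a :: s) → Q (p ++ b :: s)) :
    ∀ (n : ℕ) (v w c : List R), v.length = n → w.length = n → (∀ x ∈ v, x ∈ I) →
      (∀ x ∈ w, x ∈ I) → (∀ x ∈ c, x ∈ I) → IsWeaklyRegular R (v ++ c) →
      IsWeaklyRegular R (w ++ c) → Q (v ++ c) → Q (w ++ c) := by
  intro n
  induction n with
  | zero =>
    intro v w c hv hw _ _ _ _ _ hQ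
    rw [List.length_eq_zero_iff] at hv hw
    subst hv hw
    exact hQ
  | succ n ih =>
    intro v w c hv hw hvI hwI hcI hvr hwr hQ
    obtain ⟨v', a, rfl⟩ : ∃ v' a, v = v' ++ [a] :=
      ⟨v.dropLast, v.getLast (by rintro rfl; simp at hv), (List.dropLast_append_getLast _).symm⟩
    obtain ⟨w', b, rfl⟩ : ∃ w' b, w = w' ++ [b] :=
      ⟨w.dropLast, w.getLast (by rintro rfl; simp at hw), (List.dropLast_append_getLast _).symm⟩
    rw [List.append_assoc, List.singleton_append] at hvr hwr hQ ⊢
    have hv'I : ∀ x ∈ v', x ∈ I := fun x hx => hvI x (by simp [hx])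
    have hw'I : ∀ x ∈ w', x ∈ I := fun x hx => hwI x (by simp [hx])
    have haI : a ∈ I := hvI a (by simp)
    have hbI : b ∈ I := hwI b (by simp)
    have hvacI : ∀ x ∈ v' ++ a :: c, x ∈ I := by
      intro x hx
      simp only [List.mem_append, List.mem_cons] at hx
      rcases hx with hx | rfl | hx
      · exact hv'I x hx
      · exact haI
      · exact hcI x hx
    have hwbcI : ∀ x ∈ w' ++ b :: c, x ∈ I := by
      intro x hx
      simp only [List.mem_append, List.mem_cons] at hx
      rcases hx with hx | rfl | hx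
      · exact hw'I x hx
      · exact hbI
      · exact hcI x hx
    have h1 := (wr_insert v' c a (fun x hx => hI (hvacI x hx))).mp hvr
    have h2 := (wr_insert w' c b (fun x hx => hI (hwbcI x hx))).mp hwr
    obtain ⟨l, hlI, hl1, hl2⟩ := exists_common I _ _ a b haI hbI h1.2 h2.2
    have hvlcI : ∀ x ∈ v' ++ l :: c, x ∈ I := by
      intro x hx
      simp only [List.mem_append, List.mem_cons] at hx
      rcases hx with hx | rfl | hx
      · exact hv'I x hx
      · exact hlI
      · exact hcI x hx
    have hwlcI : ∀ x ∈ w' ++ l :: c, x ∈ I := by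
      intro x hx
      simp only [List.mem_append, List.mem_cons] at hx
      rcases hx with hx | rfl | hx
      · exact hw'I x hx
      · exact hlI
      · exact hcI x hx
    have h3 : IsWeaklyRegular R (v' ++ l :: c) :=
      (wr_insert v' c l (fun x hx => hI (hvlcI x hx))).mpr ⟨h1.1, hl1⟩
    have h4 : IsWeaklyRegular R (w' ++ l :: c) :=
      (wr_insert w' c l (fun x hx => hI (hwlcI x hx))).mpr ⟨h2.1, hl2⟩
    apply hex w' c l b hwlcI hbI h4 hwr
    apply ih v' w' (l :: c) (by simpa using hv) (by simpa using hw) hv'I hw'I _ h3 h4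
    · exact hex v' c a l hvacI hlI hvr h3 hQ
    · intro x hx
      rcases List.mem_cons.mp hx with rfl | hx
      · exact hlI
      · exact hcI x hx

theorem ofList_insert (p s : List R) (a : R) :
    ofList (p ++ a :: s) = ofList (p ++ s) ⊔ span {a} := by
  rw [ofList_append, ofList_cons, ofList_append]
  ac_rfl

/-- **Linkage**: for regular sequences `h`, `f` of the same length in a Noetherian local ring with
`(f) ⊆ (h)` there is a matrix `M` with `f = M h` and `(f) : (h) ⊆ (f) + (det M)`. -/
theorem linkage [IsNoetherianRing R] [IsLocalRing R] {n : ℕ} (h f : Fin n → R)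
    (hh : ∀ i, h i ∈ IsLocalRing.maximalIdeal R)
    (hreg : IsWeaklyRegular R (List.ofFn h)) (freg : IsWeaklyRegular R (List.ofFn f))
    (hf : ∀ i, f i ∈ span (Set.range h)) :
    ∃ M : Matrix (Fin n) (Fin n) R, f = M.mulVec h ∧
      ∀ g, (∀ i, g * h i ∈ span (Set.range f)) → g ∈ span (Set.range f) ⊔ span {M.det} := by
  classical
  set I : Ideal R := span (Set.range h) with hIdef
  have hIm : I ≤ IsLocalRing.maximalIdeal R := by
    rw [hIdef, span_le]
    rintro _ ⟨i, rfl⟩
    exact hh i
  have hhI : ∀ i, h i ∈ I := fun i => subset_span ⟨i, rfl⟩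
  have hofFn (v : Fin n → R) : ofList (List.ofFn v) = span (Set.range v) := by
    unfold Ideal.ofList
    congr 1
    ext x
    simp [List.mem_ofFn]
  let Q : List R → Prop := fun L => ∃ M : Matrix (Fin n) (Fin n) R, L = List.ofFn (M.mulVec h) ∧
    ∀ g, (∀ i ∈ I, g * i ∈ ofList L) → g ∈ ofList L ⊔ span {M.det}
  have hex : ∀ (p s : List R) (a b : R), (∀ x ∈ p ++ a :: s, x ∈ I) → b ∈ I →
      IsWeaklyRegular R (p ++ a :: s) → IsWeaklyRegular R (p ++ b :: s) →
      Q (p ++ a :: s) → Q (p ++ b :: s) := by
    rintro p s a b hpas hbI hwa hwb ⟨M, hM, hlink⟩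
    have hpbs : ∀ x ∈ p ++ b :: s, x ∈ I := by
      intro x hx
      simp only [List.mem_append, List.mem_cons] at hx
      rcases hx with hx | rfl | hx
      · exact hpas x (by simp [hx])
      · exact hbI
      · exact hpas x (by simp [hx])
    have hlen : (p ++ a :: s).length = n := by rw [hM, List.length_ofFn]
    have hk : p.length < n := by
      rw [← hlen]; simp
    set k : Fin n := ⟨p.length, hk⟩ with hkdef
    obtain ⟨r, hr⟩ := (Ideal.mem_span_range_iff_exists_fun).mp hbI
    have hr' : r ⬝ᵥ h = b := hr
    have hak : (M.mulVec h) k = a := by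
      have : (List.ofFn (M.mulVec h))[p.length]'(by simpa using hk) = a := by
        simp [← hM]
      rw [← this, List.getElem_ofFn]
    have hK : ∀ j, j ≠ k → (M.mulVec h) j ∈ ofList (p ++ s) := by
      intro j hj
      have hj' : j.1 ≠ p.length := fun e => hj (Fin.ext e)
      have : (M.mulVec h) j = (p ++ a :: s)[j.1]'(by rw [hlen]; exact j.2) := by
        simp [hM]
      rw [this]
      apply subset_span
      show _ ∈ p ++ s
      rw [List.getElem_append]
      split_ifs with hlt
      · exact List.mem_append_left _ (List.getElem_mem _)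
      · apply List.mem_append_right
        rw [List.getElem_cons]
        split_ifs with h0
        · exfalso; omega
        · exact List.getElem_mem _
    refine ⟨M.updateRow k r, ?_, ?_⟩
    · apply List.ext_getElem
      · rw [List.length_ofFn, ← hlen]; simp
      · intro i hi1 hi2
        rw [List.getElem_ofFn]
        by_cases hi : i = p.length
        · subst hi
          have : ((M.updateRow k r).mulVec h) ⟨p.length, by simpa using hi2⟩ = r ⬝ᵥ h := by
            show (M.updateRow k r) k ⬝ᵥ h = _
            rw [Matrix.updateRow_self]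
          rw [this, hr']
          simp
        · have hne : (⟨i, by simpa using hi2⟩ : Fin n) ≠ k := fun e => hi (by simpa using congrArg Fin.val e)
          have : ((M.updateRow k r).mulVec h) ⟨i, by simpa using hi2⟩ =
              (M.mulVec h) ⟨i, by simpa using hi2⟩ := by
            show (M.updateRow k r) ⟨i, _⟩ ⬝ᵥ h = _
            rw [Matrix.updateRow_ne hne]
            rfl
          rw [this]
          have h2 : (M.mulVec h) ⟨i, by simpa using hi2⟩ =
              (p ++ a :: s)[i]'(by rw [hlen]; simpa using hi2) := by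
            simp [hM]
          rw [h2, List.getElem_append, List.getElem_append]
          split_ifs with hlt
          · rfl
          · rw [List.getElem_cons, List.getElem_cons]
            split_ifs with h0
            · exfalso; omega
            · rfl
    · intro g hg
      rw [ofList_insert] at hg ⊢
      have ha' := ((wr_insert p s a (fun x hx => hIm (hpas x hx))).mp hwa).2
      have hb' := ((wr_insert p s b (fun x hx => hIm (hpbs x hx))).mp hwb).2
      rw [ofList_insert] at hlink
      exact LinkExch.exchange h M k r I (ofList (p ++ s)) hK a b hak hr'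
        (hpas a (by simp)) ha' hb' hlink g hg
  have hstart : Q (List.ofFn h) := by
    refine ⟨1, by rw [Matrix.one_mulVec], fun g _ => ?_⟩
    rw [Matrix.det_one, Ideal.span_singleton_one]
    simp
  have hfin : Q (List.ofFn f) := by
    have := conn I hIm Q hex n (List.ofFn h) (List.ofFn f) [] (by simp) (by simp)
      (by simpa [List.mem_ofFn] using hhI) (by simpa [List.mem_ofFn] using hf) (by simp)
      (by simpa using hreg) (by simpa using freg) (by simpa using hstart)
    simpa using this
  obtain ⟨M, hM, hlink⟩ := hfin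
  refine ⟨M, List.ofFn_injective hM, ?_⟩
  intro g hg
  rw [← hofFn]
  apply hlink
  intro i hi
  rw [hofFn]
  refine Submodule.span_induction (p := fun x _ => g * x ∈ span (Set.range f)) ?_ ?_ ?_ ?_ hi
  · rintro _ ⟨j, rfl⟩
    exact hg j
  · simp
  · intro x y _ _ hx hy
    rw [mul_add]
    exact Ideal.add_mem _ hx hy
  · intro c x _ hx
    rw [smul_eq_mul, mul_left_comm]
    exact Ideal.mul_mem_left _ _ hx

end Groth.Agent.Pi1A.LinkConn
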