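import Mathlib.RingTheory.Regular.RegularSequence
import Mathlib.RingTheory.Ideal.AssociatedPrime.Finiteness
import Mathlib.LinearAlgebra.Matrix.Adjugate
import Mathlib.LinearAlgebra.Matrix.Block
import Mathlib.Tactic.LinearCombination

/-!
# Linkage by a determinant

`R` Noetherian local, `f = M h` two regular sequences of length `n` (modulo an ideal `J`): then
`((f) : (h)) ≤ (f) + (det M)`.  Also prime avoidance for cosets.
-/

set_option autoImplicit false

universe u

open RingTheory.Sequence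
open scoped Pointwise

namespace Groth.Agent.Pi1A.LinkDet

/-- Prime avoidance for cosets (Davis). -/
theorem exists_add_notMem {R : Type u} [CommRing R] (s : Finset (Ideal R))
    (hs : ∀ P ∈ s, P.IsPrime) (I : Ideal R) (h : R) (hI : ∀ P ∈ s, ¬ (I ≤ P ∧ h ∈ P)) :
    ∃ a ∈ I, ∀ P ∈ s, h + a ∉ P := by
  classical
  -- maximal elements of `s`
  obtain ⟨m, hm⟩ : ∃ m : Finset (Ideal R), ∀ P, P ∈ m ↔ P ∈ s ∧ ∀ Q ∈ s, P ≤ Q → Q = P :=
    ⟨s.filter (fun P => ∀ Q ∈ s, P ≤ Q → Q = P), fun P => Finset.mem_filter⟩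
  have hm1 : ∀ P ∈ s, ∃ Q ∈ m, P ≤ Q := by
    intro P hP
    obtain ⟨Q, hQ, hmax⟩ := Finset.exists_le_maximal s hP
    refine ⟨Q, ?_, hQ⟩
    rw [hm]
    exact ⟨hmax.prop, fun Q' hQ' h' => le_antisymm (hmax.le_of_ge hQ' h') h'⟩
  obtain ⟨A, hA⟩ : ∃ A : Finset (Ideal R), ∀ P, P ∈ A ↔ P ∈ m ∧ h ∈ P :=
    ⟨m.filter (fun P => h ∈ P), fun P => Finset.mem_filter⟩
  obtain ⟨B, hB⟩ : ∃ B : Finset (Ideal R), ∀ P, P ∈ B ↔ P ∈ m ∧ h ∉ P :=
    ⟨m.filter (fun P => h ∉ P), fun P => Finset.mem_filter⟩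
  have hprod : ∀ Q : Ideal R, Q.IsPrime → ((∏ P ∈ B, P) ≤ Q ↔ ∃ P ∈ B, P ≤ Q) := fun Q hQ =>
    Ideal.IsPrime.prod_le hQ
  generalize (∏ P ∈ B, P) = Pi0 at hprod
  have hK : ¬ (((I * Pi0 : Ideal R) : Set R) ⊆ ⋃ P ∈ (↑A : Set (Ideal R)), (P : Set R)) := by
    intro hsub
    have h0 := (Ideal.subset_union_prime (R := R) (s := A) (f := fun P => P) (I := I * Pi0) ⊥ ⊥
      (fun P hP _ _ => hs P ((hm P).mp ((hA P).mp hP).1).1)).mp hsub
    obtain ⟨P, hP, hKP⟩ := h0
    have hP' := (hA P).mp hP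
    have hPs := (hm P).mp hP'.1
    have hPp := hs P hPs.1
    rcases (Ideal.IsPrime.mul_le hPp).mp hKP with h1 | h1
    · exact hI P hPs.1 ⟨h1, hP'.2⟩
    · obtain ⟨Q, hQ, hQP⟩ := (hprod P hPp).mp h1
      have hQ' := (hB Q).mp hQ
      have hQs := (hm Q).mp hQ'.1
      have := hQs.2 P hPs.1 hQP
      rw [this] at hP'
      exact hQ'.2 hP'.2
  rw [Set.not_subset] at hK
  obtain ⟨a, haK, haA⟩ := hK
  have haK' : a ∈ I * Pi0 := haK
  have haI : a ∈ I := (Ideal.mul_le_left : I * Pi0 ≤ I) haK'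
  have haPi : a ∈ Pi0 := (Ideal.mul_le_right : I * Pi0 ≤ Pi0) haK'
  refine ⟨a, haI, fun P hP hmem => ?_⟩
  obtain ⟨Q, hQ, hPQ⟩ := hm1 P hP
  have hmem' : h + a ∈ Q := hPQ hmem
  by_cases hh : h ∈ Q
  · apply haA
    have haQ : a ∈ Q := by
      have := Q.sub_mem hmem' hh
      rwa [add_sub_cancel_left] at this
    exact Set.mem_biUnion (Finset.mem_coe.mpr ((hA Q).mpr ⟨hQ, hh⟩)) haQ
  · apply hh
    have haQ : a ∈ Q := by
      have h1 : Pi0 ≤ Q := (hprod Q (hs Q ((hm Q).mp hQ).1)).mpr ⟨Q, (hB Q).mpr ⟨hQ, hh⟩, le_rfl⟩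
      exact h1 haPi
    have := Q.sub_mem hmem' haQ
    rwa [add_sub_cancel_right] at this

variable {R : Type u} [CommRing R]

/-- weakly regular modulo `J`, elementwise -/
def WReg (J : Ideal R) : {n : ℕ} → (Fin n → R) → Prop
  | 0, _ => True
  | n + 1, f => WReg J (fun i : Fin n => f i.castSucc) ∧
      ∀ z, f (Fin.last n) * z ∈ J ⊔ Ideal.span (Set.range fun i : Fin n => f i.castSucc) →
        z ∈ J ⊔ Ideal.span (Set.range fun i : Fin n => f i.castSucc)

theorem isSMulRegular_iff (J K : Ideal R) (r : R) :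
    IsSMulRegular ((R ⧸ J) ⧸ (K • ⊤ : Submodule R (R ⧸ J))) r ↔ ∀ z, r * z ∈ J ⊔ K → z ∈ J ⊔ K := by
  have key : ∀ z : R, (Submodule.Quotient.mk (Ideal.Quotient.mk J z) :
      (R ⧸ J) ⧸ (K • ⊤ : Submodule R (R ⧸ J))) = 0 ↔ z ∈ J ⊔ K := by
    intro z
    rw [Submodule.Quotient.mk_eq_zero]
    have h1 : (K • ⊤ : Submodule R (R ⧸ J)) = Submodule.map (Submodule.mkQ J) K := by
      rw [← Submodule.range_mkQ J, ← Submodule.map_top, ← Submodule.map_smul'']
      congr 1
      exact Ideal.mul_top K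
    rw [h1]
    constructor
    · rintro ⟨k, hk, hkz⟩
      have : z - k ∈ J := by
        rw [← Ideal.Quotient.mk_eq_mk_iff_sub_mem]
        exact hkz.symm
      rw [show z = (z - k) + k by ring]
      exact Ideal.add_mem _ (Ideal.mem_sup_left this) (Ideal.mem_sup_right hk)
    · intro hz
      obtain ⟨j, hj, k, hk, rfl⟩ := Submodule.mem_sup.mp hz
      refine ⟨k, hk, ?_⟩
      change Ideal.Quotient.mk J k = Ideal.Quotient.mk J (j + k)
      rw [map_add, Ideal.Quotient.eq_zero_iff_mem.mpr hj, zero_add]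
  rw [isSMulRegular_iff_right_eq_zero_of_smul]
  constructor
  · intro H z hz
    rw [← key]
    apply H
    rw [← Submodule.Quotient.mk_smul]
    change Submodule.Quotient.mk (Ideal.Quotient.mk J (r * z)) = _
    rwa [key]
  · intro H x hx
    obtain ⟨y, rfl⟩ := Submodule.Quotient.mk_surjective _ x
    obtain ⟨z, rfl⟩ := Ideal.Quotient.mk_surjective y
    rw [key]
    apply H
    rw [← key]
    exact hx

theorem wReg_iff (J : Ideal R) : ∀ {n : ℕ} (f : Fin n → R),
    WReg J f ↔ IsWeaklyRegular (R ⧸ J) (List.ofFn f)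
  | 0, f => by
    simp [WReg]
  | n + 1, f => by
    rw [List.ofFn_succ', List.concat_eq_append, isWeaklyRegular_append_iff, isWeaklyRegular_singleton_iff,
      isSMulRegular_iff, ← wReg_iff J, WReg]
    have : Ideal.ofList (List.ofFn fun i : Fin n => f i.castSucc) =
        Ideal.span (Set.range fun i : Fin n => f i.castSucc) := by
      rw [Ideal.ofList]
      congr 1
      ext x
      simp [List.mem_ofFn]
    rw [this]

/-- passing to the quotient by the first element -/
theorem isWeaklyRegular_cons (J : Ideal R) (r : R) (rs : List R)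
    (h : IsWeaklyRegular (R ⧸ J) (r :: rs)) :
    (∀ z, r * z ∈ J → z ∈ J) ∧ IsWeaklyRegular (R ⧸ (J ⊔ Ideal.span {r})) rs := by
  rw [isWeaklyRegular_cons_iff] at h
  constructor
  · intro z hz
    have := h.1
    rw [isSMulRegular_iff_right_eq_zero_of_smul] at this
    rw [← Ideal.Quotient.eq_zero_iff_mem]
    apply this
    exact Ideal.Quotient.eq_zero_iff_mem.mpr hz
  · have e1 : (r • (⊤ : Submodule R (R ⧸ J))) = Submodule.map (Submodule.mkQ J) (J ⊔ Ideal.span {r}) := by
      apply le_antisymm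
      · rintro x hx
        obtain ⟨y, -, rfl⟩ := hx
        obtain ⟨z, rfl⟩ := Ideal.Quotient.mk_surjective y
        exact ⟨r * z, Ideal.mem_sup_right (Ideal.mul_mem_right _ _ (Ideal.mem_span_singleton_self r)), rfl⟩
      · rintro x ⟨y, hy, rfl⟩
        obtain ⟨j, hj, k, hk, rfl⟩ := Submodule.mem_sup.mp hy
        obtain ⟨z, rfl⟩ := Ideal.mem_span_singleton'.mp hk
        refine ⟨Ideal.Quotient.mk J z, trivial, ?_⟩
        change Ideal.Quotient.mk J (r * z) = Ideal.Quotient.mk J (j + z * r)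
        rw [map_add, Ideal.Quotient.eq_zero_iff_mem.mpr hj, zero_add, mul_comm]
    let e : QuotSMulTop r (R ⧸ J) ≃ₗ[R] (R ⧸ (J ⊔ Ideal.span {r})) :=
      (Submodule.quotEquivOfEq _ _ e1).trans (Submodule.quotientQuotientEquivQuotient J _ le_sup_left)
    exact (e.isWeaklyRegular_congr rs).mp h.2

theorem wReg_swap [IsLocalRing R] [IsNoetherianRing R] (J : Ideal R) {n : ℕ} (f : Fin (n + 1) → R)
    (hmem : ∀ i, f i ∈ IsLocalRing.maximalIdeal R) (hf : WReg J f) :
    WReg (J ⊔ Ideal.span {f (Fin.last n)}) (fun i : Fin n => f i.castSucc) := by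
  rw [wReg_iff, List.ofFn_succ', List.concat_eq_append] at hf
  have h2 : List.Perm ((List.ofFn fun i : Fin n => f i.castSucc) ++ [f (Fin.last n)])
      (f (Fin.last n) :: List.ofFn fun i : Fin n => f i.castSucc) := List.perm_append_singleton _ _
  have h3 := IsLocalRing.isWeaklyRegular_of_perm_of_subset_maximalIdeal hf h2 (by
    intro r hr
    rw [List.mem_append, List.mem_ofFn, List.mem_singleton] at hr
    rcases hr with ⟨i, rfl⟩ | rfl
    · exact hmem _
    · exact hmem _)
  rw [wReg_iff]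
  exact (isWeaklyRegular_cons J _ _ h3).2

theorem range_succ {n : ℕ} (f : Fin (n + 1) → R) :
    Ideal.span (Set.range f) = Ideal.span (Set.range fun i : Fin n => f i.castSucc) ⊔
      Ideal.span {f (Fin.last n)} := by
  rw [← Ideal.span_union]
  congr 1
  ext x
  constructor
  · rintro ⟨i, rfl⟩
    induction i using Fin.lastCases with
    | last => exact Or.inr rfl
    | cast i => exact Or.inl ⟨i, rfl⟩
  · rintro (⟨i, rfl⟩ | h)
    · exact ⟨_, rfl⟩
    · exact ⟨_, h.symm⟩

/-- the final step of the induction -/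
theorem step [IsLocalRing R] [IsNoetherianRing R] (n : ℕ)
    (ih : ∀ (J : Ideal R) (f h : Fin n → R) (_ : ∀ i, f i ∈ IsLocalRing.maximalIdeal R)
      (_ : ∀ i, h i ∈ IsLocalRing.maximalIdeal R) (_ : WReg J f) (_ : WReg J h)
      (M : Matrix (Fin n) (Fin n) R) (_ : ∀ i, f i - ∑ j, M i j * h j ∈ J) (x : R)
      (_ : ∀ j, x * h j ∈ J ⊔ Ideal.span (Set.range f)),
      x ∈ J ⊔ Ideal.span (Set.range f) ⊔ Ideal.span {M.det})
    (J : Ideal R) (f h : Fin (n + 1) → R) (hfm : ∀ i, f i ∈ IsLocalRing.maximalIdeal R)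
    (hhm : ∀ i, h i ∈ IsLocalRing.maximalIdeal R) (hf : WReg J f) (hh : WReg J h)
    (hlast : ∀ z, h (Fin.last n) * z ∈ J ⊔ Ideal.span (Set.range fun i : Fin n => f i.castSucc) →
        z ∈ J ⊔ Ideal.span (Set.range fun i : Fin n => f i.castSucc))
    (M : Matrix (Fin (n + 1)) (Fin (n + 1)) R) (hM : ∀ i, f i - ∑ j, M i j * h j ∈ J) (x : R)
    (hx : ∀ j, x * h j ∈ J ⊔ Ideal.span (Set.range f)) :
    x ∈ J ⊔ Ideal.span (Set.range f) ⊔ Ideal.span {M.det} := by
  set f' : Fin n → R := fun i => f i.castSucc with hf'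
  set h' : Fin n → R := fun i => h i.castSucc with hh'
  set fl := f (Fin.last n) with hfl
  set hl := h (Fin.last n) with hhl
  set K := J ⊔ Ideal.span (Set.range f') with hK
  set M' : Matrix (Fin n) (Fin n) R := M.submatrix Fin.castSucc Fin.castSucc with hM'
  have hKf : J ⊔ Ideal.span (Set.range f) = K ⊔ Ideal.span {fl} := by
    rw [range_succ f, ← sup_assoc]
  have hregf : ∀ z, fl * z ∈ K → z ∈ K := hf.2
  -- the induction hypothesis modulo `hl`
  have hw1 : WReg (J ⊔ Ideal.span {hl}) f' := by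
    have : WReg J (Fin.snoc f' hl : Fin (n + 1) → R) := by
      refine ⟨?_, ?_⟩
      · simpa using hf.1
      · simpa using hlast
    have := wReg_swap J _ ?_ this
    · simpa using this
    · intro i
      induction i using Fin.lastCases with
      | last => simpa using hhm _
      | cast i => simpa using hfm _
  have hw2 : WReg (J ⊔ Ideal.span {hl}) h' := wReg_swap J h hhm hh
  have ih' := ih (J ⊔ Ideal.span {hl}) f' h' (fun i => hfm _) (fun i => hhm _) hw1 hw2 M' (by
    intro i
    have := hM i.castSucc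
    rw [Fin.sum_univ_castSucc] at this
    have h2 : f' i - ∑ j, M' i j * h' j = (f i.castSucc - (∑ j : Fin n, M i.castSucc j.castSucc * h j.castSucc +
      M i.castSucc (Fin.last n) * h (Fin.last n))) + M i.castSucc (Fin.last n) * hl := by
      simp only [hf', hM', hh', Matrix.submatrix_apply, hhl]
      ring
    rw [h2]
    exact Ideal.add_mem _ (Ideal.mem_sup_left this)
      (Ideal.mem_sup_right (Ideal.mul_mem_left _ _ (Ideal.mem_span_singleton_self _))))
  -- extraction
  have ext1 : ∀ w, w ∈ K ⊔ Ideal.span {fl} → ∃ k ∈ K, ∃ y, w = k + y * fl := by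
    intro w hw
    obtain ⟨k, hk, l, hl', rfl⟩ := Submodule.mem_sup.mp hw
    obtain ⟨y, rfl⟩ := Ideal.mem_span_singleton'.mp hl'
    exact ⟨k, hk, y, rfl⟩
  obtain ⟨k, hk, y, hy⟩ := ext1 _ (hKf ▸ hx (Fin.last n))
  -- `y h_j ∈ K + (hl)`
  have hyh : ∀ j : Fin n, y * h' j ∈ J ⊔ Ideal.span {hl} ⊔ Ideal.span (Set.range f') := by
    intro j
    obtain ⟨k', hk', z, hz⟩ := ext1 _ (hKf ▸ hx j.castSucc)
    have h1 : fl * (z * hl - y * h' j) ∈ K := by
      have : fl * (z * hl - y * h' j) = k * h' j - k' * hl := by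
        have e1 : x * hl * h' j = (k + y * fl) * h' j := by rw [← hy]
        have e2 : x * h' j * hl = (k' + z * fl) * hl := by rw [← hz]
        linear_combination e1 - e2
      rw [this]
      exact K.sub_mem (Ideal.mul_mem_right _ _ hk) (Ideal.mul_mem_right _ _ hk')
    have h2 := hregf _ h1
    have h3 : y * h' j = z * hl - (z * hl - y * h' j) := by ring
    rw [h3]
    refine Ideal.sub_mem _ ?_ ?_
    · exact Ideal.mem_sup_left (Ideal.mem_sup_right (Ideal.mul_mem_left _ _ (Ideal.mem_span_singleton_self _)))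
    · have : K ≤ J ⊔ Ideal.span {hl} ⊔ Ideal.span (Set.range f') := by
        rw [hK]
        exact sup_le (le_sup_of_le_left le_sup_left) le_sup_right
      exact this h2
  have hy2 := ih' y hyh
  -- y = k2 + b hl + a δ
  obtain ⟨k2, hk2, b, a, hyab⟩ : ∃ k2 ∈ K, ∃ b a, y = k2 + b * hl + a * M'.det := by
    obtain ⟨u, hu, v, hv, rfl⟩ := Submodule.mem_sup.mp hy2
    obtain ⟨a, rfl⟩ := Ideal.mem_span_singleton'.mp hv
    obtain ⟨p, hp, q, hq, rfl⟩ := Submodule.mem_sup.mp hu
    obtain ⟨j0, hj0, w, hw, rfl⟩ := Submodule.mem_sup.mp hp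
    obtain ⟨b, rfl⟩ := Ideal.mem_span_singleton'.mp hw
    exact ⟨j0 + q, K.add_mem (Ideal.mem_sup_left hj0) (Ideal.mem_sup_right hq), b, a, by ring⟩
  -- Cramer
  have hcr : M'.det * fl - M.det * hl ∈ K := by
    have e1 : M'.det = M.adjugate (Fin.last n) (Fin.last n) := by
      rw [Matrix.adjugate_fin_succ_eq_det_submatrix]
      have : ((-1 : R) ^ ((Fin.last n : ℕ) + (Fin.last n : ℕ))) = 1 := by
        rw [← two_mul, pow_mul]; simp
      rw [this, one_mul, Fin.succAbove_last]
    have e2 : ∀ i, ∑ j, M.adjugate i j * (∑ l, M j l * h l) = M.det * h i := by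
      intro i
      have : (M.adjugate.mulVec (M.mulVec h)) i = M.det * h i := by
        rw [Matrix.mulVec_mulVec, Matrix.adjugate_mul, Matrix.smul_mulVec, Matrix.one_mulVec]
        rfl
      rw [← this]
      rfl
    have e3 : M'.det * fl - M.det * hl = ∑ j, M.adjugate (Fin.last n) j * (f j - ∑ l, M j l * h l) -
        ∑ j : Fin n, M.adjugate (Fin.last n) j.castSucc * f' j := by
      have e4 : ∑ j, M.adjugate (Fin.last n) j * (f j - ∑ l, M j l * h l) =
        ∑ j, M.adjugate (Fin.last n) j * f j - M.det * hl := by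
        rw [hhl, ← e2, ← Finset.sum_sub_distrib]
        refine Finset.sum_congr rfl fun j _ => by ring
      rw [e4, Fin.sum_univ_castSucc (f := fun j => M.adjugate (Fin.last n) j * f j), e1]
      simp only [hf', hfl]
      ring
    rw [e3]
    refine K.sub_mem (Ideal.sum_mem _ fun j _ => Ideal.mul_mem_left _ _ (Ideal.mem_sup_left (hM j)))
      (Ideal.sum_mem _ fun j _ => Ideal.mul_mem_left _ _ (Ideal.mem_sup_right (Ideal.subset_span ⟨j, rfl⟩)))
  have hfin : hl * (x - b * fl - a * M.det) ∈ K := by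
    have : hl * (x - b * fl - a * M.det) = k + k2 * fl + a * (M'.det * fl - M.det * hl) := by
      have e1 : x * hl = k + y * fl := hy
      rw [hyab] at e1
      linear_combination e1
    rw [this]
    exact K.add_mem (K.add_mem hk (Ideal.mul_mem_right _ _ hk2)) (Ideal.mul_mem_left _ _ hcr)
  have hfin2 := hlast _ hfin
  rw [hKf]
  have : x = (x - b * fl - a * M.det) + b * fl + a * M.det := by ring
  rw [this]
  exact Ideal.add_mem _ (Ideal.mem_sup_left (Ideal.add_mem _ (Ideal.mem_sup_left hfin2)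
    (Ideal.mem_sup_right (Ideal.mul_mem_left _ _ (Ideal.mem_span_singleton_self _)))))
    (Ideal.mem_sup_right (Ideal.mul_mem_left _ _ (Ideal.mem_span_singleton_self _)))

/-- regular elements modulo `K` and associated primes -/
theorem regular_of_forall_notMem [IsNoetherianRing R] (K : Ideal R) (r : R)
    (h : ∀ P ∈ associatedPrimes R (R ⧸ K), r ∉ P) : ∀ z, r * z ∈ K → z ∈ K := by
  intro z hz
  by_contra hzK
  have hz0 : (Ideal.Quotient.mk K z : R ⧸ K) ≠ 0 := fun h' => hzK (Ideal.Quotient.eq_zero_iff_mem.mp h')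
  obtain ⟨P, hP, hle⟩ := exists_le_isAssociatedPrime_of_isNoetherianRing R (M := R ⧸ K)
    (Ideal.Quotient.mk K z) hz0
  refine h P hP (hle ?_)
  rw [Submodule.mem_colon_singleton]
  exact (Submodule.mem_bot R).mpr (Ideal.Quotient.eq_zero_iff_mem.mpr hz)

theorem exists_of_assoc [IsNoetherianRing R] (K P : Ideal R) (hP : P ∈ associatedPrimes R (R ⧸ K)) :
    ∃ z, ∀ y, y ∈ P ↔ y * z ∈ K := by
  obtain ⟨-, x, hx⟩ := isAssociatedPrime_iff.mp (show IsAssociatedPrime P (R ⧸ K) from hP)
  obtain ⟨z, rfl⟩ := Ideal.Quotient.mk_surjective x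
  refine ⟨z, fun y => ?_⟩
  rw [hx, Submodule.mem_colon_singleton, Submodule.mem_bot, ← Ideal.Quotient.eq_zero_iff_mem]
  exact Iff.rfl

theorem linkage_rel [IsLocalRing R] [IsNoetherianRing R] : ∀ (n : ℕ) (J : Ideal R) (f h : Fin n → R)
    (_ : ∀ i, f i ∈ IsLocalRing.maximalIdeal R) (_ : ∀ i, h i ∈ IsLocalRing.maximalIdeal R)
    (_ : WReg J f) (_ : WReg J h) (M : Matrix (Fin n) (Fin n) R)
    (_ : ∀ i, f i - ∑ j, M i j * h j ∈ J) (x : R)
    (_ : ∀ j, x * h j ∈ J ⊔ Ideal.span (Set.range f)),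
    x ∈ J ⊔ Ideal.span (Set.range f) ⊔ Ideal.span {M.det} := by
  intro n
  induction n with
  | zero =>
    intro J f h _ _ _ _ M _ x _
    refine Ideal.mem_sup_right ?_
    rw [Matrix.det_fin_zero, Ideal.span_singleton_one]
    trivial
  | succ n ih =>
    intro J f h hfm hhm hf hh M hM x hx
    set K : Ideal R := J ⊔ Ideal.span (Set.range fun i : Fin n => f i.castSucc) with hK
    have hfin : (associatedPrimes R (R ⧸ K)).Finite := associatedPrimes.finite R (R ⧸ K)
    have hJK : ∀ P ∈ associatedPrimes R (R ⧸ K), K ≤ P := by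
      intro P hP y hy
      obtain ⟨z, hz⟩ := exists_of_assoc K P hP
      exact (hz y).mpr (Ideal.mul_mem_right _ _ hy)
    obtain ⟨a, haI, ha⟩ := exists_add_notMem hfin.toFinset
      (fun P hP => (hfin.mem_toFinset.mp hP).isPrime)
      (Ideal.span (Set.range fun i : Fin n => h i.castSucc)) (h (Fin.last n)) (by
        intro P hP hPI
        have hP' := hfin.mem_toFinset.mp hP
        have hle : Ideal.span (Set.range h) ≤ P := by
          rw [range_succ h]
          exact sup_le hPI.1 ((Ideal.span_singleton_le_iff_mem _).mpr hPI.2)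
        have hflP : f (Fin.last n) ∈ P := by
          have h1 := hM (Fin.last n)
          have h2 : f (Fin.last n) = (f (Fin.last n) - ∑ j, M (Fin.last n) j * h j) +
            ∑ j, M (Fin.last n) j * h j := by ring
          rw [h2]
          exact P.add_mem (hJK P hP' (Ideal.mem_sup_left h1))
            (Ideal.sum_mem _ fun j _ => Ideal.mul_mem_left _ _ (hle (Ideal.subset_span ⟨j, rfl⟩)))
        obtain ⟨z, hz⟩ := exists_of_assoc K P hP'
        have hz1 : z ∈ K := hf.2 z ((hz _).mp hflP)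
        refine hP'.isPrime.ne_top ((Ideal.eq_top_iff_one _).mpr ((hz 1).mpr ?_))
        rwa [one_mul])
    obtain ⟨c, hc⟩ := Ideal.mem_span_range_iff_exists_fun.mp haI
    set h2 : Fin (n + 1) → R := Fin.snoc (fun i : Fin n => h i.castSucc) (h (Fin.last n) + a) with hh2
    set c' : Fin (n + 1) → R := Fin.snoc (fun j => - c j) 0 with hc'
    set M2 : Matrix (Fin (n + 1)) (Fin (n + 1)) R := fun i j => M i j + c' j * M i (Fin.last n) with hM2
    have hdet : M2.det = M.det := by
      rw [← Matrix.det_transpose M2, ← Matrix.det_transpose M]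
      refine Matrix.det_eq_of_forall_row_eq_smul_add_const c' (Fin.last n) ?_ ?_
      · simp [hc']
      · intro i j
        rfl
    have ham : a ∈ IsLocalRing.maximalIdeal R := by
      have : Ideal.span (Set.range fun i : Fin n => h i.castSucc) ≤ IsLocalRing.maximalIdeal R := by
        rw [Ideal.span_le]
        rintro _ ⟨i, rfl⟩
        exact hhm _
      exact this haI
    have hlast : ∀ z, h2 (Fin.last n) * z ∈ K → z ∈ K := by
      have : h2 (Fin.last n) = h (Fin.last n) + a := by simp [hh2]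
      rw [this]
      exact regular_of_forall_notMem K _ fun P hP => ha P (hfin.mem_toFinset.mpr hP)
    have hcast : ∀ i : Fin n, h2 i.castSucc = h i.castSucc := fun i => by simp [hh2]
    have hh2reg : WReg J h2 := by
      refine ⟨?_, ?_⟩
      · simp only [hcast]
        exact hh.1
      · simp only [hcast]
        intro z hz
        apply hh.2
        have e1 : h2 (Fin.last n) = h (Fin.last n) + a := by simp [hh2]
        rw [e1] at hz
        have : h (Fin.last n) * z = (h (Fin.last n) + a) * z - a * z := by ring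
        rw [this]
        exact Ideal.sub_mem _ hz (Ideal.mem_sup_right (Ideal.mul_mem_right _ _ haI))
    have hh2m : ∀ i, h2 i ∈ IsLocalRing.maximalIdeal R := by
      intro i
      induction i using Fin.lastCases with
      | last => 
        have e1 : h2 (Fin.last n) = h (Fin.last n) + a := by simp [hh2]
        rw [e1]
        exact Ideal.add_mem _ (hhm _) ham
      | cast i => rw [hcast]; exact hhm _
    rw [← hdet]
    refine step n ih J f h2 hfm hh2m hf hh2reg hlast M2 ?_ x ?_
    · intro i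
      have : ∑ j, M2 i j * h2 j = ∑ j, M i j * h j := by
        rw [Fin.sum_univ_castSucc, Fin.sum_univ_castSucc]
        have e1 : h2 (Fin.last n) = h (Fin.last n) + a := by simp [hh2]
        have e2 : c' (Fin.last n) = 0 := by simp [hc']
        have e3 : ∀ j : Fin n, c' j.castSucc = - c j := fun j => by simp [hc']
        simp only [hM2, hcast, e1, e2, e3]
        rw [← hc]
        have : ∀ j : Fin n, (M i j.castSucc + - c j * M i (Fin.last n)) * h j.castSucc =
          M i j.castSucc * h j.castSucc - M i (Fin.last n) * (c j * h j.castSucc) := fun j => by ring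
        rw [Finset.sum_congr rfl fun j _ => this j, Finset.sum_sub_distrib, ← Finset.mul_sum]
        ring
      rw [this]
      exact hM i
    · intro j
      induction j using Fin.lastCases with
      | last => 
        have e1 : h2 (Fin.last n) = h (Fin.last n) + a := by simp [hh2]
        rw [e1, mul_add, ← hc, Finset.mul_sum]
        refine Ideal.add_mem _ (hx _) (Ideal.sum_mem _ fun i _ => ?_)
        have : x * (c i * h i.castSucc) = c i * (x * h i.castSucc) := by ring
        rw [this]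
        exact Ideal.mul_mem_left _ _ (hx _)
      | cast j => rw [hcast]; exact hx _

/-- **Linkage**: `f = M h`, both regular sequences of length `n` in a Noetherian local ring; then
`((f) : (h)) ≤ (f) + (det M)`. -/
theorem linkage [IsLocalRing R] [IsNoetherianRing R] {n : ℕ} (f h : Fin n → R)
    (hf : IsRegular R (List.ofFn f)) (hh : IsRegular R (List.ofFn h))
    (M : Matrix (Fin n) (Fin n) R) (hM : ∀ i, f i = ∑ j, M i j * h j) (x : R)
    (hx : ∀ j, x * h j ∈ Ideal.span (Set.range f)) :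
    x ∈ Ideal.span (Set.range f) ⊔ Ideal.span {M.det} := by
  have hmem : ∀ g : Fin n → R, IsRegular R (List.ofFn g) → ∀ i, g i ∈ IsLocalRing.maximalIdeal R := by
    intro g hg i
    refine IsLocalRing.le_maximalIdeal (J := Ideal.ofList (List.ofFn g)) ?_ (Ideal.subset_span ?_)
    · intro htop
      apply hg.top_ne_smul
      rw [htop, Ideal.smul_eq_mul, Ideal.mul_top]
    · exact List.mem_ofFn.mpr ⟨i, rfl⟩
  have hw : ∀ g : Fin n → R, IsRegular R (List.ofFn g) → WReg (⊥ : Ideal R) g := by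
    intro g hg
    rw [wReg_iff]
    exact ((Submodule.quotEquivOfEqBot (⊥ : Ideal R) rfl).isWeaklyRegular_congr _).mpr
      hg.toIsWeaklyRegular
  have := linkage_rel n ⊥ f h (hmem f hf) (hmem h hh) (hw f hf) (hw h hh) M (by
    intro i
    rw [← hM i, sub_self]
    exact Ideal.zero_mem _) x (by
    intro j
    rw [bot_sup_eq]
    exact hx j)
  rwa [bot_sup_eq] at this

/-- Cramer: `det M` multiplies `(h)` into `(f)` when `f = M h`. -/
theorem det_mul_mem {n : ℕ} (f h : Fin n → R) (M : Matrix (Fin n) (Fin n) R)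
    (hM : ∀ i, f i = ∑ j, M i j * h j) (i : Fin n) : M.det * h i ∈ Ideal.span (Set.range f) := by
  have : (M.adjugate.mulVec (M.mulVec h)) i = M.det * h i := by
    rw [Matrix.mulVec_mulVec, Matrix.adjugate_mul, Matrix.smul_mulVec, Matrix.one_mulVec]
    rfl
  rw [← this]
  have h2 : M.mulVec h = f := by
    ext j
    exact (hM j).symm
  rw [h2]
  change ∑ j, M.adjugate i j * f j ∈ Ideal.span (Set.range f)
  exact Ideal.sum_mem _ fun j _ => Ideal.mul_mem_left _ _ (Ideal.subset_span (Set.mem_range_self j))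

end Groth.Agent.Pi1A.LinkDet
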