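import Mathlib.RingTheory.Regular.RegularSequence
import Mathlib.RingTheory.Ideal.AssociatedPrime.Finiteness
import Mathlib.LinearAlgebra.Matrix.Adjugate
import Mathlib.RingTheory.Ideal.Operations
import Mathlib.Tactic.LinearCombination

/-!
# Linkage by regular sequences: exchange step

If `v = M h` and `v' = M' h` differ only in the entry `k`, `I ∋ h i`, and if
`((v) : I) ≤ (v) + (det M)`, then `((v') : I) ≤ (v') + (det M')`.
-/

set_option autoImplicit false
universe u

namespace Groth.Agent.Pi1A.LinkExch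

open Ideal Matrix

variable {R : Type u} [CommRing R]

/-- Cramer: `b * det M - a * det M' ∈ K`. -/
theorem cramer_mem {n : ℕ} (h : Fin n → R) (M : Matrix (Fin n) (Fin n) R) (k : Fin n)
    (r : Fin n → R) (K : Ideal R) (hK : ∀ j, j ≠ k → (M.mulVec h) j ∈ K) :
    (r ⬝ᵥ h) * M.det - (M.mulVec h) k * (M.updateRow k r).det ∈ K := by
  -- `h_j det M - adj(M)_{jk} v_k ∈ K`
  have h1 : ∀ j, h j * M.det - M.adjugate j k * (M.mulVec h) k ∈ K := by
    intro j
    have e1 : M.det • h = M.adjugate.mulVec (M.mulVec h) := by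
      rw [Matrix.mulVec_mulVec, Matrix.adjugate_mul, Matrix.smul_mulVec, Matrix.one_mulVec]
    have e2 : h j * M.det = ∑ i, M.adjugate j i * (M.mulVec h) i := by
      have := congrFun e1 j
      simp only [Pi.smul_apply, smul_eq_mul] at this
      rw [mul_comm, this]
      rfl
    rw [e2, ← Finset.add_sum_erase _ _ (Finset.mem_univ k), add_sub_cancel_left]
    apply Ideal.sum_mem
    intro i hi
    exact Ideal.mul_mem_left _ _ (hK i (Finset.ne_of_mem_erase hi))
  -- `det M' = ∑ r_j adj(M)_{jk}`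
  have h2 : (M.updateRow k r).det = ∑ j, r j * M.adjugate j k := by
    rw [Matrix.det_eq_sum_mul_adjugate_row _ k]
    apply Finset.sum_congr rfl
    intro j _
    rw [Matrix.updateRow_self, Matrix.adjugate_apply, Matrix.adjugate_apply,
      Matrix.updateRow_idem]
  rw [h2]
  have h3 : (r ⬝ᵥ h) * M.det - (M.mulVec h) k * ∑ j, r j * M.adjugate j k =
      ∑ j, r j * (h j * M.det - M.adjugate j k * (M.mulVec h) k) := by
    simp only [dotProduct, Finset.sum_mul, Finset.mul_sum, ← Finset.sum_sub_distrib]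
    apply Finset.sum_congr rfl
    intro j _
    ring
  rw [h3]
  exact Ideal.sum_mem _ fun j _ => Ideal.mul_mem_left _ _ (h1 j)

theorem exchange {n : ℕ} (h : Fin n → R) (M : Matrix (Fin n) (Fin n) R) (k : Fin n)
    (r : Fin n → R) (I K : Ideal R) (hK : ∀ j, j ≠ k → (M.mulVec h) j ∈ K)
    (a b : R) (ha : (M.mulVec h) k = a) (hb : r ⬝ᵥ h = b) (haI : a ∈ I)
    (ha' : ∀ x, x * a ∈ K → x ∈ K) (hb' : ∀ x, x * b ∈ K → x ∈ K)
    (H : ∀ g, (∀ i ∈ I, g * i ∈ K ⊔ span {a}) → g ∈ K ⊔ span {a} ⊔ span {M.det})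
    (g' : R) (hg' : ∀ i ∈ I, g' * i ∈ K ⊔ span {b}) :
    g' ∈ K ⊔ span {b} ⊔ span {(M.updateRow k r).det} := by
  -- `a g' = κ + b g`
  obtain ⟨κ, hκ, bg, hbg, hκg⟩ := Submodule.mem_sup.mp (hg' a haI)
  obtain ⟨g, rfl⟩ := Ideal.mem_span_singleton.mp hbg
  have hg : ∀ i ∈ I, g * i ∈ K ⊔ span {a} := by
    intro i hi
    obtain ⟨κi, hκi, bc, hbc, hi2⟩ := Submodule.mem_sup.mp (hg' i hi)
    obtain ⟨c, rfl⟩ := Ideal.mem_span_singleton.mp hbc
    have h1 : (g * i - a * c) * b ∈ K := by
      have : (g * i - a * c) * b = a * κi - i * κ := by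
        linear_combination i * hκg - a * hi2
      rw [this]
      exact Ideal.sub_mem _ (Ideal.mul_mem_left _ _ hκi) (Ideal.mul_mem_left _ _ hκ)
    have h2 := hb' _ h1
    have : g * i = (g * i - a * c) + a * c := by ring
    rw [this]
    exact Submodule.add_mem_sup h2 (Ideal.mul_mem_right _ _ (Ideal.mem_span_singleton_self a))
  obtain ⟨y, hy, z, hz, hyz⟩ := Submodule.mem_sup.mp (H g hg)
  obtain ⟨κ', hκ', ae, hae, hy2⟩ := Submodule.mem_sup.mp hy
  obtain ⟨e, rfl⟩ := Ideal.mem_span_singleton.mp hae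
  obtain ⟨c, rfl⟩ := Ideal.mem_span_singleton.mp hz
  have hcr := cramer_mem h M k r K hK
  rw [ha, hb] at hcr
  have h1 : (g' - b * e - (M.updateRow k r).det * c) * a ∈ K := by
    have : (g' - b * e - (M.updateRow k r).det * c) * a =
        κ + b * κ' + c * (b * M.det - a * (M.updateRow k r).det) := by
      linear_combination - hκg - b * hyz - b * hy2
    rw [this]
    exact Ideal.add_mem _ (Ideal.add_mem _ hκ (Ideal.mul_mem_left _ _ hκ'))
      (Ideal.mul_mem_left _ _ hcr)
  have h2 := ha' _ h1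
  have : g' = (g' - b * e - (M.updateRow k r).det * c) + b * e + (M.updateRow k r).det * c := by
    ring
  rw [this]
  exact Submodule.add_mem_sup (Submodule.add_mem_sup h2
    (Ideal.mul_mem_right _ _ (Ideal.mem_span_singleton_self b)))
    (Ideal.mul_mem_right _ _ (Ideal.mem_span_singleton_self _))

end Groth.Agent.Pi1A.LinkExch
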