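import Mathlib.LinearAlgebra.Alternating.Uncurry.Fin
import Mathlib.LinearAlgebra.Alternating.Curry
import Mathlib.LinearAlgebra.ExteriorPower.Basis
import Mathlib.LinearAlgebra.Determinant
import Mathlib.RingTheory.Regular.RegularSequence

/-!
The linkage lemma: if `f = M h` with `f` a weakly regular sequence (in any commutative ring) then
`(f) : (h) ≤ (f) + (det M)`.
-/

set_option autoImplicit false
universe u v

namespace Groth.Agent.Pi1A.Linkage419

section Koszul

variable {R : Type u} [CommRing R] {E : Type v} [AddCommGroup E] [Module R E]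

/-- The Koszul differential on alternating forms attached to a linear form. -/
noncomputable def kd (θ : E →ₗ[R] R) {p : ℕ} (ω : E [⋀^Fin p]→ₗ[R] R) : E [⋀^Fin (p + 1)]→ₗ[R] R :=
  AlternatingMap.alternatizeUncurryFin (θ.smulRight ω)

lemma kd_apply (θ : E →ₗ[R] R) {p : ℕ} (ω : E [⋀^Fin p]→ₗ[R] R) (v : Fin (p + 1) → E) :
    kd θ ω v = ∑ i : Fin (p + 1), (-1 : ℤ) ^ (i : ℕ) • (θ (v i) * ω (i.removeNth v)) := by
  rw [kd, AlternatingMap.alternatizeUncurryFin_apply]
  rfl

lemma kd_kd (θ : E →ₗ[R] R) {p : ℕ} (ω : E [⋀^Fin p]→ₗ[R] R) : kd θ (kd θ ω) = 0 := by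
  have h := AlternatingMap.alternatizeUncurryFin_alternatizeUncurryFinLM_comp_of_symmetric
    (f := θ.smulRight (θ.smulRight ω)) (by
      intro x y
      ext v
      simp only [LinearMap.smulRight_apply, LinearMap.smul_apply, AlternatingMap.smul_apply, smul_eq_mul]
      ring)
  rw [← h]
  unfold kd
  congr 1
  ext x v
  simp [LinearMap.smulRight_apply]

lemma kd_add (θ : E →ₗ[R] R) {p : ℕ} (ω ω' : E [⋀^Fin p]→ₗ[R] R) : kd θ (ω + ω') = kd θ ω + kd θ ω' := by
  ext v
  rw [AlternatingMap.add_apply, kd_apply, kd_apply, kd_apply, ← Finset.sum_add_distrib]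
  refine Finset.sum_congr rfl fun i _ => ?_
  rw [← smul_add, AlternatingMap.add_apply, mul_add]

lemma kd_smul (θ : E →ₗ[R] R) {p : ℕ} (c : R) (ω : E [⋀^Fin p]→ₗ[R] R) : kd θ (c • ω) = c • kd θ ω := by
  ext v
  rw [AlternatingMap.smul_apply, kd_apply, kd_apply, Finset.smul_sum]
  refine Finset.sum_congr rfl fun i _ => ?_
  rw [AlternatingMap.smul_apply, smul_comm c]
  congr 1
  simp only [smul_eq_mul]
  ring

lemma kd_mem (θ : E →ₗ[R] R) {p : ℕ} (ω : E [⋀^Fin p]→ₗ[R] R) (I : Ideal R) (h : ∀ v, ω v ∈ I) (v : Fin (p + 1) → E) :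
    kd θ ω v ∈ I := by
  rw [kd_apply]
  exact Submodule.sum_mem _ fun i _ => zsmul_mem (I.mul_mem_left _ (h _)) _

/-- Cartan formula, weak form. -/
lemma kd_cons_sub_mem (θ : E →ₗ[R] R) {p : ℕ} (ω : E [⋀^Fin p]→ₗ[R] R) (v : E) (w : Fin p → E) (I : Ideal R)
    (h : ∀ i, θ (w i) ∈ I) : kd θ ω (Fin.cons v w) - θ v * ω w ∈ I := by
  rw [kd_apply, Fin.sum_univ_succ]
  simp only [Fin.val_zero, pow_zero, one_smul, Fin.cons_zero, Fin.cons_succ]
  have h1 : Fin.removeNth 0 (Fin.cons v w : Fin (p + 1) → E) = w := by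
    ext i
    simp [Fin.removeNth]
  rw [h1, add_sub_cancel_left]
  exact Submodule.sum_mem _ fun i _ => zsmul_mem (I.mul_mem_right _ (h _)) _

variable [Module.Free R E]

/-- lifting of alternating forms with values in `I' + (f)` -/
lemma exists_lift {p : ℕ} (ω : E [⋀^Fin p]→ₗ[R] R) (I' : Ideal R) (f : R)
    (h : ∀ v, ω v ∈ I' ⊔ Ideal.span {f}) :
    ∃ ω' : E [⋀^Fin p]→ₗ[R] R, ∀ v, ω v - f * ω' v ∈ I' := by
  let L := exteriorPower.alternatingMapLinearEquiv ω
  have hL : ∀ x, L x ∈ I' ⊔ Ideal.span {f} := by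
    intro x
    have hx : x ∈ Submodule.span R (Set.range (exteriorPower.ιMulti R p (M := E))) := by
      rw [exteriorPower.ιMulti_span]
      trivial
    induction hx using Submodule.span_induction with
    | mem x hx =>
      obtain ⟨a, rfl⟩ := hx
      rw [exteriorPower.alternatingMapLinearEquiv_apply_ιMulti]
      exact h a
    | zero => simp
    | add x y _ _ hx hy =>
      rw [map_add]
      exact add_mem hx hy
    | smul r x _ hx =>
      rw [map_smul]
      exact Submodule.smul_mem _ _ hx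
  let L' : (⋀[R]^p E) →ₗ[R] (I' ⊔ Ideal.span {f} : Ideal R) := L.codRestrict _ hL
  let q : (R × I') →ₗ[R] (I' ⊔ Ideal.span {f} : Ideal R) :=
    LinearMap.codRestrict _ ((LinearMap.lsmul R R f).comp (LinearMap.fst R R I') +
      (I'.subtype).comp (LinearMap.snd R R I')) (by
      rintro ⟨a, b⟩
      refine add_mem ?_ (Ideal.mem_sup_left b.2)
      exact Ideal.mem_sup_right (Ideal.mul_mem_right _ _ (Ideal.mem_span_singleton_self f)))
  have hq : Function.Surjective q := by
    rintro ⟨y, hy⟩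
    obtain ⟨b, hb, c, hc, rfl⟩ := Submodule.mem_sup.mp hy
    obtain ⟨a, rfl⟩ := Ideal.mem_span_singleton'.mp hc
    refine ⟨(a, ⟨b, hb⟩), Subtype.ext ?_⟩
    change f * a + b = b + a * f
    ring
  obtain ⟨s, hs⟩ := Module.projective_lifting_property q L' hq
  refine ⟨exteriorPower.alternatingMapLinearEquiv.symm ((LinearMap.fst R R I').comp s), fun v => ?_⟩
  have h1 := congr(($hs (exteriorPower.ιMulti R p v) : R))
  change f * (s (exteriorPower.ιMulti R p v)).1 + ((s (exteriorPower.ιMulti R p v)).2 : R) = L (exteriorPower.ιMulti R p v) at h1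
  rw [exteriorPower.alternatingMapLinearEquiv_apply_ιMulti] at h1
  rw [exteriorPower.alternatingMapLinearEquiv_symm_apply, ← h1]
  change f * (s (exteriorPower.ιMulti R p v)).1 + ((s (exteriorPower.ιMulti R p v)).2 : R) -
    f * (s (exteriorPower.ιMulti R p v)).1 ∈ I'
  rw [add_sub_cancel_left]
  exact (s (exteriorPower.ιMulti R p v)).2.2

lemma step (θ : E →ₗ[R] R) {p : ℕ} (c : E [⋀^Fin p]→ₗ[R] R) (I' : Ideal R) (f : R)
    (hreg : ∀ x, f * x ∈ I' → x ∈ I') (h : ∀ v, kd θ c v ∈ I' ⊔ Ideal.span {f}) :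
    ∃ c' : E [⋀^Fin (p + 1)]→ₗ[R] R, (∀ v, kd θ c v - f * c' v ∈ I') ∧ ∀ v, kd θ c' v ∈ I' := by
  obtain ⟨c', hc'⟩ := exists_lift (kd θ c) I' f h
  refine ⟨c', hc', fun v => hreg _ ?_⟩
  have h1 := kd_mem θ (kd θ c + (-f) • c') I' (fun v => by
    have := hc' v
    rwa [sub_eq_add_neg, ← neg_mul] at this) v
  rw [kd_add, kd_kd, zero_add, kd_smul, AlternatingMap.smul_apply, smul_eq_mul, neg_mul] at h1
  exact neg_mem_iff.mp h1

end Koszul

section Rel

variable {R : Type u} [CommRing R]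

/-- the ideal of the first `k` members -/
def fst (F : ℕ → R) (k : ℕ) : Ideal R := Ideal.span (F '' {a | a < k})

lemma mem_fst (F : ℕ → R) {a k : ℕ} (h : a < k) : F a ∈ fst F k := Ideal.subset_span ⟨a, h, rfl⟩

lemma fst_succ (F : ℕ → R) (k : ℕ) : fst F (k + 1) = fst F k ⊔ Ideal.span {F k} := by
  rw [fst, fst, ← Ideal.span_union]
  congr 1
  ext x
  constructor
  · rintro ⟨a, ha, rfl⟩
    rcases Nat.lt_succ_iff_lt_or_eq.mp ha with h | rfl
    · exact Or.inl ⟨a, h, rfl⟩
    · exact Or.inr rfl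
  · rintro (⟨a, ha, rfl⟩ | rfl)
    · exact ⟨a, Nat.lt_succ_of_lt ha, rfl⟩
    · exact ⟨k, Nat.lt_succ_self k, rfl⟩

lemma mem_fst_iff (F : ℕ → R) (k : ℕ) (x : R) : x ∈ fst F k ↔ ∃ y : ℕ → R, x = ∑ a ∈ Finset.range k, y a * F a := by
  induction k generalizing x with
  | zero =>
    simp [fst]
  | succ k ih =>
    rw [fst_succ, Submodule.mem_sup]
    constructor
    · rintro ⟨b, hb, c, hc, rfl⟩
      obtain ⟨y, rfl⟩ := (ih b).mp hb
      obtain ⟨z, rfl⟩ := Ideal.mem_span_singleton'.mp hc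
      refine ⟨Function.update y k z, ?_⟩
      rw [Finset.sum_range_succ, Function.update_self]
      congr 1
      refine Finset.sum_congr rfl fun a ha => ?_
      rw [Function.update_of_ne (Finset.mem_range.mp ha).ne]
    · rintro ⟨y, rfl⟩
      rw [Finset.sum_range_succ]
      exact ⟨_, (ih _).mpr ⟨y, rfl⟩, _, Ideal.mem_span_singleton'.mpr ⟨y k, rfl⟩, rfl⟩

/-- regularity of the first `k` members -/
def Reg (F : ℕ → R) (k : ℕ) : Prop := ∀ j < k, ∀ x, F j * x ∈ fst F j → x ∈ fst F j

lemma fst_mono (F : ℕ → R) {j k : ℕ} (h : j ≤ k) : fst F j ≤ fst F k :=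
  Ideal.span_mono (Set.image_mono fun _ ha => lt_of_lt_of_le ha h)

/-- coefficients of relations are in the ideal -/
lemma mem_of_sum_eq_zero (F : ℕ → R) (k : ℕ) (hF : Reg F k) (x : ℕ → R) (h : ∑ a ∈ Finset.range k, x a * F a = 0) :
    ∀ a < k, x a ∈ fst F k := by
  induction k generalizing x with
  | zero => intro a ha; exact absurd ha (Nat.not_lt_zero a)
  | succ k ih =>
    rw [Finset.sum_range_succ] at h
    have h1 : x k ∈ fst F k := by
      apply hF k (Nat.lt_succ_self k)
      rw [mem_fst_iff]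
      refine ⟨fun a => - x a, ?_⟩
      rw [← sub_eq_zero, ← h]
      simp only [neg_mul, Finset.sum_neg_distrib]
      ring
    obtain ⟨y, hy⟩ := (mem_fst_iff F k (x k)).mp h1
    have h2 := ih (fun j hj => hF j (Nat.lt_succ_of_lt hj)) (fun a => x a + y a * F k) (by
      rw [hy, Finset.sum_mul] at h
      rw [← h, ← Finset.sum_add_distrib]
      refine Finset.sum_congr rfl fun a _ => ?_
      ring)
    intro a ha
    rcases Nat.lt_succ_iff_lt_or_eq.mp ha with h3 | rfl
    · have h4 := fst_mono F (Nat.le_succ k) (h2 a h3)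
      have h5 : y a * F k ∈ fst F (k + 1) := Ideal.mul_mem_left _ _ (mem_fst F (Nat.lt_succ_self k))
      simpa using sub_mem h4 h5
    · exact fst_mono F (Nat.le_succ _) h1

lemma mem_of_mul_mem (F : ℕ → R) (k : ℕ) (hF : Reg F k) (j : ℕ) (hj : j < k) (x : R)
    (h : F j * x ∈ Ideal.span (F '' {a | a < k ∧ a ≠ j})) : x ∈ fst F k := by
  have h1 : ∃ y : ℕ → R, F j * x = ∑ a ∈ (Finset.range k).erase j, y a * F a := by
    have h2 : ∀ z ∈ Ideal.span (F '' {a | a < k ∧ a ≠ j}), ∃ y : ℕ → R, z = ∑ a ∈ (Finset.range k).erase j, y a * F a := by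
      intro z hz
      induction hz using Submodule.span_induction with
      | mem z hz =>
        obtain ⟨a, ⟨ha1, ha2⟩, rfl⟩ := hz
        refine ⟨Pi.single a 1, ?_⟩
        rw [Finset.sum_eq_single a]
        · simp
        · intro b _ hb
          simp [hb]
        · intro h3
          exact absurd (Finset.mem_erase.mpr ⟨ha2, Finset.mem_range.mpr ha1⟩) h3
      | zero => exact ⟨0, by simp⟩
      | add z z' _ _ h3 h4 =>
        obtain ⟨y, rfl⟩ := h3
        obtain ⟨y', rfl⟩ := h4
        exact ⟨y + y', by simp [add_mul, Finset.sum_add_distrib]⟩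
      | smul r z _ h3 =>
        obtain ⟨y, rfl⟩ := h3
        exact ⟨r • y, by simp [Finset.mul_sum, mul_assoc]⟩
    exact h2 _ h
  obtain ⟨y, hy⟩ := h1
  have h3 := mem_of_sum_eq_zero F k hF (Function.update (fun a => - y a) j x) (by
    rw [← Finset.add_sum_erase _ _ (Finset.mem_range.mpr hj), Function.update_self, mul_comm x, hy, ← Finset.sum_add_distrib]
    apply Finset.sum_eq_zero
    intro a ha
    rw [Function.update_of_ne (Finset.mem_erase.mp ha).1]
    ring) j hj
  rwa [Function.update_self] at h3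

end Rel

section Main

variable {R : Type u} [CommRing R] {E : Type v} [AddCommGroup E] [Module R E] [Module.Free R E]

lemma main_step (θ : E →ₗ[R] R) (m : ℕ → E) (k : ℕ) (hF : Reg (fun a => θ (m a)) k) (g : R)
    (hg : ∀ v, g * θ v ∈ fst (fun a => θ (m a)) k) (i : ℕ) (hi : i ≤ k) :
    ∃ c : E [⋀^Fin i]→ₗ[R] R, (∀ v, kd θ c v ∈ fst (fun a => θ (m a)) (k - i)) ∧
      g - c (fun a => m (k - i + a)) ∈ fst (fun a => θ (m a)) k := by
  induction i with
  | zero =>
    refine ⟨AlternatingMap.constOfIsEmpty R E (Fin 0) g, fun v => ?_, ?_⟩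
    · rw [kd_apply, Fin.sum_univ_succ, Fin.sum_univ_zero, add_zero, Fin.val_zero, pow_zero, one_smul, mul_comm]
      exact hg _
    · simp
  | succ i ih =>
    obtain ⟨c, hc1, hc2⟩ := ih (Nat.le_of_succ_le hi)
    have hk : k - i = (k - (i + 1)) + 1 := by omega
    have hlt : k - (i + 1) < k := by omega
    obtain ⟨c', hc'1, hc'2⟩ := step θ c (fst (fun a => θ (m a)) (k - (i + 1))) (θ (m (k - (i + 1))))
      (hF _ hlt) (by
        intro v
        have := hc1 v
        rw [hk, fst_succ] at this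
        exact this)
    refine ⟨c', hc'2, ?_⟩
    have hw : (fun a : Fin (i + 1) => m (k - (i + 1) + a)) = Fin.cons (m (k - (i + 1))) (fun a : Fin i => m (k - i + a)) := by
      funext a
      refine Fin.cases ?_ (fun a => ?_) a
      · rw [Fin.cons_zero]
        congr 1
      · rw [Fin.cons_succ, Fin.val_succ]
        congr 1
        omega
    rw [hw]
    have key : θ (m (k - (i + 1))) * (c (fun a : Fin i => m (k - i + a)) -
        c' (Fin.cons (m (k - (i + 1))) (fun a : Fin i => m (k - i + a)))) ∈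
        Ideal.span ((fun a => θ (m a)) '' {a | a < k ∧ a ≠ k - (i + 1)}) := by
      have h1 := hc'1 (Fin.cons (m (k - (i + 1))) (fun a : Fin i => m (k - i + a)))
      have h2 := kd_cons_sub_mem θ c (m (k - (i + 1))) (fun a : Fin i => m (k - i + a))
        (Ideal.span ((fun a => θ (m a)) '' {a | a < k ∧ a ≠ k - (i + 1)})) (by
          intro a
          exact Ideal.subset_span ⟨k - i + a, ⟨by omega, by omega⟩, rfl⟩)
      have h3 : fst (fun a => θ (m a)) (k - (i + 1)) ≤ Ideal.span ((fun a => θ (m a)) '' {a | a < k ∧ a ≠ k - (i + 1)}) := by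
        refine Ideal.span_mono (Set.image_mono fun a ha => ?_)
        have ha' : a < k - (i + 1) := ha
        exact ⟨by omega, by omega⟩
      have h4 := sub_mem (h3 h1) h2
      have h5 : kd θ c (Fin.cons (m (k - (i + 1))) (fun a : Fin i => m (k - i + a))) -
          θ (m (k - (i + 1))) * c' (Fin.cons (m (k - (i + 1))) (fun a : Fin i => m (k - i + a))) -
          (kd θ c (Fin.cons (m (k - (i + 1))) (fun a : Fin i => m (k - i + a))) -
            θ (m (k - (i + 1))) * c (fun a : Fin i => m (k - i + a))) =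
          θ (m (k - (i + 1))) * (c (fun a : Fin i => m (k - i + a)) -
        c' (Fin.cons (m (k - (i + 1))) (fun a : Fin i => m (k - i + a)))) := by ring
      rwa [h5] at h4
    have h6 := mem_of_mul_mem (fun a => θ (m a)) k hF _ hlt _ key
    have h7 := add_mem hc2 h6
    rwa [sub_add_sub_cancel] at h7

/-- linkage lemma, function form (`f` of length `k`, `h` of any length): `g ∈ (f) : (h)` is, modulo `(f)`, the
value of an alternating form on the rows of the matrix. -/
theorem exists_alternating (θ : E →ₗ[R] R) (m : ℕ → E) (k : ℕ) (hF : Reg (fun a => θ (m a)) k) (g : R)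
    (hg : ∀ v, g * θ v ∈ fst (fun a => θ (m a)) k) :
    ∃ c : E [⋀^Fin k]→ₗ[R] R, g - c (fun a => m a) ∈ fst (fun a => θ (m a)) k := by
  obtain ⟨c, -, h⟩ := main_step θ m k hF g hg k le_rfl
  exact ⟨c, by simpa using h⟩

end Main

section Matrix

variable {R : Type u} [CommRing R] {n : ℕ}

lemma reg_of_isWeaklyRegular (f : Fin n → R) (F : ℕ → R) (hF : ∀ a : Fin n, F a = f a)
    (hf : RingTheory.Sequence.IsWeaklyRegular R (List.ofFn f)) :
    Reg F n := by
  rw [RingTheory.Sequence.isWeaklyRegular_iff] at hf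
  intro j hj x hx
  have h1 := hf j (by simpa using hj)
  have h2 : (Ideal.ofList (List.take j (List.ofFn f)) • ⊤ : Ideal R) = fst F j := by
    rw [smul_eq_mul, Ideal.mul_top, Ideal.ofList, fst]
    congr 1
    ext y
    simp only [Set.mem_ofPred_eq, List.mem_take_iff_getElem, List.length_ofFn, List.getElem_ofFn, Set.mem_image]
    constructor
    · rintro ⟨a, ha, rfl⟩
      exact ⟨a, by omega, hF ⟨a, by omega⟩⟩
    · rintro ⟨a, ha, rfl⟩
      exact ⟨a, by omega, (hF ⟨a, by omega⟩).symm⟩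
  have h3 : (List.ofFn f)[j]'(by simpa using hj) = F j := by
    rw [List.getElem_ofFn]
    exact (hF ⟨j, hj⟩).symm
  rw [h3, isSMulRegular_iff_right_eq_zero_of_smul] at h1
  have h4 := h1 (Submodule.Quotient.mk x) (by
    rw [← Submodule.Quotient.mk_smul, Submodule.Quotient.mk_eq_zero, h2]
    exact hx)
  rwa [Submodule.Quotient.mk_eq_zero, h2] at h4

/-- **Linkage lemma.** `f = M h`, `f` weakly regular: `(f) : (h) ≤ (f) + (det M)`. -/
theorem mem_of_mul_mem_span (f h : Fin n → R) (M : Matrix (Fin n) (Fin n) R) (hM : ∀ i, f i = ∑ j, M i j * h j)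
    (hf : RingTheory.Sequence.IsWeaklyRegular R (List.ofFn f)) (g : R)
    (hg : ∀ j, g * h j ∈ Ideal.span (Set.range f)) :
    g ∈ Ideal.span (Set.range f) ⊔ Ideal.span {M.det} := by
  let θ : (Fin n → R) →ₗ[R] R := Fintype.linearCombination R h
  let m : ℕ → (Fin n → R) := fun a => if ha : a < n then M ⟨a, ha⟩ else 0
  have hm : ∀ a : Fin n, m a = M a := fun a => by simp [m]
  have hθ : ∀ a : Fin n, θ (m a) = f a := fun a => by
    rw [hm, hM, Fintype.linearCombination_apply]
    rfl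
  have hspan : fst (fun a => θ (m a)) n = Ideal.span (Set.range f) := by
    rw [fst]
    congr 1
    ext y
    constructor
    · rintro ⟨a, ha, rfl⟩
      exact ⟨⟨a, ha⟩, (hθ ⟨a, ha⟩).symm⟩
    · rintro ⟨a, rfl⟩
      exact ⟨a, a.2, hθ a⟩
  obtain ⟨c, hc⟩ := exists_alternating θ m n (reg_of_isWeaklyRegular f _ hθ hf) g (by
    intro v
    rw [hspan, Fintype.linearCombination_apply, Finset.mul_sum]
    refine Submodule.sum_mem _ fun j _ => ?_
    rw [smul_eq_mul, mul_left_comm]
    exact Ideal.mul_mem_left _ _ (hg j))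
  rw [hspan] at hc
  have h1 : c (fun a => m a) = c (Pi.basisFun R (Fin n)) * M.det := by
    have h2 : (fun a : Fin n => m a) = M := funext hm
    rw [h2]
    conv_lhs => rw [AlternatingMap.eq_smul_basis_det (Pi.basisFun R (Fin n)) c]
    rw [AlternatingMap.smul_apply, Pi.basisFun_det_apply]
    rfl
  rw [h1] at hc
  have h3 : g = (g - c (Pi.basisFun R (Fin n)) * M.det) + c (Pi.basisFun R (Fin n)) * M.det := by ring
  rw [h3]
  exact add_mem (Ideal.mem_sup_left hc) (Ideal.mem_sup_right (Ideal.mul_mem_left _ _ (Ideal.mem_span_singleton_self _)))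

end Matrix

end Groth.Agent.Pi1A.Linkage419
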