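import Groth.Agent.Pi1A.NormalEtale
import Groth.Agent.Pi1A.ClopenCrit
import Mathlib.AlgebraicGeometry.PullbackCarrier
import Mathlib.AlgebraicGeometry.Morphisms.Preimmersion

/-!
# Full faithfulness of restriction of finite étale covers on a normal integral scheme
-/

set_option autoImplicit false
universe u

open CategoryTheory CategoryTheory.Limits AlgebraicGeometry

namespace Groth.Agent.Pi1A.NormalFF

variable {X : Scheme.{u}}

theorem fullyFaithful_of_normal [IsIntegral X] (hX : Pi1.IsNormalScheme X) {X' : Scheme.{u}}
    (g : X' ⟶ X) (hinj : ∀ T : FEt.Cat X, Function.Injective (pullback.fst T.hom g))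
    (hgen : genericPoint X ∈ Set.range g)
    (hdense : ∀ (T : FEt.Cat X) (W : Set ↥(pullback T.hom g)), IsOpen W → W.Nonempty →
      ∃ w ∈ W, T.hom (pullback.fst T.hom g w) = genericPoint X) :
    (FEt.restrict g).Full ∧ (FEt.restrict g).Faithful := by
  apply ClopenCrit.restrict_fullyFaithful_of_isClopen
  · intro T D hD hpD
    by_contra hne
    have hne' : D.Nonempty := Set.nonempty_iff_ne_empty.mpr hne
    have : Etale T.hom := T.prop.2
    obtain ⟨t, htD, ht⟩ := NormalEtale.exists_mem_fiber (X := X) T.hom D hD.2 hne'
    have hr : t ∈ Set.range (pullback.fst T.hom g) := by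
      rw [Scheme.Pullback.range_fst, Set.mem_preimage, ht]
      exact hgen
    obtain ⟨q, rfl⟩ := hr
    have : q ∈ (pullback.fst T.hom g) ⁻¹' D := htD
    rw [hpD] at this
    exact this
  · intro T V hV
    have : Etale T.hom := T.prop.2
    set C : Set T.left := (pullback.fst T.hom g) '' V ∩ {t | T.hom t = genericPoint X} with hC
    have hC' : ∀ t ∈ C, T.hom t = genericPoint X := fun t ht => ht.2
    refine ⟨closure C, NormalEtale.isClopen_closure hX T.hom C hC', ?_⟩
    have hcl : IsClopen ((pullback.fst T.hom g) ⁻¹' (closure C)) :=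
      (NormalEtale.isClopen_closure hX T.hom C hC').preimage (pullback.fst T.hom g).continuous
    have key (w : ↥(pullback T.hom g)) (hw : T.hom (pullback.fst T.hom g w) = genericPoint X) :
        w ∈ (pullback.fst T.hom g) ⁻¹' (closure C) ↔ w ∈ V := by
      constructor
      · intro h
        obtain ⟨⟨w', hw', he⟩, -⟩ := NormalEtale.mem_of_mem_closure hX T.hom C hC' _ h hw
        rwa [← hinj T he]
      · intro h
        exact subset_closure ⟨⟨w, h, rfl⟩, hw⟩
    by_contra hne
    have hsd : ((pullback.fst T.hom g) ⁻¹' (closure C) \ V ∪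
        V \ (pullback.fst T.hom g) ⁻¹' (closure C)).Nonempty := by
      rw [Set.nonempty_iff_ne_empty]
      intro he
      rw [Set.union_empty_iff, Set.sdiff_eq_empty, Set.sdiff_eq_empty] at he
      exact hne (Set.Subset.antisymm he.1 he.2)
    obtain ⟨w, hw, hwg⟩ := hdense T _ ((hcl.diff hV).union (hV.diff hcl)).2 hsd
    rcases hw with hw | hw
    · exact hw.2 ((key w hwg).mp hw.1)
    · exact hw.2 ((key w hwg).mpr hw.1)

theorem restrict_opens [IsIntegral X] (hX : Pi1.IsNormalScheme X) (U : X.Opens)
    (hU : (U : Set X).Nonempty) : (FEt.restrict U.ι).Full ∧ (FEt.restrict U.ι).Faithful := by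
  apply fullyFaithful_of_normal hX
  · intro T
    exact (pullback.fst T.hom U.ι).isOpenEmbedding.injective
  · rw [Scheme.Opens.range_ι]
    exact ((genericPoint_spec X).mem_open_set_iff U.isOpen).mpr (by simpa using hU)
  · intro T W hW hne
    have : Etale T.hom := T.prop.2
    obtain ⟨w, hw, h⟩ := NormalEtale.exists_mem_fiber (X := X) (pullback.fst T.hom U.ι ≫ T.hom) W hW hne
    exact ⟨w, hw, by rw [← h, Scheme.Hom.comp_apply]⟩

theorem restrict_genericPoint [IsIntegral X] (hX : Pi1.IsNormalScheme X) :
    (FEt.restrict (X.fromSpecStalk (genericPoint X))).Full ∧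
    (FEt.restrict (X.fromSpecStalk (genericPoint X))).Faithful := by
  have hrange : Set.range (X.fromSpecStalk (genericPoint X)) = {genericPoint X} := by
    rw [Scheme.range_fromSpecStalk]
    ext y
    simp only [Set.mem_ofPred_eq, Set.mem_singleton_iff]
    constructor
    · intro h
      exact (h.antisymm (genericPoint_specializes y)).eq
    · rintro rfl
      exact specializes_rfl
  have hpre : IsPreimmersion (X.fromSpecStalk (genericPoint X)) := inferInstance
  apply fullyFaithful_of_normal hX
  · intro T
    have : IsPreimmersion (pullback.fst T.hom (X.fromSpecStalk (genericPoint X))) :=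
      MorphismProperty.pullback_fst _ _ hpre
    exact (pullback.fst T.hom (X.fromSpecStalk (genericPoint X))).isEmbedding.injective
  · rw [hrange]; rfl
  · intro T W hW ⟨w, hw⟩
    refine ⟨w, hw, ?_⟩
    have : T.hom (pullback.fst T.hom (X.fromSpecStalk (genericPoint X)) w) ∈
        Set.range (X.fromSpecStalk (genericPoint X)) := by
      rw [← Scheme.Hom.comp_apply, pullback.condition, Scheme.Hom.comp_apply]
      exact ⟨_, rfl⟩
    rwa [hrange] at this

end Groth.Agent.Pi1A.NormalFF
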