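import Groth.Agent.Hensel.QfGoingDown
import Groth.Agent.UnramA.FieldFibre
import Mathlib.RingTheory.EssentialFiniteness
import Mathlib.RingTheory.Unramified.LocalRing
import Mathlib.RingTheory.Unramified.LocalStructure
import Mathlib.RingTheory.Finiteness.NilpotentKer
import Mathlib.RingTheory.Etale.Locus

/-!
# Purity of the ramification locus: basic facts on local algebras essentially of finite type
-/

set_option autoImplicit false

universe u

open IsLocalRing

namespace Groth.Agent.Pi1A.PurRamBase121

/-- A local ring essentially of finite type is a localization of a finite type subalgebra at a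
prime. -/
theorem exists_model (A B : Type u) [CommRing A] [CommRing B] [Algebra A B]
    [Algebra.EssFiniteType A B] [IsLocalRing B] :
    ∃ (S : Subalgebra A B) (q : Ideal S) (_ : q.IsPrime), Algebra.FiniteType A S ∧
      q = (maximalIdeal B).comap (algebraMap S B) ∧ IsLocalization.AtPrime B q := by
  let S := Algebra.EssFiniteType.subalgebra A B
  have hS : Algebra.FiniteType A S := inferInstance
  let q : Ideal S := (maximalIdeal B).comap (algebraMap S B)
  have hq : q.IsPrime := inferInstance
  have h : IsLocalization (Algebra.EssFiniteType.submonoid A B) B := inferInstance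
  have h2 : (Algebra.EssFiniteType.submonoid A B) = q.primeCompl := by
    ext x
    change IsUnit (algebraMap S B x) ↔ x ∉ q
    rw [Ideal.mem_comap, IsLocalRing.mem_maximalIdeal, mem_nonunits_iff, not_not]
  refine ⟨S, q, hq, hS, rfl, ?_⟩
  rw [h2] at h
  exact h

/-- A local algebra `B` essentially of finite type and formally étale over a Noetherian ring `A` is
a localization of an étale algebra. -/
theorem exists_etale_model (A B : Type u) [CommRing A] [IsNoetherianRing A] [CommRing B]
    [Algebra A B] [Algebra.EssFiniteType A B] [IsLocalRing B] [Algebra.FormallyEtale A B] :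
    ∃ (S : Type u) (_ : CommRing S) (_ : Algebra A S) (_ : Algebra S B) (_ : IsScalarTower A S B)
      (q : Ideal S) (_ : q.IsPrime), Algebra.Etale A S ∧ IsLocalization.AtPrime B q := by
  obtain ⟨S, q, hq, hS, -, hloc⟩ := exists_model A B
  have hfp : Algebra.FinitePresentation A S :=
    Algebra.FinitePresentation.of_finiteType.mp inferInstance
  let e : B ≃ₐ[S] Localization.AtPrime q := IsLocalization.algEquiv q.primeCompl _ _
  have het : Algebra.IsEtaleAt A q := Algebra.FormallyEtale.of_equiv (e.restrictScalars A)
  obtain ⟨f, hf, hft⟩ := Algebra.exists_etale_of_isEtaleAt (R := A) q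
  let g : Localization.Away f →ₐ[S] B :=
    IsLocalization.Away.liftAlgHom (f := Algebra.ofId S B) f
      (IsLocalization.map_units B (⟨f, hf⟩ : q.primeCompl))
  let _ : Algebra (Localization.Away f) B := g.toRingHom.toAlgebra
  have h1 : IsScalarTower S (Localization.Away f) B := .of_algebraMap_eq' g.comp_algebraMap.symm
  have h2 : IsScalarTower A (Localization.Away f) B := by
    refine .of_algebraMap_eq fun a => ?_
    rw [IsScalarTower.algebraMap_apply A S (Localization.Away f),
      ← IsScalarTower.algebraMap_apply S (Localization.Away f) B,
      ← IsScalarTower.algebraMap_apply A S B]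
  let Q : Ideal (Localization.Away f) := (maximalIdeal B).comap (algebraMap (Localization.Away f) B)
  have hQ : Q.IsPrime := inferInstance
  have hM : Submonoid.powers f ≤ q.primeCompl := by
    rw [Submonoid.powers_le]
    exact hf
  have h3 : IsLocalization.AtPrime B Q := by
    have := IsLocalization.isLocalization_of_submonoid_le (Localization.Away f) B
      (Submonoid.powers f) q.primeCompl hM
    refine IsLocalization.of_le_of_exists_dvd (M := q.primeCompl.map
      (algebraMap S (Localization.Away f))) (S := B) Q.primeCompl ?_ ?_
    · rintro _ ⟨s, hs, rfl⟩ hmem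
      have h4 : algebraMap S B s ∈ maximalIdeal B := by
        rw [IsScalarTower.algebraMap_apply S (Localization.Away f) B]
        exact hmem
      exact ((IsLocalRing.mem_maximalIdeal _).mp h4)
        (IsLocalization.map_units B (⟨s, hs⟩ : q.primeCompl))
    · intro x hx
      obtain ⟨⟨s, t⟩, hst⟩ := IsLocalization.surj (Submonoid.powers f) x
      refine ⟨algebraMap S _ s, ⟨s, ?_, rfl⟩, ?_⟩
      · intro hs
        apply hx
        have h5 : algebraMap S B s ∈ maximalIdeal B := by
          rw [← IsLocalization.AtPrime.map_eq_maximalIdeal q B]
          exact Ideal.mem_map_of_mem _ hs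
        change algebraMap _ B x ∈ maximalIdeal B
        have h6 := congrArg (algebraMap (Localization.Away f) B) hst
        rw [map_mul, ← IsScalarTower.algebraMap_apply S (Localization.Away f) B,
          ← IsScalarTower.algebraMap_apply S (Localization.Away f) B] at h6
        rw [← h6] at h5
        have hu : IsUnit (algebraMap S B t) :=
          IsLocalization.map_units B (⟨t, hM t.2⟩ : q.primeCompl)
        exact ((maximalIdeal.isMaximal B).isPrime.mem_or_mem h5).resolve_right fun h =>
          ((IsLocalRing.mem_maximalIdeal _).mp h) hu
      · exact ⟨algebraMap S _ t, hst.symm⟩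
  exact ⟨Localization.Away f, inferInstance, inferInstance, inferInstance, h2, Q, hQ, hft, h3⟩

/-- Formally étale local algebras essentially of finite type over Noetherian rings are flat. -/
theorem flat_of_formallyEtale (A B : Type u) [CommRing A] [IsNoetherianRing A] [CommRing B]
    [Algebra A B] [Algebra.EssFiniteType A B] [IsLocalRing B] [Algebra.FormallyEtale A B] :
    Module.Flat A B := by
  obtain ⟨S, _, _, _, _, q, _, _, hloc⟩ := exists_etale_model A B
  have h1 : Module.Flat A S := inferInstance
  have h2 : Module.Flat S B := IsLocalization.flat B q.primeCompl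
  exact Module.Flat.trans A S B

/-- Formally étale local extensions essentially of finite type preserve the dimension. -/
theorem ringKrullDim_eq_of_formallyEtale (A B : Type u) [CommRing A] [IsNoetherianRing A]
    [IsLocalRing A] [CommRing B] [Algebra A B] [Algebra.EssFiniteType A B] [IsLocalRing B]
    [IsLocalHom (algebraMap A B)] [Algebra.FormallyEtale A B] :
    ringKrullDim B = ringKrullDim A := by
  have h1 : Module.Flat A B := flat_of_formallyEtale A B
  have h2 : IsNoetherianRing B := Algebra.EssFiniteType.isNoetherianRing A B
  exact UnramA.FieldFibre.ringKrullDim_eq A B Algebra.FormallyUnramified.map_maximalIdeal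

/-- Formally étale local extensions of regular local rings are regular. -/
theorem isRegularLocalRing_of_formallyEtale (A B : Type u) [CommRing A] [IsRegularLocalRing A]
    [CommRing B] [Algebra A B] [Algebra.EssFiniteType A B] [IsLocalRing B]
    [IsLocalHom (algebraMap A B)] [Algebra.FormallyEtale A B] :
    IsRegularLocalRing B := by
  have h1 : Module.Flat A B := flat_of_formallyEtale A B
  have h2 : IsNoetherianRing B := Algebra.EssFiniteType.isNoetherianRing A B
  exact (UnramA.FieldFibre.isRegularLocalRing_iff A B
    Algebra.FormallyUnramified.map_maximalIdeal).mpr inferInstance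

/-- A formally étale nonzero local algebra over a domain dominates it. -/
theorem injective_of_formallyEtale (A B : Type u) [CommRing A] [IsNoetherianRing A] [IsDomain A]
    [CommRing B] [Algebra A B] [Algebra.EssFiniteType A B] [IsLocalRing B]
    [Algebra.FormallyEtale A B] : Function.Injective (algebraMap A B) := by
  have h1 : Module.Flat A B := flat_of_formallyEtale A B
  have h2 : Module.IsTorsionFree A B := inferInstance
  rw [injective_iff_map_eq_zero]
  intro a ha
  by_contra h0
  have h3 : IsRegular a := IsRegular.of_ne_zero h0
  have h4 : Function.Injective (fun x : B => a • x) := h2.isSMulRegular h3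
  exact one_ne_zero (h4 (show a • (1 : B) = a • 0 by
    rw [smul_zero, Algebra.smul_def, ha, zero_mul]))

end Groth.Agent.Pi1A.PurRamBase121
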