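import Groth.Agent.Pi1A.Thick
import Groth.Agent.Pi1A.HomGlue
import Groth.Agent.Pi1A.EtaleGlue
import Mathlib.RingTheory.Regular.Free

/-!
# Purity: the hypersurface step

Let `(x, u, v)` be a regular sequence in `A`, `S` a finite `A`-algebra with `(x, u)` regular on
`S`, étale over `D(x)`, `D(u)`, `D(v)`. If `S / xS → C` is a map to an étale `A / x`-algebra `C`
which is an isomorphism over `D(u) ∪ D(v)`, then `S / xS ≅ C`.
-/

open TensorProduct

namespace Groth.Agent.Pi1A.Purity

universe u₁ u₂ u₃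

/-- Multiplication by a power of `x` factors through a finite free module. -/
theorem exists_factor {A S : Type*} [CommRing A] [CommRing S] [Algebra A S] (x : A)
    [Module.FinitePresentation A S]
    (hx : ∀ s : S, x • s = 0 → s = 0) [Module.Flat A (Loc x S)] :
    ∃ (k M : ℕ) (i : S →ₗ[A] (Fin k →₀ A)) (j : (Fin k →₀ A) →ₗ[A] S),
      ∀ s, j (i s) = x ^ M • s := by
  let q : S →ₗ[A] Loc x S := (IsScalarTower.toAlgHom A S (Loc x S)).toLinearMap
  have hq : Function.Injective q := algebraMap_loc_injective hx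
  obtain ⟨k, h₂, h₃, hh⟩ := Module.Flat.exists_factorization_of_finitePresentation q
  have h1 : ∀ l : Fin k, ∃ (n : ℕ) (s : S), x ^ n • h₃ (Finsupp.single l 1) = q s :=
    fun l => exists_smul_eq x _
  choose n s hs using h1
  let M := ∑ l, n l
  have hM : ∀ l, n l ≤ M := fun l => Finset.single_le_sum (fun _ _ => Nat.zero_le _)
    (Finset.mem_univ l)
  let j : (Fin k →₀ A) →ₗ[A] S := Finsupp.linearCombination A (fun l => x ^ (M - n l) • s l)
  have hj : q ∘ₗ j = x ^ M • h₃ := by
    refine Finsupp.lhom_ext' fun l => LinearMap.ext_ring ?_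
    simp only [LinearMap.comp_apply, Finsupp.lsingle_apply, LinearMap.smul_apply, j,
      Finsupp.linearCombination_single, one_smul, map_smul]
    rw [← hs, smul_smul, ← pow_add, Nat.sub_add_cancel (hM l)]
  refine ⟨k, M, h₂, j, fun t => hq ?_⟩
  have := DFunLike.congr_fun hj (h₂ t)
  simp only [LinearMap.comp_apply, LinearMap.smul_apply] at this
  rw [this, map_smul]
  congr 1
  exact (DFunLike.congr_fun hh t).symm

variable {A : Type u₁} {S : Type u₂} [CommRing A] [CommRing S] [Algebra A S]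

/-- In a flat `A / x ^ N`-module, the annihilator of `x ^ k` (`k < N`) is contained in `x E`. -/
theorem exists_eq_smul_of_pow_smul_eq_zero {x : A} (hx : ∀ a : A, x * a = 0 → a = 0) {N k : ℕ}
    (hk : k < N) {E : Type*} [AddCommGroup E] [Module A E] [Module (A ⧸ Ideal.span {x ^ N}) E]
    [IsScalarTower A (A ⧸ Ideal.span {x ^ N}) E] [Module.Flat (A ⧸ Ideal.span {x ^ N}) E]
    (e : E) (he : x ^ k • e = 0) : ∃ e' : E, e = x • e' := by
  have hpow : ∀ (n : ℕ) (a : A), x ^ n * a = 0 → a = 0 := by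
    intro n
    induction n with
    | zero => intro a ha; simpa using ha
    | succ n ih =>
      intro a ha
      rw [pow_succ', mul_assoc] at ha
      exact ih a (hx _ ha)
  obtain ⟨e', he'⟩ := exists_eq_smul_of_flat (R := A ⧸ Ideal.span {x ^ N})
    (algebraMap A _ (x ^ k)) (algebraMap A _ (x ^ (N - k))) (by
      intro a ha
      obtain ⟨a, rfl⟩ := Ideal.Quotient.mk_surjective a
      rw [Ideal.Quotient.algebraMap_eq, ← map_mul, Ideal.Quotient.eq_zero_iff_mem,
        Ideal.mem_span_singleton'] at ha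
      obtain ⟨b, hb⟩ := ha
      refine ⟨Ideal.Quotient.mk _ b, ?_⟩
      rw [Ideal.Quotient.algebraMap_eq, ← map_mul]
      congr 1
      have h1 : x ^ k * (a - x ^ (N - k) * b) = 0 := by
        have : x ^ N = x ^ k * x ^ (N - k) := by rw [← pow_add]; congr 1; lia
        rw [mul_sub, ← hb, ← mul_assoc, this]
        ring
      exact sub_eq_zero.mp (hpow _ _ h1)) e (by rwa [algebraMap_smul])
  refine ⟨x ^ (N - k - 1) • e', ?_⟩
  rw [he', algebraMap_smul, smul_smul, ← pow_succ']
  congr 2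
  lia

theorem hypersurface_bijective {x u v : A} (h : RegTriple x u v) (hS : RegPair x u S)
    [Module.FinitePresentation A S] [Module.Flat A (Loc x S)]
    [Algebra.FormallySmooth A (Loc u S)] [Algebra.FormallyUnramified A (Loc u S)]
    [Algebra.FormallySmooth A (Loc v S)]
    (C : Type u₃) [CommRing C] [Algebra A C] [Algebra (A ⧸ Ideal.span {x}) C]
    [IsScalarTower A (A ⧸ Ideal.span {x}) C] [Algebra.Etale (A ⧸ Ideal.span {x}) C]
    (φ : S →ₐ[A] C)
    (hinj : ∀ s, φ s = 0 → ∃ (n : ℕ) (t : S), u ^ n • s = x • t)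
    (hsu : ∀ c, ∃ (n : ℕ) (s : S), φ s = u ^ n • c)
    (hsv : ∀ c, ∃ (n : ℕ) (s : S), φ s = v ^ n • c) :
    Function.Surjective φ ∧ ∀ s, φ s = 0 → ∃ t, s = x • t := by
  refine ⟨?_, fun s hs => ?_⟩
  swap
  · obtain ⟨n, t, ht⟩ := hinj s hs
    exact (hS.pow_right n).reg' s t ht
  obtain ⟨k, M, i, j, hij⟩ := exists_factor x hS.reg
  let N := M + 1
  obtain ⟨E, _, _, _, _, hE, π, hπ, hπk⟩ := exists_thick x N (by lia) C
  have hflatE : Module.Flat (A ⧸ Ideal.span {x ^ N}) E := inferInstance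
  have hflatC : Module.Flat (A ⧸ Ideal.span {x}) C := inferInstance
  have hxN : ∀ e : E, x ^ N • e = 0 := by
    intro e
    rw [← algebraMap_smul (A ⧸ Ideal.span {x ^ N}), Ideal.Quotient.algebraMap_eq,
      Ideal.Quotient.eq_zero_iff_mem.mpr (Ideal.mem_span_singleton_self _), zero_smul]
  have hxC : ∀ c : C, x • c = 0 := by
    intro c
    rw [← algebraMap_smul (A ⧸ Ideal.span {x}), Ideal.Quotient.algebraMap_eq,
      Ideal.Quotient.eq_zero_iff_mem.mpr (Ideal.mem_span_singleton_self _), zero_smul]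
  have hRE : RegPair u v E :=
    (((h.regPair_quotient_pow N).algebraMap (A' := A ⧸ Ideal.span {x ^ N})).of_flat
      E).of_algebraMap
  have hRC : RegPair u v C :=
    ((h.regPair_quotient.algebraMap (A' := A ⧸ Ideal.span {x})).of_flat C).of_algebraMap
  have hker : IsNilpotent (RingHom.ker (π : E →+* C)) := by
    refine ⟨N, ?_⟩
    have : RingHom.ker (π : E →+* C) ≤ Ideal.span {algebraMap A E x} := by
      intro e he
      obtain ⟨e', rfl⟩ := hπk e he
      rw [Ideal.mem_span_singleton']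
      exact ⟨e', by rw [Algebra.smul_def, mul_comm]⟩
    rw [Submodule.zero_eq_bot, eq_bot_iff]
    refine (Ideal.pow_right_mono this N).trans ?_
    rw [Ideal.span_singleton_pow, Ideal.span_singleton_le_iff_mem, Ideal.mem_bot, ← map_pow,
      Algebra.algebraMap_eq_smul_one, hxN]
  obtain ⟨φN, hφN⟩ := exists_lift (v := v) hRE hRC.reg π hπ hker φ
  have hφN' : ∀ s, π (φN s) = φ s := fun s => DFunLike.congr_fun hφN s
  -- surjectivity up to powers of `w`
  have hsurj : ∀ w : A, (∀ c, ∃ (n : ℕ) (s : S), φ s = w ^ n • c) →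
      ∀ (k : ℕ) (e : E), ∃ (n : ℕ) (s : S) (e' : E), w ^ n • e = φN s + x ^ k • e' := by
    intro w hw k
    induction k with
    | zero => intro e; exact ⟨0, 0, e, by simp⟩
    | succ k ih =>
      intro e
      obtain ⟨n, s, e', he⟩ := ih e
      obtain ⟨m, s', hs'⟩ := hw (π e')
      obtain ⟨e'', he''⟩ := hπk (φN s' - w ^ m • e') (by
        rw [map_sub, hφN', hs', map_smul, sub_self])
      refine ⟨n + m, w ^ m • s + x ^ k • s', -e'', ?_⟩
      have h1 : w ^ m • e' = φN s' - x • e'' := by rw [← he'']; abel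
      rw [pow_add, mul_comm (w ^ n), mul_smul, he, smul_add, smul_comm, h1, map_add, map_smul,
        map_smul, smul_sub, smul_neg, pow_succ, mul_smul]
      abel
  have hsurj' : ∀ w : A, (∀ c, ∃ (n : ℕ) (s : S), φ s = w ^ n • c) →
      ∀ (e : E), ∃ (n : ℕ) (s : S), φN s = w ^ n • e := by
    intro w hw e
    obtain ⟨n, s, e', he⟩ := hsurj w hw N e
    exact ⟨n, s, by rw [he, hxN, add_zero]⟩
  -- injectivity modulo `x ^ N`
  have hinj' : ∀ k ≤ N, ∀ s : S, φN s = 0 → ∃ t, s = x ^ k • t := by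
    intro k
    induction k with
    | zero => intro _ s _; exact ⟨s, by simp⟩
    | succ k ih =>
      intro hk s hs
      obtain ⟨t, rfl⟩ := ih (by lia) s hs
      rw [map_smul] at hs
      obtain ⟨e', he'⟩ := exists_eq_smul_of_pow_smul_eq_zero h.reg (by lia : k < N) _ hs
      have h1 : φ t = 0 := by rw [← hφN', he', map_smul, hxC]
      obtain ⟨n, t', ht'⟩ := hinj t h1
      obtain ⟨t'', rfl⟩ := (hS.pow_right n).reg' t t' ht'
      exact ⟨t'', by rw [pow_succ, mul_smul]⟩
  intro c
  obtain ⟨e, rfl⟩ := hπ c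
  obtain ⟨n, s₁, hs₁⟩ := hsurj' u hsu e
  obtain ⟨m, s₂, hs₂⟩ := hsurj' v hsv e
  obtain ⟨t, ht⟩ := hinj' N le_rfl (v ^ m • s₁ - u ^ n • s₂) (by
    rw [map_sub, map_smul, map_smul, hs₁, hs₂, smul_comm, sub_self])
  -- lift to the free module
  have hF : ∃ f f' : Fin k →₀ A, i s₁ = u ^ n • f + x ^ N • f' := by
    have hi : v ^ m • i s₁ = u ^ n • i s₂ + x ^ N • i t := by
      rw [← map_smul, ← map_smul, ← map_smul, ← ht, map_sub]
      abel
    have hl : ∀ l : Fin k, ∃ d e : A, i s₁ l = u ^ n * d + x ^ N * e := by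
      intro l
      have h1 := DFunLike.congr_fun hi l
      simp only [Finsupp.smul_apply, Finsupp.add_apply, smul_eq_mul] at h1
      obtain ⟨d, hd⟩ := ((h.regPair_quotient_pow N).pow n m).reg'
        (Ideal.Quotient.mk _ (i s₁ l)) (Ideal.Quotient.mk _ (i s₂ l)) (by
          rw [Algebra.smul_def, Algebra.smul_def, Ideal.Quotient.algebraMap_eq, ← map_mul,
            ← map_mul, Ideal.Quotient.eq, Ideal.mem_span_singleton']
          exact ⟨i t l, by rw [h1]; ring⟩)
      obtain ⟨d, rfl⟩ := Ideal.Quotient.mk_surjective d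
      rw [Algebra.smul_def, Ideal.Quotient.algebraMap_eq, ← map_mul, Ideal.Quotient.eq,
        Ideal.mem_span_singleton'] at hd
      obtain ⟨e, he⟩ := hd
      exact ⟨d, e, by linear_combination -he⟩
    choose d e hde using hl
    refine ⟨Finsupp.equivFunOnFinite.symm d, Finsupp.equivFunOnFinite.symm e, ?_⟩
    ext l
    simp [hde l]
  obtain ⟨f, f', hf⟩ := hF
  have h1 : x ^ M • s₁ = u ^ n • j f + x ^ N • j f' := by
    rw [← hij, hf, map_add, map_smul, map_smul]
  have h2 : u ^ n • j f = x ^ M • (s₁ - x • j f') := by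
    rw [smul_sub, h1, smul_smul, ← pow_succ]
    abel
  obtain ⟨s, hs⟩ := (hS.pow M n).reg' _ _ h2
  have h3 : s₁ - x • j f' = u ^ n • s := by
    rw [hs, smul_comm] at h2
    exact (hS.pow_inj M h2).symm
  refine ⟨s, ?_⟩
  apply hRC.pow_inj n
  rw [← map_smul, ← h3, map_sub, map_smul, hxC, sub_zero, ← hφN', hs₁, map_smul]

end Groth.Agent.Pi1A.Purity
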