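import Groth.Agent.Localalg.WiebeLink
import Groth.Agent.Localalg.ExtLift
import Groth.Agent.S0342
import Groth.Agent.Etalg.NormalDvr
import Groth.Agent.Divis.DepthTwo
import Mathlib.RingTheory.Derivation.Basic
import Mathlib.RingTheory.Regular.Flat

/-!
# Adjunction for the Jacobian: the trace of `((f) : I)` modulo `t` is `Δ B`

`B = R/I` a normal domain of dimension two, `R` regular local of dimension `n + 2`, generically (in
codimension one of `B`) `I` is generated by `n` elements with invertible Jacobian.  If `f_1..f_n ∈ I`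
and `t` form a regular sequence and `g I ⊆ (f, t)`, then `g ∈ Δ B + t B`, where `Δ = det(D_j f_i)`.
-/

set_option autoImplicit false
universe u

open IsLocalRing RingTheory.Sequence

namespace Groth.Agent.Pi1A.RamAdj

/-- Depth two of a normal two-dimensional local domain, with prescribed first element. -/
theorem exists_second {B : Type u} [CommRing B] [IsDomain B] [IsNoetherianRing B] [IsLocalRing B]
    [IsIntegrallyClosed B] (hdimB : ringKrullDim B = 2) {t : B} (ht : t ∈ maximalIdeal B)
    (ht0 : t ≠ 0) :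
    ∃ v ∈ maximalIdeal B, ∀ x : B, v * x ∈ Ideal.span {t} → x ∈ Ideal.span {t} := by
  refine Groth.Agent.Divis.DepthTwo.exists_regular_of_forall (maximalIdeal B) (Ideal.span {t}) ?_
  intro p hp hle x hx
  refine ⟨1, fun h1 => hp.ne_top ((Ideal.eq_top_iff_one p).mpr h1), ?_⟩
  rw [one_smul]
  by_contra hxt
  have hdvr : IsDiscreteValuationRing B := by
    refine Groth.Agent.Etalg.NormalDvr.dvr_of_mul_mem_span B ht ht0 hxt fun m hm => ?_
    have := hx m (hle hm)
    rw [Ideal.mem_span_singleton'] at this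
    obtain ⟨k, hk⟩ := this
    exact ⟨k, by rw [hk, smul_eq_mul, mul_comm]⟩
  have h1 : ringKrullDim B = 1 :=
    IsPrincipalIdealRing.ringKrullDim_eq_one _ (IsDiscreteValuationRing.not_isField _)
  rw [hdimB] at h1
  exact absurd h1 (by decide)

/-- Linkage at a prime: if `y h_j ∈ (f)` for all `j` and `s f_i ∈ (h)` with matrix `M`, then
`s' y ∈ (f) + (det M)` for some `s' ∉ P`. -/
theorem linkage_at {R : Type u} [CommRing R] [IsNoetherianRing R] {n : ℕ} (P : Ideal R) [P.IsPrime]
    (f h : Fin n → R) (M : Matrix (Fin n) (Fin n) R) (s : R) (hs : s ∉ P)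
    (hM : ∀ i, s * f i = ∑ j, M i j * h j) (hf : IsWeaklyRegular R (List.ofFn f))
    (hfP : ∀ i, f i ∈ P) (y : R) (hy : ∀ j, y * h j ∈ Ideal.span (Set.range f)) :
    ∃ s' : R, s' ∉ P ∧ s' * y ∈ Ideal.span (Set.range f) ⊔ Ideal.span {M.det} := by
  let L := Localization.AtPrime P
  let φ : R →+* L := algebraMap R L
  have hsu : IsUnit (φ s) := IsLocalization.map_units L (⟨s, hs⟩ : P.primeCompl)
  obtain ⟨v, hv⟩ := hsu.exists_left_inv
  have hspan : (Ideal.span (Set.range f)).map φ = Ideal.span (Set.range (φ ∘ f)) := by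
    rw [Ideal.map_span, ← Set.range_comp]
  have h1 : φ y ∈ Ideal.span (Set.range (φ ∘ f)) ⊔
      Ideal.span {(v • φ.mapMatrix M).det} := by
    refine Groth.Agent.Localalg.WiebeLink.mem_of_mul_mem_of_isLocalRing (φ ∘ f) (φ ∘ h)
      (v • φ.mapMatrix M) ?_ ?_ ?_ (φ y) ?_
    · intro i
      have h2 : φ (s * f i) = ∑ j, φ (M i j) * φ (h j) := by
        rw [hM, map_sum]
        exact Finset.sum_congr rfl fun j _ => map_mul _ _ _
      calc (φ ∘ f) i = v * φ (s * f i) := by
            rw [map_mul, ← mul_assoc, hv, one_mul]; rfl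
        _ = ∑ j, (v • φ.mapMatrix M) i j * (φ ∘ h) j := by
            rw [h2, Finset.mul_sum]
            refine Finset.sum_congr rfl fun j _ => ?_
            simp [mul_assoc]
    · have h3 := hf.of_isLocalization L P.primeCompl
      rwa [List.map_ofFn] at h3
    · intro i
      have := (IsLocalization.AtPrime.to_map_mem_maximal_iff L P (f i)).2 (hfP i)
      exact this
    · intro j
      have h3 := Ideal.mem_map_of_mem φ (hy j)
      rwa [hspan, map_mul] at h3
  have h2 : Ideal.span (Set.range (φ ∘ f)) ⊔ Ideal.span {(v • φ.mapMatrix M).det} ≤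
      (Ideal.span (Set.range f) ⊔ Ideal.span {M.det}).map φ := by
    rw [Ideal.map_sup, hspan]
    refine sup_le_sup le_rfl ?_
    rw [Ideal.span_singleton_le_iff_mem, Matrix.det_smul, ← RingHom.map_det]
    exact Ideal.mul_mem_left _ _ (Ideal.mem_map_of_mem φ (Ideal.mem_span_singleton_self _))
  have h3 := (IsLocalization.algebraMap_mem_map_algebraMap_iff P.primeCompl L _ y).1 (h2 h1)
  obtain ⟨s', hs', h4⟩ := h3
  exact ⟨s', hs', h4⟩

theorem gamma {R B : Type u} [CommRing R] [CommRing B] [Algebra R B] [IsRegularLocalRing R] {n : ℕ}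
    (hdim : ringKrullDim R = (n + 2 : ℕ)) [IsDomain B] [IsIntegrallyClosed B]
    (hsurj : Function.Surjective (algebraMap R B)) (hdimB : ringKrullDim B = 2)
    (D : Fin n → Derivation ℤ R R)
    (hgen : ∀ (q : Ideal B) [q.IsPrime], q.height = 1 → ∃ p : Fin n → R,
      (∀ i, algebraMap R B (p i) = 0) ∧
      algebraMap R B (Matrix.det (Matrix.of fun i j => D j (p i))) ∉ q ∧
      ∀ z, algebraMap R B z = 0 → ∃ s, algebraMap R B s ∉ q ∧ s * z ∈ Ideal.span (Set.range p))
    (t : R) (ht : t ∈ maximalIdeal R) (htB : algebraMap R B t ≠ 0) (f : Fin n → R)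
    (hf : ∀ i, algebraMap R B (f i) = 0)
    (hreg : RingTheory.Sequence.IsWeaklyRegular R (List.ofFn f ++ [t]))
    (hΔ : algebraMap R B (Matrix.det (Matrix.of fun i j => D j (f i))) ≠ 0) (g : R)
    (hg : ∀ z, algebraMap R B z = 0 → g * z ∈ Ideal.span (Set.range f) ⊔ Ideal.span {t}) :
    ∃ c : R, algebraMap R B (g - Matrix.det (Matrix.of fun i j => D j (f i)) * c) ∈
      Ideal.span {algebraMap R B t} := by
  have hNB : IsNoetherianRing B := isNoetherianRing_of_surjective R B (algebraMap R B) hsurj
  have hLB : IsLocalRing B := IsLocalRing.of_surjective' (algebraMap R B) hsurj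
  have hloc : IsLocalHom (algebraMap R B) := hsurj.isLocalHom
  have hGor : LocCoh.IsGorensteinLocalRing R := Groth.Agent.S0342.result R
  set α := algebraMap R B with hα
  let I : Ideal R := RingHom.ker α
  have hImem : ∀ z, z ∈ I ↔ α z = 0 := fun z => RingHom.mem_ker
  have hIm : I ≤ maximalIdeal R := IsLocalRing.le_maximalIdeal (RingHom.ker_ne_top α)
  set J : Ideal R := Ideal.span (Set.range f) with hJ
  have hJI : J ≤ I := by
    rw [hJ, Ideal.span_le]
    rintro _ ⟨i, rfl⟩
    exact (hImem _).2 (hf i)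
  obtain ⟨hfreg, htreg⟩ := (isWeaklyRegular_append_iff R _ _).1 hreg
  have htf : ∀ a, t * a ∈ J → a ∈ J := by
    rw [isWeaklyRegular_singleton_iff] at htreg
    intro a ha
    have h1 := Groth.Agent.Localalg.ExtLift.span_range_eq_ofList f
    have h2 : (Ideal.ofList (List.ofFn f) • (⊤ : Submodule R R)) = J := by
      rw [hJ, h1]
      simp
    have h3 : t • (Submodule.Quotient.mk (p := Ideal.ofList (List.ofFn f) • (⊤ : Submodule R R)) a) = 0 := by
      rw [← Submodule.Quotient.mk_smul, Submodule.Quotient.mk_eq_zero, h2, smul_eq_mul]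
      exact ha
    have h4 := htreg (a₁ := Submodule.Quotient.mk a) (a₂ := 0) (by
      show t • _ = t • _
      rw [smul_zero]; exact h3)
    rw [Submodule.Quotient.mk_eq_zero, h2] at h4
    exact h4
  have htm : α t ∈ maximalIdeal B := by
    rw [mem_maximalIdeal, mem_nonunits_iff]
    intro h
    exact (mem_maximalIdeal t).1 ht (isUnit_of_map_unit α t h)
  obtain ⟨v, hv, hvreg⟩ := exists_second hdimB htm htB
  obtain ⟨u, rfl⟩ := hsurj v
  have hum : u ∈ maximalIdeal R := by
    rw [mem_maximalIdeal, mem_nonunits_iff]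
    intro h
    exact (mem_maximalIdeal _).1 hv (h.map α)
  have hsup : ∀ a, a ∈ I ⊔ Ideal.span {t} ↔ α a ∈ Ideal.span {α t} := by
    intro a
    constructor
    · intro ha
      obtain ⟨b, hb, c, hc, rfl⟩ := Submodule.mem_sup.1 ha
      rw [map_add, (hImem b).1 hb, zero_add]
      obtain ⟨d, rfl⟩ := Ideal.mem_span_singleton'.1 hc
      rw [map_mul]
      exact Ideal.mul_mem_left _ _ (Ideal.mem_span_singleton_self _)
    · intro ha
      obtain ⟨d, hd⟩ := Ideal.mem_span_singleton'.1 ha
      obtain ⟨d, rfl⟩ := hsurj d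
      have h1 : a = (a - d * t) + d * t := by ring
      rw [h1]
      refine Submodule.add_mem_sup ((hImem _).2 ?_) (Ideal.mul_mem_left _ _
        (Ideal.mem_span_singleton_self _))
      rw [map_sub, map_mul, hd, sub_self]
  obtain ⟨y, hyI, hgy⟩ := Groth.Agent.Localalg.ExtLift.exists_colon_lift_span hdim f hfreg
    (fun i => hIm ((hImem _).2 (hf i))) I (fun i => (hImem _).2 (hf i)) t u ht hum htf
    (fun a ha => by
      rw [hImem] at ha ⊢
      rw [map_mul] at ha
      exact (mul_eq_zero.1 ha).resolve_left htB)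
    (fun a ha => by
      rw [hsup] at ha ⊢
      rw [map_mul] at ha
      exact hvreg _ ha) g (fun a ha => hg a ((hImem _).1 ha))
  set Δ : R := Matrix.det (Matrix.of fun i j => D j (f i)) with hΔdef
  have hy : α y ∈ Ideal.span {α Δ} := by
    refine Groth.Agent.Etalg.NormalDvr.mem_span_of_forall_height_one B hΔ fun P hP hPh => ?_
    obtain ⟨p, hp0, hpdet, hpgen⟩ := hgen P hPh
    let Q : Ideal R := P.comap α
    have hQ : Q.IsPrime := Ideal.comap_isPrime α P
    choose s hsP hs using fun i => hpgen (f i) (hf i)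
    let s0 : R := ∏ i, s i
    have hs0 : α s0 ∉ P := by
      rw [map_prod]
      intro h
      obtain ⟨i, -, hi⟩ := (hP.prod_mem_iff).1 h
      exact hsP i hi
    have hs0f : ∀ i, ∃ c : Fin n → R, ∑ j, c j * p j = s0 * f i := by
      intro i
      have h1 : s0 * f i ∈ Ideal.span (Set.range p) := by
        have h2 : s0 = (∏ j ∈ Finset.univ.erase i, s j) * s i := by
          rw [Finset.prod_erase_mul _ _ (Finset.mem_univ i)]
        rw [h2, mul_assoc]
        exact Ideal.mul_mem_left _ _ (hs i)
      exact Ideal.mem_span_range_iff_exists_fun.1 h1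
    choose c hc using hs0f
    let M : Matrix (Fin n) (Fin n) R := Matrix.of c
    obtain ⟨s', hs'P, hs'⟩ := linkage_at Q f p M s0 hs0
      (fun i => (hc i).symm) hfreg (fun i => by
        show α (f i) ∈ P
        rw [hf i]; exact P.zero_mem) y
      (fun j => hyI (p j) ((hImem _).2 (hp0 j)))
    have h5 : α (s' * y) ∈ Ideal.span {α M.det} := by
      obtain ⟨b, hb, e, he, hbe⟩ := Submodule.mem_sup.1 hs'
      rw [← hbe, map_add, (hImem b).1 (hJI hb), zero_add]
      obtain ⟨d, rfl⟩ := Ideal.mem_span_singleton'.1 he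
      rw [map_mul]
      exact Ideal.mul_mem_left _ _ (Ideal.mem_span_singleton_self _)
    -- the Jacobian of `s0 f = M p`
    let dP : Matrix (Fin n) (Fin n) R := Matrix.of fun i j => D j (p i)
    have hmat : (α s0) • α.mapMatrix (Matrix.of fun i j => D j (f i)) =
        α.mapMatrix M * α.mapMatrix dP := by
      ext i j
      have h6 : α (D j (s0 * f i)) = α s0 * α (D j (f i)) := by
        rw [Derivation.leibniz, map_add, smul_eq_mul, smul_eq_mul, map_mul, map_mul, hf i,
          zero_mul, add_zero]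
      have h7 : α (D j (∑ k, c i k * p k)) = ∑ k, α (c i k) * α (D j (p k)) := by
        rw [map_sum, map_sum]
        refine Finset.sum_congr rfl fun k _ => ?_
        rw [Derivation.leibniz, map_add, smul_eq_mul, smul_eq_mul, map_mul, map_mul, hp0 k,
          zero_mul, add_zero]
      rw [hc i, h6] at h7
      rw [Matrix.mul_apply]
      exact h7
    have hdet : (α s0) ^ n * α Δ = α M.det * α dP.det := by
      have h8 := congrArg Matrix.det hmat
      rw [Matrix.det_smul, Matrix.det_mul, ← RingHom.map_det, ← RingHom.map_det,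
        ← RingHom.map_det, Fintype.card_fin] at h8
      exact h8
    refine ⟨α (s' * dP.det), ?_, ?_⟩
    · rw [map_mul]
      intro h
      rcases hP.mem_or_mem h with h | h
      · exact hs'P h
      · exact hpdet h
    · obtain ⟨d, hd⟩ := Ideal.mem_span_singleton'.1 h5
      rw [Ideal.mem_span_singleton']
      refine ⟨d * (α s0) ^ n, ?_⟩
      calc d * (α s0) ^ n * α Δ = (d * α M.det) * α dP.det := by
            rw [mul_assoc, hdet, mul_assoc]
        _ = α (s' * dP.det) * α y := by
            rw [hd, map_mul, map_mul]; ring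
  obtain ⟨b, hb⟩ := Ideal.mem_span_singleton'.1 hy
  obtain ⟨b, rfl⟩ := hsurj b
  refine ⟨b, ?_⟩
  rw [map_sub, map_mul, mul_comm (α Δ), hb, ← map_sub, ← hsup]
  exact (sup_le_sup_right hJI _) hgy

end Groth.Agent.Pi1A.RamAdj
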