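import Groth.Agent.CycA.DiagReg
import Mathlib

/-!
# Purity of the ramification locus: the core argument in dimension two

`R` regular local of dimension `≤ n + 1` with derivations `D₁, …, Dₙ`, `I` an ideal, `f₁, …, fₙ ∈ I`,
`Δ = det (D_j f_i)` a nonzerodivisor modulo `I` with `((f) : I) ⊆ I + (Δ)`. If `P ⊇ I` is a prime,
`dim R/P = 1`, with finite normalization, `Δ ∉ P` and `Δ N ⊆ ((f) : P)` (trace step), then `I` is
generated by `n` elements with invertible Jacobian determinant.
-/

set_option autoImplicit false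
universe u
open IsLocalRing Ideal

namespace Groth.Agent.Pi1A.RamCore

/-- The Jacobian determinant. -/
abbrev jac {R : Type u} [CommRing R] {n : ℕ} (D : Fin n → Derivation ℤ R R) (f : Fin n → R) : R :=
  Matrix.det (Matrix.of fun i j => D j (f i))

/-- If `f = M h` with `h i ∈ I`, then `Δ_f ≡ det M · Δ_h` modulo `I`. -/
theorem jac_mulVec {R : Type u} [CommRing R] {n : ℕ} (D : Fin n → Derivation ℤ R R)
    (I : Ideal R) (h : Fin n → R) (hI : ∀ i, h i ∈ I) (M : Matrix (Fin n) (Fin n) R) :
    jac D (M.mulVec h) - M.det * jac D h ∈ I := by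
  rw [← Ideal.Quotient.eq, map_mul]
  unfold jac
  rw [RingHom.map_det, RingHom.map_det, RingHom.map_det, ← Matrix.det_mul]
  congr 1
  ext i j
  have h0 : ∀ k, Ideal.Quotient.mk I (h k) = 0 := fun k => Ideal.Quotient.eq_zero_iff_mem.mpr (hI k)
  simp [Matrix.mul_apply, Matrix.mulVec, dotProduct, h0, Derivation.leibniz]

/-- Cramer. -/
theorem det_mul_mem {R : Type u} [CommRing R] {n : ℕ} (h : Fin n → R)
    (M : Matrix (Fin n) (Fin n) R) (j : Fin n) : M.det * h j ∈ span (Set.range (M.mulVec h)) := by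
  have h1 : M.adjugate.mulVec (M.mulVec h) = M.det • h := by
    rw [Matrix.mulVec_mulVec, Matrix.adjugate_mul, Matrix.smul_mulVec, Matrix.one_mulVec]
  have h2 := congrFun h1 j
  simp only [Pi.smul_apply, smul_eq_mul] at h2
  rw [← h2]
  change ∑ i, M.adjugate j i * (M.mulVec h) i ∈ _
  exact Ideal.sum_mem _ fun i _ => Ideal.mul_mem_left _ _ (subset_span (Set.mem_range_self i))

theorem exists_generators_le {R : Type u} [CommRing R] {I : Ideal R} {c n : ℕ} (hc : c ≤ n)
    (g : Fin c → R) (hg : I = span (Set.range g)) : ∃ h : Fin n → R, I = span (Set.range h) := by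
  refine ⟨fun i => if hi : i.1 < c then g ⟨i.1, hi⟩ else 0, ?_⟩
  rw [hg]
  apply le_antisymm
  · rw [span_le]
    rintro _ ⟨i, rfl⟩
    refine subset_span ⟨⟨i.1, i.2.trans_le hc⟩, ?_⟩
    simp
  · rw [span_le]
    rintro _ ⟨i, rfl⟩
    dsimp only
    split_ifs with hi
    · exact subset_span ⟨_, rfl⟩
    · exact zero_mem _

theorem exists_matrix {R : Type u} [CommRing R] {n : ℕ} (h f : Fin n → R)
    (hf : ∀ i, f i ∈ span (Set.range h)) : ∃ M : Matrix (Fin n) (Fin n) R, f = M.mulVec h := by
  have : ∀ i, ∃ c : Fin n → R, ∑ j, c j * h j = f i := fun i => by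
    have h1 := hf i
    rwa [Ideal.mem_span_range_iff_exists_fun] at h1
  choose M hM using this
  refine ⟨Matrix.of M, ?_⟩
  ext i
  exact (hM i).symm

/-- Final step: `I` prime with `R/I` regular local. -/
theorem final {R : Type u} [CommRing R] [IsRegularLocalRing R] (n : ℕ)
    (hdim : ringKrullDim R ≤ (n + 1 : ℕ)) (D : Fin n → Derivation ℤ R R)
    (I : Ideal R) [I.IsPrime] (hreg : IsRegularLocalRing (R ⧸ I)) (h1 : 1 ≤ ringKrullDim (R ⧸ I))
    (f : Fin n → R) (hf : ∀ i, f i ∈ I) (hΔ : jac D f ∉ I)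
    (hγ : ∀ g, (∀ p ∈ I, g * p ∈ span (Set.range f)) → ∃ c, g - jac D f * c ∈ I) :
    ∃ h : Fin n → R, I = span (Set.range h) ∧ IsUnit (jac D h) := by
  obtain ⟨c, g, hg, -, hc⟩ := Groth.Agent.CycA.DiagReg.exists_regular_generators I hreg
  have hcn : c ≤ n := by
    have h2 : (1 : WithBot ℕ∞) + c ≤ (n + 1 : ℕ) :=
      (add_le_add_left h1 (c : WithBot ℕ∞)).trans (hc.le.trans hdim)
    have h3 : ((1 + c : ℕ) : WithBot ℕ∞) ≤ (n + 1 : ℕ) := by exact_mod_cast h2
    have h4 : 1 + c ≤ n + 1 := by exact_mod_cast h3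
    omega
  obtain ⟨h, hh⟩ := exists_generators_le hcn g hg
  refine ⟨h, hh, ?_⟩
  have hhI : ∀ i, h i ∈ I := fun i => by rw [hh]; exact subset_span ⟨i, rfl⟩
  obtain ⟨M, hM⟩ := exists_matrix h f (fun i => by rw [← hh]; exact hf i)
  have hj := jac_mulVec D I h hhI M
  rw [← hM] at hj
  have hdet : ∀ p ∈ I, M.det * p ∈ span (Set.range f) := by
    intro p hp
    rw [hh] at hp
    obtain ⟨a, ha⟩ := (Ideal.mem_span_range_iff_exists_fun).mp hp
    rw [← ha, Finset.mul_sum]
    refine Ideal.sum_mem _ fun j _ => ?_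
    have h5 := det_mul_mem h M j
    rw [← hM] at h5
    have h6 := Ideal.mul_mem_left _ (a j) h5
    convert h6 using 1
    ring
  obtain ⟨d, hd⟩ := hγ _ hdet
  have hne : M.det ∉ I := fun h7 => hΔ (by
    have h8 := I.add_mem hj (I.mul_mem_right (jac D h) h7)
    simpa using h8)
  have h9 : M.det * (1 - jac D h * d) ∈ I := by
    have h10 := I.add_mem hd (I.mul_mem_right d hj)
    convert h10 using 1
    ring
  have h11 := ((‹I.IsPrime›).mem_or_mem h9).resolve_left hne
  have h12 : jac D h * d ∉ maximalIdeal R := fun h13 => by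
    have h14 := (maximalIdeal R).add_mem (le_maximalIdeal (Ideal.IsPrime.ne_top ‹_›) h11) h13
    rw [sub_add_cancel] at h14
    exact (Ideal.ne_top_iff_one _).mp (maximalIdeal.isMaximal R).ne_top h14
  exact isUnit_of_mul_isUnit_left (by_contra fun h15 => h12 ((mem_maximalIdeal _).mpr h15))



/-- The trace step (proved in `TraceStep`), as a proposition. -/
def Trace : Prop := ∀ (R F : Type u) [CommRing R] [IsRegularLocalRing R] (n : ℕ)
    (_ : ringKrullDim R ≤ (n + 1 : ℕ)) (D : Fin n → Derivation ℤ R R) (f : Fin n → R)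
    [CommRing F] [Algebra R F] (_ : ∀ i, algebraMap R F (f i) = 0)
    (N : Subalgebra R F) [Module.Finite R N]
    (_ : ∀ z ∈ N, ∃ a b : R, IsUnit (algebraMap R F b) ∧ algebraMap R F b * z = algebraMap R F a)
    (_ : ∀ (Q : Ideal N) [Q.IsMaximal], IsRegularLocalRing (Localization.AtPrime Q) ∧
      1 ≤ ringKrullDim (Localization.AtPrime Q)),
    ∀ z ∈ N, ∃ g : R, (∀ a ∈ RingHom.ker (algebraMap R F), g * a ∈ Ideal.span (Set.range f)) ∧
      algebraMap R F g = algebraMap R F (Matrix.det (Matrix.of fun i j => D j (f i))) * z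

theorem isDedekindDomain_integralClosure {C K : Type u} [CommRing C] [IsDomain C]
    [IsNoetherianRing C] (h1 : ringKrullDim C ≤ 1) [Field K] [Algebra C K] [IsFractionRing C K]
    (hfin : Module.Finite C (integralClosure C K)) : IsDedekindDomain (integralClosure C K) := by
  have hk : Ring.KrullDimLE 1 C := by
    rw [Ring.krullDimLE_iff]
    exact_mod_cast h1
  have hd : Ring.DimensionLEOne C := ⟨fun {p} hp hp' =>
    Ring.krullDimLE_one_iff_of_noZeroDivisors.mp hk p hp hp'⟩
  have hN : IsNoetherianRing (integralClosure C K) := IsNoetherianRing.of_finite C _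
  have : IsFractionRing (integralClosure C K) K :=
    IsIntegralClosure.isFractionRing_of_finite_extension C K K (integralClosure C K)
  have hic : IsIntegrallyClosed (integralClosure C K) :=
    integralClosure.isIntegrallyClosedOfFiniteExtension K
  exact { hN, hic, (inferInstance : Ring.DimensionLEOne (integralClosure C K)) with }

theorem regular_of_dedekind {N : Type u} [CommRing N] [IsDedekindDomain N] (hN : ¬ IsField N)
    (Q : Ideal N) [Q.IsMaximal] : IsRegularLocalRing (Localization.AtPrime Q) ∧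
      1 ≤ ringKrullDim (Localization.AtPrime Q) := by
  have hQ : Q ≠ ⊥ := Ring.ne_bot_of_isMaximal_of_not_isField ‹_› hN
  have := IsLocalization.AtPrime.isDiscreteValuationRing_of_dedekind_domain N hQ (Localization.AtPrime Q)
  refine ⟨inferInstance, ?_⟩
  rw [IsDiscreteValuationRing.ringKrullDim_eq_one]

/-- The core argument: everything in dimension two after cutting by `t`. -/
theorem core (htrace : Trace.{u}) {R : Type u} [CommRing R] [IsRegularLocalRing R] (n : ℕ)
    (hdim : ringKrullDim R ≤ (n + 1 : ℕ)) (D : Fin n → Derivation ℤ R R)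
    (I : Ideal R) (f : Fin n → R) (hf : ∀ i, f i ∈ I)
    (hΔ : ∀ x, jac D f * x ∈ I → x ∈ I)
    (hγ : ∀ g, (∀ p ∈ I, g * p ∈ span (Set.range f)) → ∃ c, g - jac D f * c ∈ I)
    (P : Ideal R) [P.IsPrime] (hIP : I ≤ P) (hΔP : jac D f ∉ P)
    (hdimP : ringKrullDim (R ⧸ P) = 1)
    (hfin : Module.Finite (R ⧸ P) (integralClosure (R ⧸ P) (FractionRing (R ⧸ P)))) :
    ∃ h : Fin n → R, I = span (Set.range h) ∧ IsUnit (jac D h) := by
  set C := R ⧸ P with hC
  set F := FractionRing C with hF
  set N₀ := integralClosure C F with hN₀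
  have hfield : ¬ IsField C := fun h => by
    have h1 := ringKrullDim_eq_zero_of_isField h
    rw [hdimP] at h1
    exact one_ne_zero h1
  have hDed : IsDedekindDomain N₀ := isDedekindDomain_integralClosure hdimP.le hfin
  have hNf : ¬ IsField N₀ := fun h => hfield
    (isField_of_isIntegral_of_isField (R := C) (S := N₀)
      (FaithfulSMul.algebraMap_injective C N₀) h)
  let N : Subalgebra R F := N₀.restrictScalars R
  have hfinN : Module.Finite R N := by
    have h2 : Module.Finite R N₀ := Module.Finite.trans C N₀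
    exact h2
  have hmap : ∀ r : R, algebraMap R F r = algebraMap C F (Ideal.Quotient.mk P r) := fun r =>
    IsScalarTower.algebraMap_apply R C F r
  have hker : ∀ r : R, algebraMap R F r = 0 ↔ r ∈ P := fun r => by
    rw [hmap, FaithfulSMul.algebraMap_eq_zero_iff, Ideal.Quotient.eq_zero_iff_mem]
  have hfrac : ∀ z ∈ N, ∃ a b : R, IsUnit (algebraMap R F b) ∧
      algebraMap R F b * z = algebraMap R F a := by
    intro z _
    obtain ⟨⟨a, b⟩, hab⟩ := IsLocalization.surj (nonZeroDivisors C) z
    obtain ⟨a, rfl⟩ := Ideal.Quotient.mk_surjective a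
    obtain ⟨b', hb'⟩ := Ideal.Quotient.mk_surjective b.1
    refine ⟨a, b', ?_, ?_⟩
    · rw [hmap, hb']
      exact IsLocalization.map_units F b
    · rw [hmap, hmap, hb', mul_comm]
      exact hab
  have key : ∀ z ∈ N, ∃ g : R, (∀ a ∈ P, g * a ∈ Ideal.span (Set.range f)) ∧
      algebraMap R F g = algebraMap R F (jac D f) * z := by
    intro z hz
    obtain ⟨g, hg1, hg2⟩ := htrace R F n hdim D f (fun i => (hker _).mpr (hIP (hf i))) N hfrac
      (fun Q hQ => @regular_of_dedekind N₀ _ _ hNf Q hQ) z hz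
    exact ⟨g, fun a ha => hg1 a ((hker a).mpr ha), hg2⟩
  -- every element of `N` comes from `R`
  have hΔ0 : algebraMap R F (jac D f) ≠ 0 := fun h => hΔP ((hker _).mp h)
  have hsur : ∀ z ∈ N, ∃ c : R, algebraMap R F c = z ∧ ∀ a ∈ P, c * a ∈ I := by
    intro z hz
    obtain ⟨g, hg1, hg2⟩ := key z hz
    obtain ⟨c, hc⟩ := hγ g (fun p hp => hg1 p (hIP hp))
    refine ⟨c, ?_, fun a ha => ?_⟩
    · have h3 := (hker _).mpr (hIP hc)
      rw [map_sub, map_mul, sub_eq_zero, hg2] at h3
      exact (mul_left_cancel₀ hΔ0 h3).symm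
    · apply hΔ
      have h4 : g * a ∈ I := (span_le.mpr (by rintro _ ⟨i, rfl⟩; exact hf i)) (hg1 a ha)
      have h5 := I.sub_mem h4 (I.mul_mem_right a hc)
      convert h5 using 1
      ring
  have hPI : P ≤ I := by
    obtain ⟨c, hc, hca⟩ := hsur 1 N.one_mem
    intro a ha
    have h6 : c - 1 ∈ P := by rw [← hker, map_sub, hc, map_one, sub_self]
    have h7 : IsUnit c := by
      have h8 := le_maximalIdeal (Ideal.IsPrime.ne_top ‹P.IsPrime›) h6
      by_contra h9
      have h10 := (maximalIdeal R).sub_mem ((mem_maximalIdeal _).mpr h9) h8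
      rw [sub_sub_cancel] at h10
      exact (Ideal.ne_top_iff_one _).mp (maximalIdeal.isMaximal R).ne_top h10
    exact (Ideal.unit_mul_mem_iff_mem I h7).mp (hca a ha)
  obtain rfl : I = P := le_antisymm hIP hPI
  -- `C` is a discrete valuation ring
  have hbij : Function.Bijective (algebraMap C N₀) := by
    refine ⟨FaithfulSMul.algebraMap_injective C N₀, fun z => ?_⟩
    obtain ⟨c, hc, -⟩ := hsur z.1 z.2
    exact ⟨Ideal.Quotient.mk I c, Subtype.ext ((hmap c).symm.trans hc)⟩
  have hCi : IsIntegrallyClosed C :=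
    IsIntegrallyClosed.of_equiv (R := N₀) (RingEquiv.ofBijective _ hbij).symm
  have hCd : Ring.DimensionLEOne C :=
    Ring.DimensionLEOne.of_ringEquiv (RingEquiv.ofBijective (algebraMap C N₀) hbij)
  have hCN : IsNoetherianRing C := inferInstance
  have hCD : IsDedekindDomain C := { hCN, hCi, hCd with }
  have hCl : IsLocalRing C :=
    IsLocalRing.of_surjective' (Ideal.Quotient.mk I) Ideal.Quotient.mk_surjective
  have hCp : IsPrincipalIdealRing C :=
    ((tfae_of_isNoetherianRing_of_isLocalRing_of_isDomain C).out 2 0).mp hCD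
  have hCr : IsRegularLocalRing C := inferInstance
  exact final n hdim D I hCr hdimP.ge f hf hΔP hγ

end Groth.Agent.Pi1A.RamCore
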