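import Groth.Agent.Pi1A.PurRamBase121
import Mathlib.RingTheory.IntegralClosure.IntegrallyClosed
import Mathlib.RingTheory.Localization.Integral

/-!
# Auxiliary facts for the cutting step in the purity of the ramification locus
-/

set_option autoImplicit false

universe u

open IsLocalRing

namespace Groth.Agent.Pi1A.RamCutAux

open PurRamBase121

/-- Base change of formally étale algebras to a quotient. -/
theorem formallyEtale_quotient (A B : Type u) [CommRing A] [CommRing B] [Algebra A B] (I : Ideal A)
    [Algebra.FormallyEtale A B] :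
    Algebra.FormallyEtale (A ⧸ I) (B ⧸ I.map (algebraMap A B)) :=
  Algebra.FormallyEtale.of_equiv (R := A ⧸ I)
    (Algebra.TensorProduct.quotIdealMapEquivQuotTensor B I).symm

/-- A local algebra essentially of finite type and formally étale over a regular local ring (not
necessarily dominating it) is regular. -/
theorem isRegularLocalRing (A B : Type u) [CommRing A] [IsRegularLocalRing A] [CommRing B]
    [Algebra A B] [Algebra.EssFiniteType A B] [IsLocalRing B] [Algebra.FormallyEtale A B] :
    IsRegularLocalRing B := by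
  let p : Ideal A := (maximalIdeal B).comap (algebraMap A B)
  have hp : p.IsPrime := inferInstance
  have hreg : IsRegularLocalRing (Localization.AtPrime p) := S0564.result A p
  have hu : ∀ y : p.primeCompl, IsUnit (algebraMap A B y) := by
    rintro ⟨y, hy⟩
    by_contra h
    exact hy ((IsLocalRing.mem_maximalIdeal _).mpr h)
  let _ : Algebra (Localization.AtPrime p) B := (IsLocalization.lift hu).toAlgebra
  have h1 : IsScalarTower A (Localization.AtPrime p) B :=
    .of_algebraMap_eq fun a => (IsLocalization.lift_eq hu a).symm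
  have h2 : Algebra.EssFiniteType (Localization.AtPrime p) B := .of_comp A _ _
  have h3 : Algebra.FormallyEtale (Localization.AtPrime p) B := .localization_base p.primeCompl
  have h4 : IsLocalHom (algebraMap (Localization.AtPrime p) B) := by
    refine ((local_hom_TFAE (algebraMap (Localization.AtPrime p) B)).out 3 0).mp ?_
    rw [← IsLocalization.AtPrime.map_eq_maximalIdeal p (Localization.AtPrime p),
      Ideal.map_le_iff_le_comap, Ideal.comap_comap, ← IsScalarTower.algebraMap_eq]
  exact isRegularLocalRing_of_formallyEtale (Localization.AtPrime p) B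

/-- Cutting by one equation: let `Q` be a minimal prime over `t B`.  If `B` is formally étale over
`A` at a prime `q` containing `Q` then `B/Q` is formally étale over `A/t` at `q/Q`, if `A` and `A/t`
are regular local rings. -/
theorem formallyEtale_atPrime_quotient (A B : Type u) [CommRing A] [IsRegularLocalRing A]
    [CommRing B] [Algebra A B] [Algebra.EssFiniteType A B] (I : Ideal A)
    [IsRegularLocalRing (A ⧸ I)] (Q : Ideal B) [Q.IsPrime]
    (hQ : Q ∈ (I.map (algebraMap A B)).minimalPrimes)
    [Algebra (A ⧸ I) (B ⧸ Q)] [IsScalarTower A (A ⧸ I) (B ⧸ Q)]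
    (q : Ideal (B ⧸ Q)) [q.IsPrime] (q' : Ideal B) [q'.IsPrime]
    (hq' : q' = q.comap (Ideal.Quotient.mk Q))
    (het : Algebra.FormallyEtale A (Localization.AtPrime q')) :
    Algebra.FormallyEtale (A ⧸ I) (Localization.AtPrime q) := by
  let Bq := Localization.AtPrime q'
  have hQq : Q ≤ q' := by
    intro x hx
    rw [hq', Ideal.mem_comap, Ideal.Quotient.eq_zero_iff_mem.mpr hx]
    exact q.zero_mem
  let P₀ : Ideal Bq := I.map (algebraMap A Bq)
  have hP₀ : P₀ = (I.map (algebraMap A B)).map (algebraMap B Bq) := by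
    rw [Ideal.map_map, ← IsScalarTower.algebraMap_eq]
  have hIQ : I.map (algebraMap A B) ≤ Q := hQ.1.2
  have hP₀Q : P₀ ≤ Q.map (algebraMap B Bq) := hP₀.le.trans (Ideal.map_mono hIQ)
  have hQmap : (Q.map (algebraMap B Bq)).comap (algebraMap B Bq) = Q :=
    IsLocalization.under_map_of_isPrime_disjoint q'.primeCompl Bq ‹_›
      (Set.disjoint_left.mpr fun x hx hx' => hx (hQq hx'))
  have hne : P₀ ≠ ⊤ := by
    intro h
    rw [h, top_le_iff] at hP₀Q
    rw [hP₀Q, Ideal.comap_top] at hQmap
    exact Ideal.IsPrime.ne_top ‹_› hQmap.symm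
  have hloc : IsLocalRing (Bq ⧸ P₀) := CalgA.RegBasic.isLocalRing_quotient P₀ hne
  have het' : Algebra.FormallyEtale (A ⧸ I) (Bq ⧸ P₀) := formallyEtale_quotient A Bq I
  have hess : Algebra.EssFiniteType (A ⧸ I) (Bq ⧸ P₀) :=
    Algebra.EssFiniteType.quotient_map A Bq I
  have hreg : IsRegularLocalRing (Bq ⧸ P₀) := isRegularLocalRing (A ⧸ I) (Bq ⧸ P₀)
  have hdom : IsDomain (Bq ⧸ P₀) := CalgA.RegBasic.isDomain _
  have hprime : P₀.IsPrime := (Ideal.Quotient.isDomain_iff_prime P₀).mp hdom
  have hQP : Q.map (algebraMap B Bq) ≤ P₀ := by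
    rw [Ideal.map_le_iff_le_comap]
    refine hQ.2 ⟨Ideal.IsPrime.comap _, ?_⟩ ?_
    · rw [← Ideal.map_le_iff_le_comap, ← hP₀]
    · exact (Ideal.comap_mono hP₀Q).trans hQmap.le
  have hPQ : P₀ = Q.map (algebraMap B Bq) := le_antisymm hP₀Q hQP
  let π : Bq →ₐ[A] Localization.AtPrime q :=
    Localization.localAlgHom q' q (Ideal.Quotient.mkₐ A Q) hq'
  have hπ : Function.Surjective π :=
    (RingHom.surjectiveOnStalks_of_surjective
      Ideal.Quotient.mk_surjective).localRingHom_surjective _ _ hq'
  have hmem : ∀ x : B, x ∉ q' ↔ Ideal.Quotient.mk Q x ∉ q := fun x => by rw [hq']; rfl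
  have hker : P₀ = RingHom.ker π := by
    rw [hPQ]
    ext x
    obtain ⟨b, s, rfl⟩ := IsLocalization.exists_mk'_eq q'.primeCompl x
    rw [IsLocalization.mk'_mem_map_algebraMap_iff, RingHom.mem_ker]
    have h1 : π (IsLocalization.mk' Bq b s) = IsLocalization.mk' (Localization.AtPrime q)
        (Ideal.Quotient.mk Q b) (⟨Ideal.Quotient.mk Q s, (hmem s).mp s.2⟩ : q.primeCompl) := by
      change Localization.localRingHom q' q (Ideal.Quotient.mkₐ A Q).toRingHom hq' _ = _
      exact Localization.localRingHom_mk' q' q _ hq' b s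
    rw [h1, IsLocalization.mk'_eq_zero_iff]
    constructor
    · rintro ⟨u, hu, hub⟩
      refine ⟨⟨Ideal.Quotient.mk Q u, (hmem u).mp hu⟩, ?_⟩
      change Ideal.Quotient.mk Q u * Ideal.Quotient.mk Q b = 0
      rw [← map_mul, Ideal.Quotient.eq_zero_iff_mem]
      exact hub
    · rintro ⟨⟨u, hu⟩, hub⟩
      obtain ⟨u, rfl⟩ := Ideal.Quotient.mk_surjective u
      refine ⟨u, (hmem u).mpr hu, ?_⟩
      rw [← Ideal.Quotient.eq_zero_iff_mem, map_mul]
      exact hub
  let e₁ : (Bq ⧸ P₀) ≃ₐ[A] Localization.AtPrime q :=
    (Ideal.quotientEquivAlgOfEq A hker).trans (Ideal.quotientKerAlgEquivOfSurjective hπ)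
  have hs : Function.Surjective (algebraMap A (A ⧸ I)) := Ideal.Quotient.mk_surjective
  have htow : IsScalarTower A (A ⧸ I) (Localization.AtPrime q) := .of_algebraMap_eq fun a => by
    rw [IsScalarTower.algebraMap_apply (A ⧸ I) (B ⧸ Q) (Localization.AtPrime q),
      ← IsScalarTower.algebraMap_apply A (A ⧸ I) (B ⧸ Q),
      ← IsScalarTower.algebraMap_apply A (B ⧸ Q) (Localization.AtPrime q)]
  let e : (Bq ⧸ P₀) ≃ₐ[A ⧸ I] Localization.AtPrime q := e₁.extendScalarsOfSurjective hs
  exact Algebra.FormallyEtale.of_equiv e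

/-- Let `D'` be integral over the domain `D` inside its fraction field.  If the localization of `D`
at the contraction of a prime `P` of `D'` is integrally closed then it is the localization of `D'`
at `P`. -/
theorem bijective_localRingHom (D D' K : Type u) [CommRing D] [IsDomain D] [CommRing D']
    [Algebra D D'] [Field K] [Algebra D K] [IsFractionRing D K] [Algebra D' K]
    [IsScalarTower D D' K] (hinj : Function.Injective (algebraMap D' K)) [Algebra.IsIntegral D D']
    (P : Ideal D') [P.IsPrime] (q : Ideal D) [q.IsPrime] (hq : q = P.comap (algebraMap D D'))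
    [IsIntegrallyClosed (Localization.AtPrime q)] :
    Function.Bijective (Localization.localRingHom q P (algebraMap D D') hq) := by
  have hDK : Function.Injective (algebraMap D K) := IsFractionRing.injective D K
  have hDD : Function.Injective (algebraMap D D') := by
    intro x y hxy
    apply hDK
    rw [IsScalarTower.algebraMap_apply D D' K, IsScalarTower.algebraMap_apply D D' K, hxy]
  have hdom : IsDomain D' := hinj.isDomain
  -- every element of `D'` is a fraction with denominator outside `q`
  let L := Localization.AtPrime q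
  have hle : q.primeCompl ≤ nonZeroDivisors D := q.primeCompl_le_nonZeroDivisors
  let _ : Algebra L K := IsLocalization.localizationAlgebraOfSubmonoidLe L K q.primeCompl
    (nonZeroDivisors D) hle
  have htow : IsScalarTower D L K := IsLocalization.localization_isScalarTower_of_submonoid_le L K
    q.primeCompl (nonZeroDivisors D) hle
  have hfrac : IsFractionRing L K :=
    IsFractionRing.isFractionRing_of_isDomain_of_isLocalization q.primeCompl L K
  have key : ∀ a : D', ∃ u ∉ q, ∃ d : D, algebraMap D D' u * a = algebraMap D D' d := by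
    intro a
    have h1 : IsIntegral D (algebraMap D' K a) := (Algebra.IsIntegral.isIntegral a).map
      (IsScalarTower.toAlgHom D D' K)
    have h2 : IsIntegral L (algebraMap D' K a) := h1.tower_top
    obtain ⟨l, hl⟩ := IsIntegrallyClosed.isIntegral_iff.mp h2
    obtain ⟨⟨d, u⟩, hdu⟩ := IsLocalization.surj q.primeCompl l
    refine ⟨u, u.2, d, hinj ?_⟩
    have h3 := congrArg (algebraMap L K) hdu
    rw [map_mul, hl, ← IsScalarTower.algebraMap_apply D L K,
      ← IsScalarTower.algebraMap_apply D L K] at h3
    rw [map_mul, ← IsScalarTower.algebraMap_apply D D' K, ← IsScalarTower.algebraMap_apply D D' K,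
      mul_comm]
    exact h3
  have hmem : ∀ d : D, d ∈ q ↔ algebraMap D D' d ∈ P := fun d => by rw [hq]; rfl
  constructor
  · rw [injective_iff_map_eq_zero]
    intro x hx
    obtain ⟨d, u, rfl⟩ := IsLocalization.exists_mk'_eq q.primeCompl x
    rw [Localization.localRingHom_mk', IsLocalization.mk'_eq_zero_iff] at hx
    obtain ⟨⟨m, hm⟩, hmd⟩ := hx
    have hm0 : m ≠ 0 := fun h => hm (h ▸ P.zero_mem)
    have h1 : algebraMap D D' d = 0 := (mul_eq_zero.mp hmd).resolve_left hm0
    have h2 : d = 0 := hDD (h1.trans (map_zero _).symm)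
    rw [h2, IsLocalization.mk'_zero]
  · intro x
    obtain ⟨a, s, rfl⟩ := IsLocalization.exists_mk'_eq P.primeCompl x
    obtain ⟨u, hu, d, hd⟩ := key a
    obtain ⟨v, hv, e, he⟩ := key s
    have heP : e ∉ q := by
      rw [hmem, ← he]
      intro h
      rcases (Ideal.IsPrime.mem_or_mem ‹_› h) with h | h
      · exact hv ((hmem v).mpr h)
      · exact s.2 h
    refine ⟨IsLocalization.mk' _ (d * v) (⟨u * e, q.primeCompl.mul_mem hu heP⟩ : q.primeCompl), ?_⟩
    rw [Localization.localRingHom_mk', IsLocalization.mk'_eq_iff_eq]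
    congr 1
    simp only [map_mul]
    rw [← hd, ← he]
    ring

end Groth.Agent.Pi1A.RamCutAux
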