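import Groth.Agent.Pi1A.RamQ
import Groth.Agent.Pi1A.RamCutAux
import Groth.Agent.FlatA.DimFin

/-!
# Purity of the ramification locus: from normal to arbitrary local domains by finite normalization
-/

set_option autoImplicit false

universe u

open IsLocalRing

namespace Groth.Agent.Pi1A.RamCutNorm

open PurRamBase121 RamCutAux

/-- Finiteness of the normalization for local domains essentially of finite type and generically
étale over a regular local ring. -/
def FinNorm : Prop := ∀ (S C : Type u) [CommRing S] [IsRegularLocalRing S] [CommRing C] [IsDomain C]
  [IsLocalRing C] [Algebra S C] [Algebra.EssFiniteType S C]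
  [Algebra.FormallyEtale S (FractionRing C)], Module.Finite C (integralClosure C (FractionRing C))

theorem formallyEtale_fractionRing (S D : Type u) [CommRing S] [CommRing D] [IsDomain D]
    [Algebra S D] [Algebra.FormallyEtale S (Localization.AtPrime (⊥ : Ideal D))] :
    Algebra.FormallyEtale S (FractionRing D) := by
  have h : IsLocalization (⊥ : Ideal D).primeCompl (FractionRing D) := by
    rw [Ideal.primeCompl_bot]
    infer_instance
  let e : Localization.AtPrime (⊥ : Ideal D) ≃ₐ[D] FractionRing D :=
    IsLocalization.algEquiv (⊥ : Ideal D).primeCompl _ _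
  exact Algebra.FormallyEtale.of_equiv (e.restrictScalars S)

theorem ringKrullDim_ne_zero_bot_ne {B : Type u} [CommRing B] [IsLocalRing B] {c : ℕ} (hc : c ≠ 0)
    (hdim : ringKrullDim B = c) : (⊥ : Ideal B) ≠ maximalIdeal B := by
  intro h
  have h1 : IsField B := IsLocalRing.isField_iff_maximalIdeal_eq.mpr h.symm
  rw [ringKrullDim_eq_zero_of_isField h1] at hdim
  exact hc (by exact_mod_cast hdim.symm)

/-- Étaleness of the localizations of the normalization. -/
theorem formallyEtale_atPrime (S D D' K E : Type u) [CommRing S] [IsRegularLocalRing S] [CommRing D]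
    [IsDomain D] [IsLocalRing D] [Algebra S D] [Algebra.EssFiniteType S D]
    [CommRing D'] [Algebra D D'] [Algebra S D'] [IsScalarTower S D D']
    [Field K] [Algebra D K] [IsFractionRing D K] [Algebra D' K]
    [IsScalarTower D D' K] (hinj : Function.Injective (algebraMap D' K)) [Algebra.IsIntegral D D']
    (het : ∀ (q : Ideal D) [q.IsPrime], q ≠ maximalIdeal D →
      Algebra.FormallyEtale S (Localization.AtPrime q))
    (n : Ideal D') [n.IsMaximal] [CommRing E] [IsLocalRing E] [Algebra D' E] [Algebra S E]
    [IsScalarTower S D' E] [IsLocalization.AtPrime E n] (P : Ideal E) [hP : P.IsPrime]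
    (hPne : P ≠ maximalIdeal E) : Algebra.FormallyEtale S (Localization.AtPrime P) := by
  have hnD : n.comap (algebraMap D D') = maximalIdeal D :=
    IsLocalRing.eq_maximalIdeal (Ideal.isMaximal_comap_of_isIntegral_of_isMaximal n)
  let P' : Ideal D' := P.comap (algebraMap D' E)
  have hP' : P'.IsPrime := inferInstance
  have hP'n : P' < n := by
    refine lt_of_le_of_ne ?_ ?_
    · rw [← IsLocalization.AtPrime.under_maximalIdeal E n]
      exact Ideal.comap_mono (le_maximalIdeal hP.ne_top)
    · intro h
      apply hPne
      have h3 := IsLocalization.map_under n.primeCompl E P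
      rw [← h3]
      change P'.map _ = _
      rw [h]
      exact IsLocalization.AtPrime.map_eq_maximalIdeal n E
  let q : Ideal D := P'.comap (algebraMap D D')
  have hq : q.IsPrime := inferInstance
  have hqne : q ≠ maximalIdeal D := by
    have h3 : q < n.comap (algebraMap D D') := Ideal.IsIntegral.comap_lt_comap hP'n
    rw [hnD] at h3
    exact h3.ne
  have h3 : Algebra.FormallyEtale S (Localization.AtPrime q) := het q hqne
  have h4 : IsRegularLocalRing (Localization.AtPrime q) := isRegularLocalRing S _
  have h5 : IsIntegrallyClosed (Localization.AtPrime q) :=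
    CurvesC.RegNormal.isIntegrallyClosed _
  have h6 := bijective_localRingHom D D' K hinj P' q rfl
  let f : Localization.AtPrime q →ₐ[S] Localization.AtPrime P' :=
    Localization.localAlgHom q P' (IsScalarTower.toAlgHom S D D') rfl
  let e₁ : Localization.AtPrime q ≃ₐ[S] Localization.AtPrime P' := AlgEquiv.ofBijective f h6
  have h7 : IsLocalization.AtPrime (Localization.AtPrime P) P' :=
    IsLocalization.isLocalization_isLocalization_atPrime_isLocalization n.primeCompl _ P
  let e₂ : Localization.AtPrime P' ≃ₐ[D'] Localization.AtPrime P :=
    IsLocalization.algEquiv P'.primeCompl _ _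
  exact Algebra.FormallyEtale.of_equiv (e₁.trans (e₂.restrictScalars S))

/-- The residue field extension is finite for local domains which are étale over a regular local
ring off the closed point, by applying the normal case to the normalization. -/
theorem finite_residueField (N : FinNorm.{u}) (c : ℕ) (hc : 2 ≤ c) (ih : RamQ.Q.{u} c)
    (S D : Type u) [CommRing S] [IsRegularLocalRing S] [CommRing D] [IsDomain D] [IsLocalRing D]
    [Algebra S D] [IsLocalHom (algebraMap S D)] [Algebra.EssFiniteType S D]
    (hdim : ringKrullDim D = c) (het : ∀ (q : Ideal D) [q.IsPrime], q ≠ maximalIdeal D →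
      Algebra.FormallyEtale S (Localization.AtPrime q)) :
    Module.Finite S (ResidueField D) := by
  have hDN : IsNoetherianRing D := Algebra.EssFiniteType.isNoetherianRing S D
  have hbot : (⊥ : Ideal D) ≠ maximalIdeal D := ringKrullDim_ne_zero_bot_ne (by omega) hdim
  have h0 : Algebra.FormallyEtale S (Localization.AtPrime (⊥ : Ideal D)) := het ⊥ hbot
  have h1 : Algebra.FormallyEtale S (FractionRing D) := formallyEtale_fractionRing S D
  let K := FractionRing D
  let D' := integralClosure D K
  have hfin : Module.Finite D D' := N S D
  have hinj : Function.Injective (algebraMap D' K) := Subtype.coe_injective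
  have hDD : Function.Injective (algebraMap D D') := by
    intro x y hxy
    apply IsFractionRing.injective D K
    rw [IsScalarTower.algebraMap_apply D D' K, IsScalarTower.algebraMap_apply D D' K, hxy]
  have hnorm : IsIntegrallyClosed D' := integralClosure.isIntegrallyClosedOfFiniteExtension K
  have hint : Algebra.IsIntegral D D' := inferInstance
  have hdim' : ringKrullDim D' = c := by
    rw [FlatA.DimFin.ringKrullDim_eq_of_isIntegral_of_injective D D' hDD, hdim]
  have hfd : FiniteRingKrullDim D' := by
    rw [finiteRingKrullDim_iff_ne_bot_and_top, hdim']
    exact ⟨WithBot.natCast_ne_bot _, fun h => ENat.natCast_ne_top c (WithBot.coe_injective h)⟩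
  obtain ⟨n, hn, hnh⟩ := Ideal.exists_isMaximal_height (R := D')
  have hnp : n.IsPrime := hn.isPrime
  have hnD : n.comap (algebraMap D D') = maximalIdeal D :=
    IsLocalRing.eq_maximalIdeal (Ideal.isMaximal_comap_of_isIntegral_of_isMaximal n)
  let E := Localization.AtPrime n
  have hEdom : IsDomain E := IsLocalization.isDomain_localization n.primeCompl_le_nonZeroDivisors
  have hEnorm : IsIntegrallyClosed E :=
    isIntegrallyClosed_of_isLocalization _ n.primeCompl n.primeCompl_le_nonZeroDivisors
  have hSD' : Algebra.EssFiniteType S D' := .comp S D D'
  have hSE : Algebra.EssFiniteType S E := inferInstance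
  have hEdim : ringKrullDim E = c := by
    rw [IsLocalization.AtPrime.ringKrullDim_eq_height n E, hnh, hdim']
  have hnS : (maximalIdeal E).comap (algebraMap S E) = maximalIdeal S := by
    rw [IsScalarTower.algebraMap_eq S D' E, ← Ideal.comap_comap,
      IsScalarTower.algebraMap_eq S D D', ← Ideal.comap_comap]
    have : (maximalIdeal E).comap (algebraMap D' E) = n := IsLocalization.AtPrime.under_maximalIdeal E n
    rw [this, hnD]
    exact IsLocalRing.maximalIdeal_comap _
  have hloc : IsLocalHom (algebraMap S E) :=
    ((local_hom_TFAE (algebraMap S E)).out 4 0).mp hnS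
  have key : Module.Finite (ResidueField S) (ResidueField E) := ih S E hEdim fun P _ hPne =>
    formallyEtale_atPrime S D D' K E hinj het n P hPne
  have hf1 : Module.Finite S (ResidueField E) := by
    have : Module.Finite S (ResidueField S) :=
      Module.Finite.of_surjective (Algebra.linearMap S (ResidueField S)) residue_surjective
    exact Module.Finite.trans (ResidueField S) (ResidueField E)
  -- the residue field of `D` embeds
  have hlocD : IsLocalHom (algebraMap D E) := by
    refine ((local_hom_TFAE (algebraMap D E)).out 4 0).mp ?_
    rw [IsScalarTower.algebraMap_eq D D' E, ← Ideal.comap_comap]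
    have : (maximalIdeal E).comap (algebraMap D' E) = n := IsLocalization.AtPrime.under_maximalIdeal E n
    rw [this, hnD]
  let g : ResidueField D →+* ResidueField E := ResidueField.map (algebraMap D E)
  let g' : ResidueField D →ₗ[S] ResidueField E :=
    { toFun := g
      map_add' := map_add g
      map_smul' := by
        intro s x
        obtain ⟨x, rfl⟩ := residue_surjective x
        rw [RingHom.id_apply]
        have e1 : s • residue D x = residue D (algebraMap S D s * x) := by
          rw [map_mul, Algebra.smul_def]
          rfl
        have e2 : s • g (residue D x) = residue E (algebraMap S E s * algebraMap D E x) := by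
          rw [map_mul, Algebra.smul_def]
          rfl
        rw [e1, e2]
        change residue E (algebraMap D E _) = _
        rw [map_mul, ← IsScalarTower.algebraMap_apply S D E] }
  exact Module.Finite.of_injective g' g.injective

end Groth.Agent.Pi1A.RamCutNorm
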