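import Groth.Agent.Pi1A.RamCutNorm
import Groth.Agent.Ega4A.EquidimFlat

/-!
# Purity of the ramification locus: cutting by a regular parameter
-/

set_option autoImplicit false

universe u

open IsLocalRing

namespace Groth.Agent.Pi1A.RamCutStep

open PurRamBase121 RamCutAux RamCutNorm

theorem injective_algebraMap {A B : Type u} [CommRing A] [CommRing B] [Algebra A B]
    [IsRegularLocalRing A] [IsLocalRing B] [Algebra.EssFiniteType A B] [IsDomain B]
    (hbot : (⊥ : Ideal B) ≠ maximalIdeal B) (het : ∀ (q : Ideal B) [q.IsPrime], q ≠ maximalIdeal B →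
      Algebra.FormallyEtale A (Localization.AtPrime q)) : Function.Injective (algebraMap A B) := by
  have hdA : IsDomain A := CalgA.RegBasic.isDomain A
  have h1 := het ⊥ hbot
  have h2 := injective_of_formallyEtale A (Localization.AtPrime (⊥ : Ideal B))
  rw [IsScalarTower.algebraMap_eq A B (Localization.AtPrime (⊥ : Ideal B)), RingHom.coe_comp] at h2
  exact h2.of_comp

/-- If `B` has dimension at least two and is étale over `A` off the closed point then `A` is not a
field. -/
theorem maximalIdeal_ne_bot {A B : Type u} [CommRing A] [CommRing B] [Algebra A B]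
    [IsRegularLocalRing A] [IsLocalRing B] [Algebra.EssFiniteType A B] [IsDomain B]
    (hdim : (2 : WithBot ℕ∞) ≤ ringKrullDim B)
    (het : ∀ (q : Ideal B) [q.IsPrime], q ≠ maximalIdeal B →
      Algebra.FormallyEtale A (Localization.AtPrime q)) : maximalIdeal A ≠ ⊥ := by
  intro hA
  have hBN : IsNoetherianRing B := Algebra.EssFiniteType.isNoetherianRing A B
  have h1 : ¬ Ring.KrullDimLE 1 B := by
    intro h
    rw [Ring.krullDimLE_iff] at h
    have h2 := hdim.trans h
    exact absurd (by exact_mod_cast h2 : (2 : ℕ) ≤ 1) (by norm_num)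
  rw [Ring.krullDimLE_one_iff_of_noZeroDivisors] at h1
  push Not at h1
  obtain ⟨P, hP0, hP, hPm⟩ := h1
  have hPne : P ≠ maximalIdeal B := fun h => hPm (h ▸ inferInstance)
  have h2 := het P hPne
  have h3 : IsLocalHom (algebraMap A (Localization.AtPrime P)) := by
    refine ((local_hom_TFAE (algebraMap A (Localization.AtPrime P))).out 3 0).mp ?_
    rw [hA]
    exact bot_le
  have h4 := ringKrullDim_eq_of_formallyEtale A (Localization.AtPrime P)
  rw [ringKrullDim_eq_zero_of_isField (IsLocalRing.isField_iff_maximalIdeal_eq.mpr hA),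
    IsLocalization.AtPrime.ringKrullDim_eq_height P (Localization.AtPrime P)] at h4
  have h5 : P.height = 0 := by exact_mod_cast h4
  exact hP0 (Ideal.height_eq_zero_iff_eq_bot.mp h5)

/-- The cutting step: purity in dimension `c` implies purity in dimension `c + 1`, for `2 ≤ c`. -/
theorem step_of_finNorm (N : FinNorm.{u}) (c : ℕ) (hc : 2 ≤ c) (ih : RamQ.Q.{u} c) :
    RamQ.Q.{u} (c + 1) := by
  intro A B _ _ _ _ _ _ _ _ _ hdim het
  have hBN : IsNoetherianRing B := Algebra.EssFiniteType.isNoetherianRing A B
  have hbot : (⊥ : Ideal B) ≠ maximalIdeal B :=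
    ringKrullDim_ne_zero_bot_ne (c := c + 1) (by omega) hdim
  have hinj := injective_algebraMap hbot het
  have hmA : maximalIdeal A ≠ ⊥ := by
    refine maximalIdeal_ne_bot (B := B) ?_ het
    rw [hdim]
    exact_mod_cast (by omega : 2 ≤ c + 1)
  obtain ⟨t, htm, ht2, -⟩ := CalgA.RegBasic.exists_notMem_sq_notMem_minimalPrimes (R := A) ∅
    Set.finite_empty (by simp) (by simp) hmA
  obtain ⟨hreg, -⟩ := CalgA.RegBasic.quotient_of_notMem_sq t htm ht2
  have ht0 : t ≠ 0 := fun h => ht2 (h ▸ Ideal.zero_mem _)
  have ht'0 : algebraMap A B t ≠ 0 := fun h => ht0 (hinj (h.trans (map_zero _).symm))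
  have ht'm : algebraMap A B t ∈ maximalIdeal B := by
    rw [← Ideal.mem_comap, IsLocalRing.maximalIdeal_comap]
    exact htm
  let I : Ideal A := Ideal.span {t}
  let J : Ideal B := I.map (algebraMap A B)
  have hJ : J = Ideal.span {algebraMap A B t} := by
    change Ideal.map _ (Ideal.span {t}) = _
    rw [Ideal.map_span, Set.image_singleton]
  have hdimJ : ringKrullDim (B ⧸ J) = c := by
    have h1 := ringKrullDim_quotient_span_singleton_succ_eq_ringKrullDim_of_mem_jacobson
      (R := B) (x := algebraMap A B t) (fun x y hxy => mul_left_cancel₀ ht'0 hxy)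
      (by rw [IsLocalRing.ringJacobson_eq_maximalIdeal]; exact ht'm)
    rw [← hJ, hdim] at h1
    have h2 : ringKrullDim (B ⧸ J) + ((1 : ℕ) : WithBot ℕ∞) = (c : WithBot ℕ∞) + ((1 : ℕ) : WithBot ℕ∞) := by
      rw [Nat.cast_one, h1]
      push_cast
      rfl
    exact (ENat.WithBot.add_natCast_cancel).mp h2
  have hfd : FiniteRingKrullDim (B ⧸ J) := by
    rw [finiteRingKrullDim_iff_ne_bot_and_top, hdimJ]
    exact ⟨WithBot.natCast_ne_bot _, fun h => ENat.natCast_ne_top c (WithBot.coe_injective h)⟩
  obtain ⟨Q, hQ, hQdim⟩ := Ega4A.EquidimFlat.exists_minimalPrimes_dim_eq (I := J)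
  have hQp : Q.IsPrime := hQ.1.1
  have hIQ : I ≤ Q.comap (algebraMap A B) := Ideal.map_le_iff_le_comap.mp hQ.1.2
  have hQm : Q ≤ maximalIdeal B := le_maximalIdeal hQp.ne_top
  let D := B ⧸ Q
  have hDloc : IsLocalRing D := CalgA.RegBasic.isLocalRing_quotient Q hQp.ne_top
  have hDdom : IsDomain D := Ideal.Quotient.isDomain Q
  let _ : Algebra (A ⧸ I) D := (Ideal.quotientMap Q (algebraMap A B) hIQ).toAlgebra
  have htow : IsScalarTower A (A ⧸ I) D := .of_algebraMap_eq fun a => rfl
  have hSD : Algebra.EssFiniteType (A ⧸ I) D := .of_comp A _ _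
  have hDdim : ringKrullDim D = c := hQdim.trans hdimJ
  have hmD : (maximalIdeal D).comap (Ideal.Quotient.mk Q) = maximalIdeal B :=
    IsLocalRing.eq_maximalIdeal
      (Ideal.comap_isMaximal_of_surjective _ Ideal.Quotient.mk_surjective)
  have hetD : ∀ (q : Ideal D) [q.IsPrime], q ≠ maximalIdeal D →
      Algebra.FormallyEtale (A ⧸ I) (Localization.AtPrime q) := by
    intro q hq hqne
    have hq' : (q.comap (Ideal.Quotient.mk Q)).IsPrime := inferInstance
    have hne : q.comap (Ideal.Quotient.mk Q) ≠ maximalIdeal B := by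
      intro h
      apply hqne
      rw [← hmD] at h
      exact Ideal.comap_injective_of_surjective _ Ideal.Quotient.mk_surjective h
    exact formallyEtale_atPrime_quotient A B I Q hQ q _ rfl (het _ hne)
  have hlocAD : IsLocalHom (algebraMap (A ⧸ I) D) := by
    refine ((local_hom_TFAE (algebraMap (A ⧸ I) D)).out 3 0).mp ?_
    intro x hx
    obtain ⟨a, rfl⟩ := Ideal.Quotient.mk_surjective x
    have ha : a ∈ maximalIdeal A := by
      by_contra h
      exact (IsLocalRing.mem_maximalIdeal _).mp hx
        ((IsLocalRing.notMem_maximalIdeal.mp h).map (Ideal.Quotient.mk I))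
    rw [Ideal.mem_comap]
    change Ideal.Quotient.mk Q (algebraMap A B a) ∈ maximalIdeal D
    rw [← Ideal.mem_comap, hmD, ← Ideal.mem_comap, IsLocalRing.maximalIdeal_comap]
    exact ha
  have key : Module.Finite (A ⧸ I) (ResidueField D) :=
    finite_residueField N c hc ih (A ⧸ I) D hDdim hetD
  have htow2 : IsScalarTower A (A ⧸ I) (ResidueField D) := .of_algebraMap_eq fun a => rfl
  have key2 : Module.Finite A (ResidueField D) := .trans (A ⧸ I) (ResidueField D)
  have hlocBD : IsLocalHom (algebraMap B D) :=
    ((local_hom_TFAE (algebraMap B D)).out 4 0).mp hmD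
  let g : ResidueField B →+* ResidueField D := ResidueField.map (algebraMap B D)
  let g' : ResidueField B →ₗ[A] ResidueField D :=
    { toFun := g
      map_add' := map_add g
      map_smul' := by
        intro s x
        obtain ⟨x, rfl⟩ := residue_surjective x
        rw [RingHom.id_apply]
        have e1 : s • residue B x = residue B (algebraMap A B s * x) := by
          rw [map_mul, Algebra.smul_def]
          rfl
        have e2 : s • g (residue B x) = residue D (algebraMap A D s * algebraMap B D x) := by
          rw [map_mul, Algebra.smul_def]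
          rfl
        rw [e1, e2]
        change residue D (algebraMap B D _) = _
        rw [map_mul, ← IsScalarTower.algebraMap_apply A B D] }
  have key3 : Module.Finite A (ResidueField B) := Module.Finite.of_injective g' g.injective
  exact Module.Finite.of_restrictScalars_finite A (ResidueField A) (ResidueField B)

end Groth.Agent.Pi1A.RamCutStep
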