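import Groth.Agent.Pi1A.RamCore
import Groth.Agent.Ega4A.CMCatenary
import Groth.Agent.Ega4A.RegCM
import Groth.Agent.S0564
import Mathlib

/-!
# Purity of the ramification locus: heights and Jacobians

* `le_height_of_jac`: `R_P` regular, `p₁, …, pₙ ∈ P` with Jacobian `∉ P` ⇒ `n ≤ ht P`.
* `quotDer`: derivation induced on `R/t`.
-/

set_option autoImplicit false
universe u
open IsLocalRing Ideal

namespace Groth.Agent.Pi1A.RamDim

open RamCore

/-- scaling -/
theorem jac_smul_mem {R : Type u} [CommRing R] {n : ℕ} (D : Fin n → Derivation ℤ R R)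
    (I : Ideal R) (h : Fin n → R) (hI : ∀ i, h i ∈ I) (s : R) :
    jac D (fun i => s * h i) - s ^ n * jac D h ∈ I := by
  have h1 := jac_mulVec D I h hI (s • (1 : Matrix (Fin n) (Fin n) R))
  have h2 : (s • (1 : Matrix (Fin n) (Fin n) R)).mulVec h = fun i => s * h i := by
    rw [Matrix.smul_mulVec, Matrix.one_mulVec]
    rfl
  rw [h2, Matrix.det_smul, Matrix.det_one, mul_one, Fintype.card_fin] at h1
  exact h1

theorem le_height_of_jac {R : Type u} [CommRing R] [IsRegularLocalRing R] {n : ℕ}
    (D : Fin n → Derivation ℤ R R) (P : Ideal R) [P.IsPrime] (p : Fin n → R)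
    (hp : ∀ i, p i ∈ P) (hj : jac D p ∉ P) : (n : ℕ∞) ≤ P.height := by
  by_contra hlt
  rw [not_le] at hlt
  let T := Localization.AtPrime P
  have hT : IsRegularLocalRing T := S0564.result R P
  have h1 := IsRegularLocalRing.spanFinrank_maximalIdeal (R := T)
  rw [IsLocalization.AtPrime.ringKrullDim_eq_height P T] at h1
  have h2 : (((maximalIdeal T).spanFinrank : ℕ∞)) = P.height := by exact_mod_cast h1
  rw [← h2] at hlt
  have hkn : (maximalIdeal T).spanFinrank < n := by exact_mod_cast hlt
  obtain ⟨s, hs1, hs2⟩ := Submodule.FG.exists_span_finset_card_eq_spanFinrank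
    (IsNoetherian.noetherian (maximalIdeal T))
  have hmap : maximalIdeal T = P.map (algebraMap R T) := (Localization.AtPrime.map_eq_maximalIdeal).symm
  have hc : ∀ x : s, ∃ c ∈ P, (x : T) ∈ span {algebraMap R T c} := by
    intro x
    obtain ⟨⟨a, b⟩, hab⟩ := IsLocalization.surj P.primeCompl (x : T)
    have hx : (x : T) ∈ maximalIdeal T := by rw [← hs2]; exact Submodule.subset_span x.2
    refine ⟨a, ?_, ?_⟩
    · have h3 : algebraMap R T a ∈ maximalIdeal T := by
        rw [← hab]; exact Ideal.mul_mem_right _ _ hx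
      exact (IsLocalization.AtPrime.to_map_mem_maximal_iff T P a).mp h3
    · rw [← hab]
      have hu : IsUnit (algebraMap R T b) := IsLocalization.map_units T b
      rw [Ideal.span_singleton_mul_right_unit hu]
      exact Ideal.mem_span_singleton_self _
  choose c hcP hc using hc
  let e : Fin (maximalIdeal T).spanFinrank ≃ s := (s.equivFinOfCardEq hs1).symm
  let g : Fin (maximalIdeal T).spanFinrank → R := fun j => c (e j)
  obtain ⟨h, hh⟩ : ∃ h : Fin n → R, (∀ i, h i ∈ P) ∧ h ⟨n - 1, by omega⟩ = 0 ∧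
      ∀ j, g j ∈ Set.range h := by
    refine ⟨fun i => if hi : i.1 < (maximalIdeal T).spanFinrank then g ⟨i.1, hi⟩ else 0, ?_, ?_, ?_⟩
    · intro i
      dsimp only
      split_ifs with hi
      · exact hcP _
      · exact zero_mem _
    · simp only [dif_neg (show ¬ (n - 1 < (maximalIdeal T).spanFinrank) by omega)]
    · intro j
      exact ⟨⟨j.1, j.2.trans hkn⟩, by simp⟩
  obtain ⟨hhP, hh0, hhg⟩ := hh
  have hspan : maximalIdeal T ≤ (span (Set.range h)).map (algebraMap R T) := by
    rw [← hs2, Submodule.span_le]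
    intro x hx
    have h3 := hc ⟨x, hx⟩
    refine (Ideal.span_singleton_le_iff_mem _).mpr (Ideal.mem_map_of_mem _ (subset_span ?_)) h3
    have h4 := hhg (e.symm ⟨x, hx⟩)
    simpa [g] using h4
  have hs : ∀ i, ∃ s : P.primeCompl, s.1 * p i ∈ span (Set.range h) := by
    intro i
    have h5 : algebraMap R T (p i) ∈ (span (Set.range h)).map (algebraMap R T) :=
      hspan ((IsLocalization.AtPrime.to_map_mem_maximal_iff T P _).mpr (hp i))
    obtain ⟨s, hs, hs'⟩ := (IsLocalization.algebraMap_mem_map_algebraMap_iff P.primeCompl T _ _).mp h5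
    exact ⟨⟨s, hs⟩, hs'⟩
  choose σ hσ using hs
  let w : R := ∏ i, (σ i).1
  have hw : w ∉ P := by
    intro hw
    obtain ⟨i, -, hi⟩ := (‹P.IsPrime›).prod_mem_iff.mp hw
    exact (σ i).2 hi
  have hwp : ∀ i, w * p i ∈ span (Set.range h) := by
    intro i
    obtain ⟨v, hv⟩ : (σ i).1 ∣ w := Finset.dvd_prod_of_mem _ (Finset.mem_univ i)
    rw [hv, mul_right_comm]
    exact Ideal.mul_mem_right _ _ (hσ i)
  obtain ⟨M, hM⟩ := exists_matrix h (fun i => w * p i) hwp
  have h6 := jac_mulVec D P h hhP M
  rw [← hM] at h6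
  have h7 : jac D h = 0 := by
    refine Matrix.det_eq_zero_of_row_eq_zero ⟨n - 1, by omega⟩ fun j => ?_
    simp [hh0]
  rw [h7, mul_zero, sub_zero] at h6
  have h8 := jac_smul_mem D P p hp w
  have h9 := P.sub_mem h6 h8
  rw [sub_sub_cancel] at h9
  rcases (‹P.IsPrime›).mem_or_mem h9 with h10 | h10
  · exact hw ((‹P.IsPrime›).mem_of_pow_mem _ h10)
  · exact hj h10

/-- `ht P ≤ n` if `P R_P` is generated by `n` elements up to denominators. -/
theorem height_le_of_gen {R : Type u} [CommRing R] [IsNoetherianRing R] {n : ℕ}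
    (P : Ideal R) [P.IsPrime] (p : Fin n → R) (hp : ∀ i, p i ∈ P)
    (hgen : ∀ z ∈ P, ∃ s, s ∉ P ∧ s * z ∈ span (Set.range p)) : P.height ≤ n := by
  let T := Localization.AtPrime P
  have h1 : maximalIdeal T = span (Set.range (algebraMap R T ∘ p)) := by
    have hmap : P.map (algebraMap R T) = maximalIdeal T := Localization.AtPrime.map_eq_maximalIdeal
    rw [← hmap]
    apply le_antisymm
    · rw [Ideal.map_le_iff_le_comap]
      intro z hz
      obtain ⟨s, hs, hsz⟩ := hgen z hz
      have hu : IsUnit (algebraMap R T s) := IsLocalization.map_units T (⟨s, hs⟩ : P.primeCompl)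
      rw [Ideal.mem_comap, ← Ideal.unit_mul_mem_iff_mem _ hu, ← map_mul]
      have h2 := Ideal.mem_map_of_mem (algebraMap R T) hsz
      rwa [Ideal.map_span, ← Set.range_comp] at h2
    · rw [span_le]
      rintro _ ⟨i, rfl⟩
      exact Ideal.mem_map_of_mem _ (hp i)
  have h2 : (maximalIdeal T).height ≤ (Set.range (algebraMap R T ∘ p)).ncard := by
    refine Ideal.height_le_card_of_mem_minimalPrimes_span (Set.finite_range _) ?_
    rw [← h1, Ideal.minimalPrimes_eq_subsingleton_self]
    rfl
  have h3 : (Set.range (algebraMap R T ∘ p)).ncard ≤ n := by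
    rw [← Set.image_univ]
    refine (Set.ncard_image_le Set.finite_univ).trans ?_
    simp
  have h4 := IsLocalization.AtPrime.ringKrullDim_eq_height P T
  rw [← IsLocalRing.maximalIdeal_height_eq_ringKrullDim] at h4
  have h5 : (maximalIdeal T).height = P.height := by exact_mod_cast h4
  rw [← h5]
  exact h2.trans (by exact_mod_cast h3)

/-- The ideal of `B` has height `n` if `B` is étale at the generic point. -/
theorem height_eq {R : Type u} [CommRing R] [IsRegularLocalRing R] {n : ℕ}
    (D : Fin n → Derivation ℤ R R) (P : Ideal R) [P.IsPrime] (p : Fin n → R)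
    (hp : ∀ i, p i ∈ P) (hj : jac D p ∉ P)
    (hgen : ∀ z ∈ P, ∃ s, s ∉ P ∧ s * z ∈ span (Set.range p)) : P.height = n :=
  le_antisymm (height_le_of_gen P p hp hgen) (le_height_of_jac D P p hp hj)

theorem height_add_dim {R : Type u} [CommRing R] [IsRegularLocalRing R] (P : Ideal R) [P.IsPrime] :
    (P.height : WithBot ℕ∞) + ringKrullDim (R ⧸ P) = ringKrullDim R := by
  have hCM := Groth.Agent.Ega4A.RegCM.isCohenMacaulayLocalRing_of_isRegularLocalRing R
  refine Groth.Agent.Ega4A.CMCatenary.height_add_ringKrullDim_quotient (M := R)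
    hCM.supportDim_eq_depth ?_ P
  rw [Module.support_eq_zeroLocus, Module.annihilator_eq_bot.mpr inferInstance]
  simp

theorem quot_aux {R : Type u} [CommRing R] (D : Derivation ℤ R R) (t : R) (ht : D t = 0) (x : R)
    (hx : (Ideal.Quotient.mk (span {t})).toIntAlgHom x = 0) :
    (Ideal.Quotient.mk (span {t})).toIntAlgHom (D x) = 0 := by
  have h1 : x ∈ span {t} := Ideal.Quotient.eq_zero_iff_mem.mp hx
  obtain ⟨a, rfl⟩ := Ideal.mem_span_singleton'.mp h1
  change Ideal.Quotient.mk (span {t}) (D (a * t)) = 0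
  rw [Ideal.Quotient.eq_zero_iff_mem, D.leibniz, ht, smul_zero, zero_add, smul_eq_mul]
  exact Ideal.mul_mem_right _ _ (Ideal.mem_span_singleton_self t)

/-- The derivation induced on `R/t`, if `D t = 0`. -/
noncomputable def quotDer {R : Type u} [CommRing R] (D : Derivation ℤ R R) (t : R) (ht : D t = 0) :
    Derivation ℤ (R ⧸ span {t}) (R ⧸ span {t}) :=
  Derivation.liftOfSurjective (f := (Ideal.Quotient.mk (span {t})).toIntAlgHom)
    (d := D) Ideal.Quotient.mk_surjective (quot_aux D t ht)

theorem quotDer_mk {R : Type u} [CommRing R] (D : Derivation ℤ R R) (t : R) (ht : D t = 0) (x : R) :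
    quotDer D t ht (Ideal.Quotient.mk (span {t}) x) = Ideal.Quotient.mk (span {t}) (D x) :=
  Derivation.liftOfSurjective_apply (f := (Ideal.Quotient.mk (span {t})).toIntAlgHom)
    Ideal.Quotient.mk_surjective (quot_aux D t ht) x

theorem jac_mk {R : Type u} [CommRing R] {n : ℕ} (D : Fin n → Derivation ℤ R R) (t : R)
    (ht : ∀ j, D j t = 0) (f : Fin n → R) :
    jac (fun j => quotDer (D j) t (ht j)) (fun i => Ideal.Quotient.mk (span {t}) (f i)) =
      Ideal.Quotient.mk (span {t}) (jac D f) := by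
  unfold jac
  rw [RingHom.map_det]
  congr 1
  ext i j
  exact quotDer_mk (D j) t (ht j) (f i)

end Groth.Agent.Pi1A.RamDim
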