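import Groth.Agent.Pi1A.RamCore
import Mathlib.RingTheory.Unramified.LocalRing
import Mathlib.RingTheory.Kaehler.Basic

set_option autoImplicit false
universe u

open IsLocalRing

namespace Groth.Agent.Pi1A.RamEnd

/-- the coordinate derivations attached to a basis of the differentials. -/
noncomputable def der {A R : Type u} [CommRing A] [CommRing R] [Algebra A R] {n : ℕ}
    (b : Module.Basis (Fin n) R (Ω[R⁄A])) (j : Fin n) : Derivation ℤ R R :=
  ((b.coord j).compDer (KaehlerDifferential.D A R)).restrictScalars ℤ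

theorem der_apply {A R : Type u} [CommRing A] [CommRing R] [Algebra A R] {n : ℕ}
    (b : Module.Basis (Fin n) R (Ω[R⁄A])) (j : Fin n) (x : R) :
    der b j x = b.repr (KaehlerDifferential.D A R x) j := rfl

theorem der_algebraMap {A R : Type u} [CommRing A] [CommRing R] [Algebra A R] {n : ℕ}
    (b : Module.Basis (Fin n) R (Ω[R⁄A])) (j : Fin n) (a : A) :
    der b j (algebraMap A R a) = 0 := by
  rw [der_apply]
  simp

/-- the derivations descend modulo an element of the base. -/
theorem exists_quot_der {A R : Type u} [CommRing A] [CommRing R] [Algebra A R] {n : ℕ}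
    (b : Module.Basis (Fin n) R (Ω[R⁄A])) (t : A) :
    ∃ D : Fin n → Derivation ℤ (R ⧸ Ideal.span {algebraMap A R t})
        (R ⧸ Ideal.span {algebraMap A R t}),
      ∀ j x, D j (Ideal.Quotient.mk _ x) =
        Ideal.Quotient.mk _ (b.repr (KaehlerDifferential.D A R x) j) := by
  set J := Ideal.span {algebraMap A R t} with hJ
  have hsurj : Function.Surjective (Ideal.Quotient.mkₐ ℤ J) := Ideal.Quotient.mkₐ_surjective ℤ J
  have hd : ∀ (j : Fin n) (x : R), Ideal.Quotient.mkₐ ℤ J x = 0 →
      Ideal.Quotient.mkₐ ℤ J (der b j x) = 0 := by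
    intro j x hx
    have hx' : x ∈ J := Ideal.Quotient.eq_zero_iff_mem.mp hx
    obtain ⟨r, rfl⟩ := Ideal.mem_span_singleton'.mp hx'
    refine Ideal.Quotient.eq_zero_iff_mem.mpr ?_
    rw [Derivation.leibniz, der_algebraMap, smul_zero, zero_add, smul_eq_mul]
    exact Ideal.mul_mem_right _ _ (Ideal.mem_span_singleton_self _)
  refine ⟨fun j => Derivation.liftOfSurjective hsurj (hd j), fun j x => ?_⟩
  exact Derivation.liftOfSurjective_apply hsurj (hd j) x

/-- a Jacobian which is a unit kills the differentials. -/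
theorem formallyUnramified_of_jac {A R B : Type u} [CommRing A] [CommRing R] [CommRing B]
    [Algebra A R] [Algebra A B] [Algebra R B] [IsScalarTower A R B] {n : ℕ}
    (b : Module.Basis (Fin n) R (Ω[R⁄A])) (hsurj : Function.Surjective (algebraMap R B))
    (h : Fin n → R) (hh : ∀ i, algebraMap R B (h i) = 0)
    (hu : IsUnit (algebraMap R B (Matrix.det (Matrix.of fun i j =>
      b.repr (KaehlerDifferential.D A R (h i)) j)))) :
    Algebra.FormallyUnramified A B := by
  let φ : Ω[R⁄A] →ₗ[R] Ω[B⁄A] := KaehlerDifferential.map A A R B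
  have hφ : Function.Surjective φ := KaehlerDifferential.map_surjective_of_surjective A A R B hsurj
  let M : Matrix (Fin n) (Fin n) B := (Matrix.of fun i j =>
      b.repr (KaehlerDifferential.D A R (h i)) j).map (algebraMap R B)
  have hM : IsUnit M.det := by
    have : M.det = algebraMap R B (Matrix.det (Matrix.of fun i j =>
      b.repr (KaehlerDifferential.D A R (h i)) j)) := (RingHom.map_det _ _).symm
    rw [this]; exact hu
  have h0 : ∀ i, ∑ j, M i j • φ (b j) = 0 := by
    intro i
    have h1 : φ (KaehlerDifferential.D A R (h i)) = 0 := by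
      show KaehlerDifferential.map A A R B (KaehlerDifferential.D A R (h i)) = 0
      rw [KaehlerDifferential.map_D, hh, map_zero]
    rw [← b.sum_repr (KaehlerDifferential.D A R (h i)), map_sum] at h1
    rw [← h1]
    refine Finset.sum_congr rfl fun j _ => ?_
    rw [map_smul]
    exact algebraMap_smul B _ _
  have h2 : ∀ k, φ (b k) = 0 := by
    intro k
    have h3 : ∑ i, M⁻¹ k i • ∑ j, M i j • φ (b j) = φ (b k) := by
      have h4 : ∀ i, M⁻¹ k i • ∑ j, M i j • φ (b j) = ∑ j, (M⁻¹ k i * M i j) • φ (b j) := by
        intro i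
        rw [Finset.smul_sum]
        exact Finset.sum_congr rfl fun j _ => by rw [smul_smul]
      rw [Finset.sum_congr rfl fun i _ => h4 i, Finset.sum_comm]
      have h5 : ∀ j, ∑ i, (M⁻¹ k i * M i j) • φ (b j) = (1 : Matrix (Fin n) (Fin n) B) k j • φ (b j) := by
        intro j
        rw [← Finset.sum_smul, ← Matrix.mul_apply, Matrix.nonsing_inv_mul M hM]
      rw [Finset.sum_congr rfl fun j _ => h5 j]
      simp [Matrix.one_apply]
    rw [← h3]
    simp [h0]
  constructor
  refine ⟨fun x y => ?_⟩
  have h6 : ∀ z : Ω[B⁄A], z = 0 := by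
    intro z
    obtain ⟨w, rfl⟩ := hφ z
    rw [← b.sum_repr w, map_sum]
    exact Finset.sum_eq_zero fun j _ => by rw [map_smul, h2, smul_zero]
  rw [h6 x, h6 y]

/-- the end of the argument: an invertible Jacobian gives a finite residue field extension. -/
theorem finite_residueField_of_jac {A R B : Type u} [CommRing A] [CommRing R] [CommRing B]
    [Algebra A R] [Algebra A B] [Algebra R B] [IsScalarTower A R B]
    [IsLocalRing A] [IsLocalRing B] [IsLocalHom (algebraMap A B)] [Algebra.EssFiniteType A B]
    {n : ℕ} (b : Module.Basis (Fin n) R (Ω[R⁄A])) (hsurj : Function.Surjective (algebraMap R B))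
    (h : Fin n → R) (hh : ∀ i, algebraMap R B (h i) = 0)
    (hu : IsUnit (algebraMap R B (Matrix.det (Matrix.of fun i j =>
      b.repr (KaehlerDifferential.D A R (h i)) j)))) :
    Module.Finite (ResidueField A) (ResidueField B) := by
  have := formallyUnramified_of_jac b hsurj h hh hu
  infer_instance

/-- end game over `R/t`. -/
theorem finite_residueField_of_quot {A R B : Type u} [CommRing A] [CommRing R] [CommRing B]
    [Algebra A R] [Algebra A B] [Algebra R B] [IsScalarTower A R B]
    [IsLocalRing A] [IsLocalRing B] [IsLocalHom (algebraMap A B)] [Algebra.EssFiniteType A B]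
    {n : ℕ} (b : Module.Basis (Fin n) R (Ω[R⁄A])) (hsurj : Function.Surjective (algebraMap R B))
    (t : A) (ht : t ∈ maximalIdeal A)
    (D : Fin n → Derivation ℤ (R ⧸ Ideal.span {algebraMap A R t})
        (R ⧸ Ideal.span {algebraMap A R t}))
    (hD : ∀ j x, D j (Ideal.Quotient.mk _ x) =
        Ideal.Quotient.mk _ (b.repr (KaehlerDifferential.D A R x) j))
    (h : Fin n → R ⧸ Ideal.span {algebraMap A R t})
    (hh : ∀ i, h i ∈ (RingHom.ker (algebraMap R B)).map (Ideal.Quotient.mk
      (Ideal.span {algebraMap A R t})))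
    (hu : IsUnit (RamCore.jac D h)) :
    Module.Finite (ResidueField A) (ResidueField B) := by
  have h1 : ∀ i, ∃ x ∈ RingHom.ker (algebraMap R B), Ideal.Quotient.mk _ x = h i := fun i =>
    (Ideal.mem_map_iff_of_surjective _ Ideal.Quotient.mk_surjective).mp (hh i)
  choose x hx hxh using h1
  refine finite_residueField_of_jac b hsurj x (fun i => hx i) ?_
  have h2 : RamCore.jac D h = Ideal.Quotient.mk _ (Matrix.det (Matrix.of fun i j =>
      b.repr (KaehlerDifferential.D A R (x i)) j)) := by
    rw [RamCore.jac, RingHom.map_det]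
    congr 1
    ext i j
    show D j (h i) = Ideal.Quotient.mk _ (b.repr (KaehlerDifferential.D A R (x i)) j)
    rw [← hxh i]
    exact hD j (x i)
  rw [h2] at hu
  -- a unit modulo `t` maps to a unit in `B`
  set δ := Matrix.det (Matrix.of fun i j => b.repr (KaehlerDifferential.D A R (x i)) j)
  obtain ⟨e, he⟩ := hu.exists_right_inv
  obtain ⟨e, rfl⟩ := Ideal.Quotient.mk_surjective e
  rw [← map_mul, ← map_one (Ideal.Quotient.mk _), Ideal.Quotient.eq, Ideal.mem_span_singleton'] at he
  obtain ⟨a, ha⟩ := he
  have h3 := congrArg (algebraMap R B) ha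
  rw [map_mul, map_sub, map_mul, map_one, ← IsScalarTower.algebraMap_apply] at h3
  have h4 : algebraMap A B t ∈ maximalIdeal B := by
    rw [mem_maximalIdeal, mem_nonunits_iff]
    intro h5
    exact ht (isUnit_of_map_unit (algebraMap A B) t h5)
  by_contra h5
  have h6 : algebraMap R B δ ∈ maximalIdeal B := (mem_maximalIdeal _).mpr h5
  have h7 : (1 : B) ∈ maximalIdeal B := by
    have h8 : (1 : B) = algebraMap R B δ * algebraMap R B e -
        algebraMap R B a * algebraMap A B t := by rw [h3]; ring
    rw [h8]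
    exact (maximalIdeal B).sub_mem (Ideal.mul_mem_right _ _ h6) (Ideal.mul_mem_left _ _ h4)
  exact (Ideal.ne_top_iff_one _).mp (maximalIdeal.isMaximal B).ne_top h7

end Groth.Agent.Pi1A.RamEnd
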