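import Groth.Agent.Hensel.QfGoingDown
import Groth.Agent.CalgA.DimFormula2
import Groth.Agent.Flat2F.LocalZMT
import Mathlib.RingTheory.Smooth.Flat
import Mathlib.RingTheory.AlgebraicIndependent.Transcendental
import Mathlib.RingTheory.Flat.TorsionFree
import Mathlib.RingTheory.Unramified.Field
import Mathlib.RingTheory.Ideal.KrullsHeightTheorem

/-!
# Purity of the ramification locus: the quasi-finite step

Let `A → B` be a local homomorphism, essentially of finite type, from a regular local ring to a
normal local domain of dimension at least two, formally étale at all primes other than the maximal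
ideal of `B`. If the residue field extension is finite, then `B` is formally étale over `A`.
-/

set_option autoImplicit false

universe u

namespace Groth.Agent.Pi1A.RamEt

open IsLocalRing

/-- Formally smooth algebras essentially of finite type over a Noetherian ring are flat. -/
theorem flat_of_formallySmooth (R A : Type*) [CommRing R] [IsNoetherianRing R] [CommRing A]
    [Algebra R A] [Algebra.EssFiniteType R A] [Algebra.FormallySmooth R A] : Module.Flat R A := by
  let C := Algebra.EssFiniteType.subalgebra R A
  let M := Algebra.EssFiniteType.submonoid R A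
  have hM : IsLocalization M A := Algebra.EssFiniteType.isLocalization R A
  obtain ⟨n, f, hf⟩ := (Algebra.FiniteType.iff_quotient_mvPolynomial'' (R := R) (S := C)).mp
    inferInstance
  let N : Submonoid (MvPolynomial (Fin n) R) := M.comap f
  let P := Localization N
  have hflat : Module.Flat (MvPolynomial (Fin n) R) P := IsLocalization.flat P N
  have hflat2 : Module.Flat R P := Module.Flat.trans R (MvPolynomial (Fin n) R) P
  have hnoeth : IsNoetherianRing P := IsLocalization.isNoetherianRing N P inferInstance
  let g : P →ₐ[R] A := IsLocalization.liftAlgHom (M := N)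
    (f := (IsScalarTower.toAlgHom R C A).comp f)
    (fun y => IsLocalization.map_units A (⟨f y, y.2⟩ : M))
  refine Algebra.FormallySmooth.flat_of_algHom_of_isNoetherianRing g fun a => ?_
  obtain ⟨⟨c, s⟩, hcs⟩ := IsLocalization.surj M a
  obtain ⟨c', hc'⟩ := hf c
  obtain ⟨s', hs'⟩ := hf s
  have hs'N : s' ∈ N := by
    change f s' ∈ M
    rw [hs']
    exact s.2
  refine ⟨IsLocalization.mk' P c' ⟨s', hs'N⟩, ?_⟩
  have hu : IsUnit (algebraMap C A s) := IsLocalization.map_units A s
  apply hu.mul_right_cancel
  rw [hcs]
  have h1 : g (algebraMap _ P s') = algebraMap C A s := by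
    change IsLocalization.liftAlgHom _ (algebraMap _ P s') = _
    erw [IsLocalization.lift_eq]
    change algebraMap C A (f s') = _
    rw [hs']
  have h2 : g (algebraMap _ P c') = algebraMap C A c := by
    change IsLocalization.liftAlgHom _ (algebraMap _ P c') = _
    erw [IsLocalization.lift_eq]
    change algebraMap C A (f c') = _
    rw [hc']
  rw [← h1, ← h2, ← map_mul, IsLocalization.mk'_spec' P c' ⟨s', hs'N⟩ |> (mul_comm _ _).trans]

/-- A formally étale algebra essentially of finite type over a Noetherian domain `A`, which is a
domain, contains `A` and is algebraic over it. -/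
theorem injective_and_isAlgebraic {A L : Type u} [CommRing A] [IsNoetherianRing A] [IsDomain A]
    [Field L] [Algebra A L] [Algebra.EssFiniteType A L] [Algebra.FormallyEtale A L] :
    Function.Injective (algebraMap A L) ∧ Algebra.IsAlgebraic A L := by
  have hflat : Module.Flat A L := flat_of_formallySmooth A L
  have hinj : Function.Injective (algebraMap A L) :=
    FaithfulSMul.algebraMap_injective A L
  refine ⟨hinj, ?_⟩
  let K := FractionRing A
  let _ : Algebra K L := FractionRing.liftAlgebra A L
  have : IsScalarTower A K L := FractionRing.isScalarTower_liftAlgebra A L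
  have : Algebra.FormallyUnramified K L := Algebra.FormallyUnramified.of_restrictScalars A K L
  have : Algebra.EssFiniteType K L := Algebra.EssFiniteType.of_comp A K L
  have hs : Algebra.IsSeparable K L := Algebra.FormallyUnramified.isSeparable K L
  have : Algebra.IsAlgebraic K L := inferInstance
  exact (IsFractionRing.comap_isAlgebraic_iff (A := A) (K := K) (C := L)).mpr this

/-- **Purity of the ramification locus, the quasi-finite step.** -/
theorem formallyEtale_of_finite_residueField {A B : Type u} [CommRing A] [CommRing B] [Algebra A B]
    [IsRegularLocalRing A] [IsLocalRing B] [IsLocalHom (algebraMap A B)]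
    [Algebra.EssFiniteType A B] [IsDomain B] [IsIntegrallyClosed B] (h2 : 2 ≤ ringKrullDim B)
    (het : ∀ (q : Ideal B) [q.IsPrime], q ≠ maximalIdeal B →
      Algebra.FormallyEtale A (Localization.AtPrime q))
    (hκ : Module.Finite (ResidueField A) (ResidueField B)) : Algebra.FormallyEtale A B := by
  have hdA : IsDomain A := CalgA.RegBasic.isDomain A
  have hBN : IsNoetherianRing B := Algebra.EssFiniteType.isNoetherianRing A B
  have hmB : (2 : ℕ∞) ≤ (maximalIdeal B).height := by
    rw [← IsLocalRing.maximalIdeal_height_eq_ringKrullDim] at h2
    exact WithBot.coe_le_coe.mp h2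
  have hbot : (⊥ : Ideal B) ≠ maximalIdeal B := by
    intro h
    rw [← h, Ideal.height_bot] at hmB
    exact absurd hmB (by simp)
  -- the generic point
  have hgen : Function.Injective (algebraMap A B) ∧ Algebra.IsAlgebraic A B := by
    let L := FractionRing B
    have : Algebra.FormallyEtale A (Localization.AtPrime (⊥ : Ideal B)) := het ⊥ hbot
    have hloc : IsLocalization.AtPrime L (⊥ : Ideal B) := by
      change IsLocalization (⊥ : Ideal B).primeCompl L
      rw [Ideal.primeCompl_bot]
      infer_instance
    let e : Localization.AtPrime (⊥ : Ideal B) ≃ₐ[B] L :=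
      IsLocalization.algEquiv (⊥ : Ideal B).primeCompl _ _
    have : Algebra.FormallyEtale A L := .of_equiv (e.restrictScalars A)
    have : Algebra.EssFiniteType A L :=
      have : Algebra.EssFiniteType B L := Algebra.EssFiniteType.of_isLocalization L (nonZeroDivisors B)
      Algebra.EssFiniteType.comp A B L
    obtain ⟨h1, h3⟩ := injective_and_isAlgebraic (A := A) (L := L)
    refine ⟨fun x y h => h1 ?_, ?_⟩
    · rw [IsScalarTower.algebraMap_apply A B L, IsScalarTower.algebraMap_apply A B L, h]
    · refine ⟨fun b => ?_⟩
      have := h3.isAlgebraic (algebraMap B L b)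
      exact (isAlgebraic_algebraMap_iff (IsFractionRing.injective B L)).mp this
  obtain ⟨hinj, halg⟩ := hgen
  -- the finite type model
  let C := Algebra.EssFiniteType.subalgebra A B
  let q : Ideal C := (maximalIdeal B).under C
  have hqM : q.primeCompl = Algebra.EssFiniteType.submonoid A B := by
    ext x
    show ¬ (algebraMap C B x ∈ maximalIdeal B) ↔ IsUnit (algebraMap C B x)
    rw [mem_maximalIdeal, mem_nonunits_iff, not_not]
  have hloc : IsLocalization.AtPrime B q := by
    change IsLocalization q.primeCompl B
    rw [hqM]; exact Algebra.EssFiniteType.isLocalization A B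
  let e : Localization.AtPrime q ≃ₐ[C] B := IsLocalization.algEquiv q.primeCompl _ _
  have hunder : (maximalIdeal B).under A = maximalIdeal A :=
    IsLocalRing.maximalIdeal_comap (algebraMap A B)
  have hinjC : Function.Injective (algebraMap A C) := fun x y h => hinj (congrArg Subtype.val h)
  have hfs : FaithfulSMul A C := (faithfulSMul_iff_algebraMap_injective A C).mpr hinjC
  have halgC : Algebra.IsAlgebraic A C := ⟨fun c =>
    (isAlgebraic_algebraMap_iff (R := A) (S := C) (A := B) Subtype.val_injective).mp
      (halg.isAlgebraic (algebraMap C B c))⟩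
  have hqA : q.under A = maximalIdeal A := by
    rw [← hunder]
    exact Ideal.under_under _
  have hlies : q.LiesOver (maximalIdeal A) := ⟨hqA.symm⟩
  -- dim B ≤ dim A
  have hdim : (maximalIdeal B).height ≤ (maximalIdeal A).height := by
    obtain ⟨a, b, t, t', h1, h3, h4, h5, h6, -⟩ :=
      CalgA.DimFormula2.exists_dimension_formula (maximalIdeal A) q
    have ht : t = 0 := by
      rw [trdeg_eq_zero_iff.mpr halgC] at h4
      exact_mod_cast h4.symm
    have h7 : (maximalIdeal B).height = q.height := by
      rw [← IsLocalization.height_under q.primeCompl (maximalIdeal B)]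
    rw [h7, h1, h3]
    exact_mod_cast (by omega : a ≤ b)
  -- the closed fibre is a point
  have hfib : ∀ (P : Ideal B) [P.IsPrime], P.under A = maximalIdeal A → P = maximalIdeal B := by
    intro P _ hP
    by_contra hne
    have := het P hne
    let BP := Localization.AtPrime P
    have : Algebra.EssFiniteType A BP :=
      have : Algebra.EssFiniteType B BP := Algebra.EssFiniteType.of_isLocalization BP P.primeCompl
      Algebra.EssFiniteType.comp A B BP
    have hflat : Module.Flat A BP := flat_of_formallySmooth A BP
    have hPmax : (maximalIdeal BP).under B = P := Localization.AtPrime.under_maximalIdeal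
    have hlies' : (maximalIdeal BP).LiesOver (maximalIdeal A) :=
      ⟨(hP.symm.trans (congrArg (Ideal.under A) hPmax.symm)).trans (Ideal.under_under _)⟩
    have h1 := Ideal.height_eq_height_add_of_liesOver_of_hasGoingDown (maximalIdeal A)
      (maximalIdeal BP)
    have h3 : (maximalIdeal BP).height = P.height := by
      rw [← IsLocalization.height_under P.primeCompl (maximalIdeal BP), hPmax]
    have h4 : (maximalIdeal A).height ≤ P.height := by
      rw [← h3, h1]
      exact le_self_add
    have h5 : P < maximalIdeal B := lt_of_le_of_ne (le_maximalIdeal (Ideal.IsPrime.ne_top ‹_›)) hne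
    have h6 := Ideal.height_strict_mono_of_isPrime_of_isPrime h5
    exact absurd (h6.trans_le (hdim.trans h4)) (lt_irrefl _)
  have hnil : ∀ x ∈ maximalIdeal B, ∃ n : ℕ,
      x ^ n ∈ ((maximalIdeal B).under A).map (algebraMap A B) := by
    intro x hx
    change x ∈ (((maximalIdeal B).under A).map (algebraMap A B)).radical
    rw [Ideal.radical_eq_sInf, Ideal.mem_sInf]
    rintro P ⟨hP1, hP2⟩
    have h3 : (maximalIdeal A) ≤ P.under A := by
      rw [← hunder]
      exact Ideal.map_le_iff_le_comap.mp hP1
    have h4 : P.under A = maximalIdeal A :=
      ((IsLocalRing.maximalIdeal.isMaximal A).eq_of_le (Ideal.IsPrime.ne_top inferInstance) h3).symm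
    rwa [hfib P h4]
  have hres : ∀ x : ResidueField B, ∃ p : Polynomial A,
      p.map ((residue B).comp (algebraMap A B)) ≠ 0 ∧
        p.eval₂ ((residue B).comp (algebraMap A B)) x = 0 := by
    intro x
    have hx : IsIntegral (ResidueField A) x := Algebra.IsIntegral.isIntegral x
    obtain ⟨p, hp, hpx⟩ := hx
    obtain ⟨p', rfl⟩ := Polynomial.map_surjective (residue A) residue_surjective p
    have hcomp : (residue B).comp (algebraMap A B) =
        (algebraMap (ResidueField A) (ResidueField B)).comp (residue A) := rfl
    refine ⟨p', ?_, ?_⟩
    · rw [hcomp, ← Polynomial.map_map]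
      exact (Polynomial.map_ne_zero_iff (algebraMap (ResidueField A) (ResidueField B)).injective).mpr
        hp.ne_zero
    · rw [hcomp, ← Polynomial.eval₂_map]
      exact hpx
  have hqf := Flat2F.LocalZMT.quasiFinite_quotient hnil hres
  have hwqf : Algebra.WeaklyQuasiFiniteAt A q := by
    rw [Algebra.weaklyQuasiFiniteAt_iff]
    have hq : q.under A = (maximalIdeal B).under A := Ideal.under_under _
    refine (Algebra.QuasiFinite.iff_of_algEquiv
      (Ideal.quotientEquivAlg _ _ (e.restrictScalars A) ?_)).mpr hqf
    rw [hq, Ideal.map_map]
    congr 1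
    exact ((e.restrictScalars A).toAlgHom.comp_algebraMap).symm
  have hqfq : Algebra.QuasiFiniteAt A q := Algebra.QuasiFiniteAt.of_weaklyQuasiFiniteAt q
  refine Hensel.QfGoingDown.formallyEtale_of_isLocalization (S := C) q hinj
    (le_trans (by norm_num) h2) fun P _ hP => ?_
  have hne : P ≠ maximalIdeal B := by
    rintro rfl
    rw [hP] at hmB
    exact absurd hmB (by decide)
  have := het P hne
  infer_instance

end Groth.Agent.Pi1A.RamEt
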