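import Groth.Agent.Pi1A.RamEt
import Groth.Agent.Pi1A.NormalEtaleAlg
import Groth.Agent.CalgA.RegBasic

/-!
# Finiteness of the normalization of a minimal prime over a regular parameter
-/

set_option autoImplicit false

universe u

namespace Groth.Agent.Pi1A.RamFin

open IsLocalRing TensorProduct

/-- A formally étale algebra, essentially of finite type over a Noetherian domain, which is an
Artinian local ring, is a field. -/
theorem isField_of_formallyEtale {S κ : Type u} [CommRing S] [IsNoetherianRing S] [IsDomain S]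
    [CommRing κ] [Algebra S κ] [Algebra.EssFiniteType S κ] [Algebra.FormallyEtale S κ]
    [IsLocalRing κ] [IsArtinianRing κ] : IsField κ := by
  have hflat : Module.Flat S κ := RamEt.flat_of_formallySmooth S κ
  have hunit : ∀ s : nonZeroDivisors S, IsUnit (algebraMap S κ s) := by
    intro s
    apply IsArtinianRing.isUnit_of_mem_nonZeroDivisors
    rw [mem_nonZeroDivisors_iff_right]
    intro x hx
    have h1 : Function.Injective (fun y : κ => (s : S) • y) :=
      (Module.Flat.isSMulRegular_of_nonZeroDivisors s.2)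
    apply h1
    simp only [smul_zero]
    rw [Algebra.smul_def, mul_comm]
    exact hx
  let K := FractionRing S
  let _ : Algebra K κ := (IsLocalization.lift (M := nonZeroDivisors S) hunit).toAlgebra
  have : IsScalarTower S K κ := IsScalarTower.of_algebraMap_eq fun s =>
    (IsLocalization.lift_eq (M := nonZeroDivisors S) hunit s).symm
  have : Algebra.FormallyEtale K κ := Algebra.FormallyEtale.localization_base (nonZeroDivisors S)
  have : Algebra.EssFiniteType K κ := Algebra.EssFiniteType.of_comp S K κ
  refine ⟨⟨0, 1, zero_ne_one⟩, mul_comm, fun {a} ha => ?_⟩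
  obtain ⟨y, hy⟩ := NormalEtaleAlg.vonNeumann K κ a
  have he : IsIdempotentElem (a * y) := by
    change a * y * (a * y) = a * y
    calc a * y * (a * y) = (a * a * y) * y := by ring
      _ = a * y := by rw [hy]
  rcases IsLocalRing.isUnit_or_isUnit_one_sub_self (a * y) with h1 | h1
  · refine ⟨y, h1.mul_left_cancel ?_⟩
    rw [mul_one]; exact he
  · exfalso
    apply ha
    have h0 : a * y = 0 := by
      apply h1.mul_left_cancel
      rw [mul_zero, sub_mul, one_mul]
      exact sub_eq_zero.mpr he.symm
    rw [← hy, mul_assoc, h0, mul_zero]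

/-- The quotient of a formally étale algebra by an extended ideal is formally étale. -/
theorem formallyEtale_quotient {A B : Type u} [CommRing A] [CommRing B] [Algebra A B]
    [Algebra.FormallyEtale A B] (I : Ideal A) :
    Algebra.FormallyEtale (A ⧸ I) (B ⧸ I.map (algebraMap A B)) :=
  .of_equiv (Algebra.TensorProduct.quotIdealMapEquivQuotTensor B I).symm

/-- `B ⧸ q`, for `q` a minimal prime over a regular parameter `t` of `A` with `A → B_q` formally
étale: the fraction field is formally étale over `A ⧸ t`. -/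
theorem formallyEtale_fractionRing {A B : Type u} [CommRing A] [CommRing B] [Algebra A B]
    [IsRegularLocalRing A] [Algebra.EssFiniteType A B] (t : A) (ht : t ∈ maximalIdeal A)
    (ht2 : t ∉ maximalIdeal A ^ 2) (q : Ideal B) [q.IsPrime]
    (hq : q ∈ (Ideal.span {algebraMap A B t}).minimalPrimes)
    (het : Algebra.FormallyEtale A (Localization.AtPrime q))
    [Algebra (A ⧸ Ideal.span {t}) (B ⧸ q)] [IsScalarTower A (A ⧸ Ideal.span {t}) (B ⧸ q)] :
    Algebra.FormallyEtale (A ⧸ Ideal.span {t}) (FractionRing (B ⧸ q)) := by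
  obtain ⟨hS, -⟩ := CalgA.RegBasic.quotient_of_notMem_sq t ht ht2
  have hSd : IsDomain (A ⧸ Ideal.span {t}) := CalgA.RegBasic.isDomain _
  have hBN : IsNoetherianRing B := Algebra.EssFiniteType.isNoetherianRing A B
  let Bq := Localization.AtPrime q
  let J : Ideal Bq := (Ideal.span {t}).map (algebraMap A Bq)
  have hJ : J = Ideal.span {algebraMap A Bq t} := by
    change (Ideal.span {t}).map (algebraMap A Bq) = _
    rw [Ideal.map_span, Set.image_singleton]
  have hJ1 : ∀ P : Ideal Bq, P.IsPrime → J ≤ P → P = maximalIdeal Bq := by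
    intro P hP hJP
    have h1 : (P.comap (algebraMap B Bq)) ≤ q := by
      exact (Ideal.comap_mono (le_maximalIdeal hP.ne_top)).trans
        (le_of_eq (IsLocalization.AtPrime.under_maximalIdeal Bq q))
    have h2 : Ideal.span {algebraMap A B t} ≤ P.comap (algebraMap B Bq) := by
      rw [Ideal.span_singleton_le_iff_mem, Ideal.mem_comap, ← IsScalarTower.algebraMap_apply]
      apply hJP
      rw [hJ]
      exact Ideal.mem_span_singleton_self _
    have h3 : q ≤ P.comap (algebraMap B Bq) := hq.2 ⟨Ideal.IsPrime.comap _, h2⟩ h1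
    refine le_antisymm (le_maximalIdeal hP.ne_top) ?_
    rw [← Localization.AtPrime.map_eq_maximalIdeal]
    exact Ideal.map_le_iff_le_comap.mpr h3
  have hJm : J ≤ maximalIdeal Bq := by
    rw [hJ, Ideal.span_singleton_le_iff_mem, IsScalarTower.algebraMap_apply A B Bq,
      ← Localization.AtPrime.map_eq_maximalIdeal]
    exact Ideal.mem_map_of_mem _ (hq.1.2 (Ideal.mem_span_singleton_self _))
  have hne : J ≠ ⊤ := fun h => (maximalIdeal.isMaximal Bq).ne_top (top_le_iff.mp (h ▸ hJm))
  have hnt : Nontrivial (Bq ⧸ J) := Ideal.Quotient.nontrivial_iff.mpr hne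
  have hloc : IsLocalRing (Bq ⧸ J) :=
    IsLocalRing.of_surjective' (Ideal.Quotient.mk J) Ideal.Quotient.mk_surjective
  have hprime : ∀ P : Ideal (Bq ⧸ J), P.IsPrime →
      P = (maximalIdeal Bq).map (Ideal.Quotient.mk J) := by
    intro P hP
    have h1 := hJ1 (P.comap (Ideal.Quotient.mk J)) (Ideal.IsPrime.comap _) (by
      intro x hx
      rw [Ideal.mem_comap, Ideal.Quotient.eq_zero_iff_mem.mpr hx]
      exact P.zero_mem)
    rw [← h1, Ideal.map_comap_of_surjective _ Ideal.Quotient.mk_surjective]
  have hart : IsArtinianRing (Bq ⧸ J) := by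
    rw [isArtinianRing_iff_krullDimLE_zero, Ring.krullDimLE_zero_iff]
    intro P hP
    rw [hprime P hP, ← hprime (maximalIdeal (Bq ⧸ J)) inferInstance]
    infer_instance
  have hess0 : Algebra.EssFiniteType A Bq :=
    have : Algebra.EssFiniteType B Bq := Algebra.EssFiniteType.of_isLocalization Bq q.primeCompl
    Algebra.EssFiniteType.comp A B Bq
  have hess1 : Algebra.EssFiniteType A (Bq ⧸ J) := Algebra.EssFiniteType.comp A Bq (Bq ⧸ J)
  have hess : Algebra.EssFiniteType (A ⧸ Ideal.span {t}) (Bq ⧸ J) :=
    Algebra.EssFiniteType.of_comp A (A ⧸ Ideal.span {t}) (Bq ⧸ J)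
  have hfe : Algebra.FormallyEtale (A ⧸ Ideal.span {t}) (Bq ⧸ J) := formallyEtale_quotient _
  have hfield : IsField (Bq ⧸ J) := isField_of_formallyEtale (S := A ⧸ Ideal.span {t})
  have hJmax : J.IsMaximal := Ideal.Quotient.maximal_of_isField J hfield
  have hJeq : J = maximalIdeal Bq := IsLocalRing.eq_maximalIdeal hJmax
  let e1 : Bq ⧸ J ≃+* q.ResidueField := Ideal.quotEquivOfEq hJeq
  let e2 : FractionRing (B ⧸ q) ≃ₐ[B ⧸ q] q.ResidueField := FractionRing.algEquiv _ _
  let e : (Bq ⧸ J) ≃ₐ[A ⧸ Ideal.span {t}] FractionRing (B ⧸ q) :=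
    AlgEquiv.ofRingEquiv (f := e1.trans e2.symm.toRingEquiv) (by
      intro s
      obtain ⟨a, rfl⟩ := Ideal.Quotient.mk_surjective s
      have h1 : e1 (algebraMap (A ⧸ Ideal.span {t}) (Bq ⧸ J) (Ideal.Quotient.mk _ a)) =
          algebraMap (B ⧸ q) q.ResidueField (Ideal.Quotient.mk q (algebraMap A B a)) := by
        rfl
      have h2 : algebraMap (A ⧸ Ideal.span {t}) (B ⧸ q) (Ideal.Quotient.mk _ a) =
          Ideal.Quotient.mk q (algebraMap A B a) := by
        have h3 := IsScalarTower.algebraMap_apply A (A ⧸ Ideal.span {t}) (B ⧸ q) a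
        exact h3.symm
      have h4 : e2.symm (algebraMap (B ⧸ q) q.ResidueField
          (Ideal.Quotient.mk q (algebraMap A B a))) = algebraMap (B ⧸ q) (FractionRing (B ⧸ q))
          (Ideal.Quotient.mk q (algebraMap A B a)) := e2.symm.commutes _
      rw [IsScalarTower.algebraMap_apply (A ⧸ Ideal.span {t}) (B ⧸ q) (FractionRing (B ⧸ q)), h2,
        ← h4, ← h1]
      rfl)
  exact Algebra.FormallyEtale.of_equiv e

/-- the hypothesis (N): finiteness of normalizations -/
def NormFin : Prop :=
  ∀ (S C : Type u) [CommRing S] [IsRegularLocalRing S] [CommRing C] [IsDomain C] [IsLocalRing C]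
    [Algebra S C] [Algebra.EssFiniteType S C] [Algebra.FormallyEtale S (FractionRing C)],
    Module.Finite C (integralClosure C (FractionRing C))

theorem finite_normalization_of (hN : NormFin.{u}) {A B : Type u} [CommRing A] [CommRing B]
    [Algebra A B] [IsRegularLocalRing A] [IsLocalRing B]
    [Algebra.EssFiniteType A B] (t : A) (ht : t ∈ maximalIdeal A)
    (ht2 : t ∉ maximalIdeal A ^ 2) (q : Ideal B) [q.IsPrime]
    (hq : q ∈ (Ideal.span {algebraMap A B t}).minimalPrimes)
    (het : Algebra.FormallyEtale A (Localization.AtPrime q)) :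
    Module.Finite (B ⧸ q) (integralClosure (B ⧸ q) (FractionRing (B ⧸ q))) := by
  have hle : Ideal.span {t} ≤ q.comap (algebraMap A B) := by
    rw [Ideal.span_singleton_le_iff_mem, Ideal.mem_comap]
    exact hq.1.2 (Ideal.mem_span_singleton_self _)
  let _ : Algebra (A ⧸ Ideal.span {t}) (B ⧸ q) :=
    (Ideal.quotientMap q (algebraMap A B) hle).toAlgebra
  have _ : IsScalarTower A (A ⧸ Ideal.span {t}) (B ⧸ q) :=
    IsScalarTower.of_algebraMap_eq fun a => rfl
  obtain ⟨hS, -⟩ := CalgA.RegBasic.quotient_of_notMem_sq t ht ht2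
  have hloc : IsLocalRing (B ⧸ q) :=
    IsLocalRing.of_surjective' (Ideal.Quotient.mk q) Ideal.Quotient.mk_surjective
  have h1 := formallyEtale_fractionRing t ht ht2 q hq het
  have h2 : Algebra.EssFiniteType A (B ⧸ q) := Algebra.EssFiniteType.comp A B (B ⧸ q)
  have h3 : Algebra.EssFiniteType (A ⧸ Ideal.span {t}) (B ⧸ q) :=
    Algebra.EssFiniteType.of_comp A (A ⧸ Ideal.span {t}) (B ⧸ q)
  exact hN (A ⧸ Ideal.span {t}) (B ⧸ q)

/-- Finiteness of the normalization is invariant under isomorphisms. -/
theorem finite_integralClosure_of_ringEquiv {R R' : Type u} [CommRing R] [IsDomain R]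
    [CommRing R'] [IsDomain R'] (e : R ≃+* R')
    (h : Module.Finite R (integralClosure R (FractionRing R))) :
    Module.Finite R' (integralClosure R' (FractionRing R')) := by
  let E : FractionRing R ≃+* FractionRing R' := IsFractionRing.ringEquivOfRingEquiv e
  have hE : ∀ r, E (algebraMap R (FractionRing R) r) = algebraMap R' (FractionRing R') (e r) :=
    fun r => IsFractionRing.ringEquivOfRingEquiv_algebraMap e r
  have h1 : (algebraMap R' (FractionRing R')).comp (e : R →+* R') =
      (E : FractionRing R →+* FractionRing R').comp (algebraMap R (FractionRing R)) :=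
    RingHom.ext fun r => (hE r).symm
  have h2 : (algebraMap R (FractionRing R)).comp (e.symm : R' →+* R) =
      (E.symm : FractionRing R' →+* FractionRing R).comp (algebraMap R' (FractionRing R')) := by
    refine RingHom.ext fun r => ?_
    apply E.injective
    change E (algebraMap R (FractionRing R) (e.symm r)) = E (E.symm (algebraMap R' _ r))
    rw [hE, RingEquiv.apply_symm_apply, RingEquiv.apply_symm_apply]
  let f : integralClosure R (FractionRing R) →ₛₗ[(e : R →+* R')]
      integralClosure R' (FractionRing R') :=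
    { toFun := fun x => ⟨E x, IsIntegral.map_of_comp_eq (e : R →+* R')
        (E : FractionRing R →+* FractionRing R') h1 x.2⟩
      map_add' := fun x y => Subtype.ext (map_add E _ _)
      map_smul' := fun r x => Subtype.ext (by
        change E (r • (x : FractionRing R)) = (e r) • (E x)
        rw [Algebra.smul_def, Algebra.smul_def, map_mul, hE]) }
  refine Module.Finite.of_surjective f fun y => ?_
  refine ⟨⟨E.symm y, IsIntegral.map_of_comp_eq (e.symm : R' →+* R)
    (E.symm : FractionRing R' →+* FractionRing R) h2 y.2⟩, Subtype.ext ?_⟩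
  exact E.apply_symm_apply _

end Groth.Agent.Pi1A.RamFin
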