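import Mathlib

/-!
# Generators of the ideal of a formally étale quotient (piece (S6) of S0256)

`A → R` formally smooth with `Ω[R⁄A]` free of rank `n`, `R → B` surjective, `A → B_q` formally
étale: the kernel is generated at `q` by `n` elements whose Jacobian determinant is a unit at `q`.
-/

set_option linter.all false

universe u

namespace Groth.Agent.Pi1A.RamGen

open KaehlerDifferential TensorProduct

/-- In the local case elements of the kernel with unit Jacobian determinant generate it. -/
theorem ker_le_span {A R B : Type u} [CommRing A] [CommRing R] [CommRing B] [Algebra A R]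
    [Algebra A B] [Algebra R B] [IsScalarTower A R B] [IsLocalRing R] [IsNoetherianRing R]
    [Nontrivial B]
    [Algebra.FormallySmooth A R] [Algebra.FormallySmooth A B] {n : ℕ}
    (b : Module.Basis (Fin n) R (Ω[R⁄A])) (hsurj : Function.Surjective (algebraMap R B))
    (x : Fin n → R) (hx : ∀ i, algebraMap R B (x i) = 0)
    (hdet : IsUnit (Matrix.det (Matrix.of fun i j => b.repr (D A R (x i)) j))) :
    RingHom.ker (algebraMap R B) ≤ Ideal.span (Set.range x) := by
  classical
  obtain ⟨l, hl⟩ := (Algebra.FormallySmooth.iff_split_injection (R := A) hsurj).mp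
    (inferInstance : Algebra.FormallySmooth A B)
  have hinj : Function.Injective (kerCotangentToTensor A R B) := by
    intro a c hac
    have := congrArg l hac
    simpa only [← LinearMap.comp_apply, hl, LinearMap.id_apply] using this
  -- every element of `Ω` is a combination of the `D (x i)`
  have hspan : ∀ w : Ω[R⁄A], ∃ c : Fin n → R, w = ∑ i, c i • D A R (x i) := by
    intro w
    let M : Matrix (Fin n) (Fin n) R := Matrix.of fun i j => b.repr (D A R (x i)) j
    have hM : IsUnit M.det := hdet
    refine ⟨Matrix.vecMul (fun j => b.repr w j) M⁻¹, ?_⟩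
    apply b.repr.injective
    ext k
    have h1 : b.repr (∑ i, (Matrix.vecMul (fun j => b.repr w j) M⁻¹) i • D A R (x i)) k
        = Matrix.vecMul (Matrix.vecMul (fun j => b.repr w j) M⁻¹) M k := by
      simp only [map_sum, map_smul, Finsupp.coe_finset_sum, Finset.sum_apply, Finsupp.smul_apply,
        Matrix.vecMul, dotProduct, smul_eq_mul]
      rfl
    rw [h1, Matrix.vecMul_vecMul, Matrix.nonsing_inv_mul _ hM, Matrix.vecMul_one]
  have hle : RingHom.ker (algebraMap R B) ≤
      Ideal.span (Set.range x) ⊔
        (RingHom.ker (algebraMap R B)) • (RingHom.ker (algebraMap R B)) := by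
    intro z hz
    obtain ⟨c, hc⟩ := hspan (D A R z)
    have hmem : ∑ i, c i * x i ∈ Ideal.span (Set.range x) :=
      Ideal.sum_mem _ fun i _ => Ideal.mul_mem_left _ _ (Ideal.subset_span ⟨i, rfl⟩)
    have hker : ∑ i, c i * x i ∈ RingHom.ker (algebraMap R B) := by
      rw [RingHom.mem_ker, map_sum]
      exact Finset.sum_eq_zero fun i _ => by rw [map_mul, hx i, mul_zero]
    have hsub : z - ∑ i, c i * x i ∈ RingHom.ker (algebraMap R B) := sub_mem hz hker
    have hzero : (RingHom.ker (algebraMap R B)).toCotangent ⟨z - ∑ i, c i * x i, hsub⟩ = 0 := by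
      apply hinj
      rw [map_zero, kerCotangentToTensor_toCotangent]
      have hD : D A R (z - ∑ i, c i * x i) = - ∑ i, x i • D A R (c i) := by
        rw [map_sub, map_sum, hc]
        simp only [Derivation.leibniz, Finset.sum_add_distrib]
        abel
      change (1 : B) ⊗ₜ[R] D A R (z - ∑ i, c i * x i) = 0
      rw [hD, TensorProduct.tmul_neg, TensorProduct.tmul_sum, neg_eq_zero]
      refine Finset.sum_eq_zero fun i _ => ?_
      rw [TensorProduct.tmul_smul, TensorProduct.smul_tmul', Algebra.smul_def, hx i, zero_mul,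
        TensorProduct.zero_tmul]
    rw [Ideal.toCotangent_eq_zero] at hzero
    have h2 : z - ∑ i, c i * x i ∈
        (RingHom.ker (algebraMap R B)) • (RingHom.ker (algebraMap R B)) := by
      rw [smul_eq_mul, ← pow_two]
      exact hzero
    have : z = (∑ i, c i * x i) + (z - ∑ i, c i * x i) := by ring
    rw [this]
    exact Submodule.add_mem_sup hmem h2
  refine Submodule.le_of_le_smul_of_le_jacobson_bot (IsNoetherian.noetherian _) ?_ hle
  refine le_trans (IsLocalRing.le_maximalIdeal ?_) (IsLocalRing.maximalIdeal_le_jacobson _)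
  exact RingHom.ker_ne_top _

/-- Elements of the kernel whose Jacobian matrix is the identity modulo the kernel. -/
theorem exists_jacobian_one {A R B : Type u} [CommRing A] [CommRing R] [CommRing B] [Algebra A R]
    [Algebra A B] [Algebra R B] [IsScalarTower A R B]
    [Algebra.FormallyUnramified A B] {n : ℕ}
    (b : Module.Basis (Fin n) R (Ω[R⁄A])) (hsurj : Function.Surjective (algebraMap R B)) :
    ∃ x : Fin n → R, (∀ i, algebraMap R B (x i) = 0) ∧
      ∀ i j, algebraMap R B (b.repr (D A R (x i)) j) = if i = j then 1 else 0 := by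
  classical
  have hex : ∀ i, ∃ z : R, algebraMap R B z = 0 ∧ (1 : B) ⊗ₜ[R] D A R z = (1 : B) ⊗ₜ[R] b i := by
    intro i
    have h0 : mapBaseChange A R B ((1 : B) ⊗ₜ[R] b i) = 0 := Subsingleton.elim _ _
    obtain ⟨w, hw⟩ := (exact_kerCotangentToTensor_mapBaseChange A R B hsurj _).mp h0
    obtain ⟨z, rfl⟩ := Ideal.toCotangent_surjective _ w
    exact ⟨z.1, z.2, hw⟩
  choose z hz hz' using hex
  refine ⟨z, hz, fun i j => ?_⟩
  have h := congrArg (fun t => (b.baseChange B).repr t j) (hz' i)
  simp only [Module.Basis.baseChange_repr_tmul] at h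
  rw [Module.Basis.repr_self, Finsupp.single_apply, Algebra.smul_def, Algebra.smul_def, mul_one,
    mul_one] at h
  rw [h]
  split_ifs <;> simp


/-- **(S6)** generators of the kernel at a formally étale point. -/
theorem exists_etale_generators {A R B : Type u} [CommRing A] [CommRing R] [CommRing B]
    [Algebra A R] [Algebra A B] [Algebra R B] [IsScalarTower A R B] [IsNoetherianRing R]
    [Algebra.FormallySmooth A R] {n : ℕ} (b : Module.Basis (Fin n) R (Ω[R⁄A]))
    (hsurj : Function.Surjective (algebraMap R B)) (q : Ideal B) [q.IsPrime]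
    [Algebra.FormallyEtale A (Localization.AtPrime q)] :
    ∃ p : Fin n → R, (∀ i, algebraMap R B (p i) = 0) ∧
      algebraMap R B (Matrix.det
        (Matrix.of fun i j => b.repr (KaehlerDifferential.D A R (p i)) j)) ∉ q ∧
      ∀ z, algebraMap R B z = 0 → ∃ s, algebraMap R B s ∉ q ∧
        s * z ∈ Ideal.span (Set.range p) := by
  classical
  let P : Ideal R := q.under R
  haveI : P.IsPrime := inferInstance
  haveI : q.LiesOver P := ⟨rfl⟩
  letI := Localization.AtPrime.algebraOfLiesOver P q
  let Rp := Localization.AtPrime P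
  let Bq := Localization.AtPrime q
  haveI : IsScalarTower R Rp Bq := inferInstance
  haveI : IsScalarTower A Rp Bq := IsScalarTower.of_algebraMap_eq fun a => by
    rw [IsScalarTower.algebraMap_apply A R Rp, ← IsScalarTower.algebraMap_apply R Rp Bq,
      ← IsScalarTower.algebraMap_apply A R Bq]
  haveI : Algebra.FormallySmooth R Rp := Algebra.FormallySmooth.of_isLocalization P.primeCompl
  haveI : Algebra.FormallySmooth A Rp := Algebra.FormallySmooth.comp A R Rp
  haveI : IsNoetherianRing Rp := IsLocalization.isNoetherianRing P.primeCompl Rp inferInstance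
  have hsurj' : Function.Surjective (algebraMap Rp Bq) := by
    intro w
    obtain ⟨⟨f, s⟩, hf⟩ := IsLocalization.surj q.primeCompl w
    obtain ⟨f', rfl⟩ := hsurj f
    obtain ⟨s', hs'⟩ := hsurj s.1
    have hs'' : s' ∈ P.primeCompl := by
      intro h
      exact s.2 (hs' ▸ h)
    have hu : IsUnit (algebraMap B Bq s.1) := IsLocalization.map_units Bq s
    refine ⟨IsLocalization.mk' Rp f' (⟨s', hs''⟩ : P.primeCompl), ?_⟩
    apply hu.mul_left_injective
    simp only
    rw [hf, ← hs', ← IsScalarTower.algebraMap_apply R B Bq, ← IsScalarTower.algebraMap_apply R B Bq,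
      IsScalarTower.algebraMap_apply R Rp Bq, IsScalarTower.algebraMap_apply R Rp Bq f',
      ← map_mul]
    congr 1
    exact IsLocalization.mk'_spec Rp f' (⟨s', hs''⟩ : P.primeCompl)
  haveI : IsLocalizedModule P.primeCompl (KaehlerDifferential.map A A R Rp) := inferInstance
  let b' : Module.Basis (Fin n) Rp (Ω[Rp⁄A]) :=
    b.ofIsLocalizedModule Rp P.primeCompl (KaehlerDifferential.map A A R Rp)
  have hb' : ∀ (x : R) (j : Fin n), b'.repr (D A Rp (algebraMap R Rp x)) j
      = algebraMap R Rp (b.repr (D A R x) j) := by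
    intro x j
    rw [← KaehlerDifferential.map_D A A R Rp x]
    exact b.ofIsLocalizedModule_repr_apply Rp P.primeCompl (KaehlerDifferential.map A A R Rp) _ j
  obtain ⟨y, hy, hyj⟩ := exists_jacobian_one (B := Bq) b' hsurj'
  -- clear denominators
  have hex : ∀ i, ∃ (x u : R), algebraMap R B x = 0 ∧ u ∈ P.primeCompl ∧
      algebraMap R Rp x = y i * algebraMap R Rp u := by
    intro i
    obtain ⟨⟨f, s⟩, hf⟩ := IsLocalization.surj P.primeCompl (y i)
    have h0 : algebraMap B Bq (algebraMap R B f) = 0 := by
      rw [← IsScalarTower.algebraMap_apply R B Bq, IsScalarTower.algebraMap_apply R Rp Bq, ← hf,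
        map_mul, hy i, zero_mul]
    obtain ⟨t, ht⟩ := (IsLocalization.map_eq_zero_iff q.primeCompl Bq _).mp h0
    obtain ⟨t', ht'⟩ := hsurj t.1
    refine ⟨t' * f, t' * s.1, ?_, ?_, ?_⟩
    · rw [map_mul, ht', ht]
    · refine mul_mem ?_ s.2
      intro h
      exact t.2 (ht' ▸ h)
    · rw [map_mul, map_mul, ← hf]
      ring
  choose x u hx hu hxu using hex
  have hdetB : algebraMap Rp Bq (Matrix.det
      (Matrix.of fun i j => b'.repr (D A Rp (algebraMap R Rp (x i))) j)) =
      ∏ i, algebraMap Rp Bq (algebraMap R Rp (u i)) := by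
    rw [RingHom.map_det, ← Matrix.det_diagonal]
    congr 1
    ext i j
    rw [RingHom.mapMatrix_apply, Matrix.map_apply, Matrix.of_apply, hxu i, Derivation.leibniz,
      map_add, map_smul, map_smul, Finsupp.add_apply, Finsupp.smul_apply, Finsupp.smul_apply,
      smul_eq_mul, smul_eq_mul, map_add, map_mul, map_mul, hy i, zero_mul, zero_add, hyj i j,
      Matrix.diagonal_apply]
    split_ifs <;> simp
  have hunitB : IsUnit (algebraMap Rp Bq (Matrix.det
      (Matrix.of fun i j => b'.repr (D A Rp (algebraMap R Rp (x i))) j))) := by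
    rw [hdetB]
    refine (Finset.univ.prod_induction _ IsUnit (fun a b ha hb => ha.mul hb) isUnit_one ?_)
    intro i _
    exact (IsLocalization.map_units Rp (⟨u i, hu i⟩ : P.primeCompl)).map (algebraMap Rp Bq)
  haveI : IsLocalHom (algebraMap Rp Bq) :=
    Localization.isLocalHom_localRingHom P q (algebraMap R B) Ideal.LiesOver.over
  have hunit : IsUnit (Matrix.det
      (Matrix.of fun i j => b'.repr (D A Rp (algebraMap R Rp (x i))) j)) :=
    isUnit_of_map_unit (algebraMap Rp Bq) _ hunitB
  have hle := ker_le_span (B := Bq) b' hsurj' (fun i => algebraMap R Rp (x i))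
    (fun i => by rw [hxu i, map_mul, hy i, zero_mul]) hunit
  refine ⟨x, hx, ?_, ?_⟩
  · intro hmem
    have h1 : Matrix.det (Matrix.of fun i j => b'.repr (D A Rp (algebraMap R Rp (x i))) j)
        = algebraMap R Rp (Matrix.det (Matrix.of fun i j => b.repr (D A R (x i)) j)) := by
      rw [RingHom.map_det]
      congr 1
      ext i j
      rw [RingHom.mapMatrix_apply, Matrix.map_apply, Matrix.of_apply, Matrix.of_apply, hb']
    rw [h1, IsLocalization.AtPrime.isUnit_to_map_iff Rp P] at hunit
    exact hunit hmem
  · intro z hz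
    have hzk : algebraMap R Rp z ∈ RingHom.ker (algebraMap Rp Bq) := by
      rw [RingHom.mem_ker, ← IsScalarTower.algebraMap_apply R Rp Bq,
        IsScalarTower.algebraMap_apply R B Bq, hz, map_zero]
    have h2 := hle hzk
    have h3 : Ideal.span (Set.range fun i => algebraMap R Rp (x i)) =
        (Ideal.span (Set.range x)).map (algebraMap R Rp) := by
      rw [Ideal.map_span, ← Set.range_comp]
      rfl
    rw [h3, IsLocalization.algebraMap_mem_map_algebraMap_iff P.primeCompl] at h2
    obtain ⟨s, hs, hsz⟩ := h2
    exact ⟨s, hs, hsz⟩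

end Groth.Agent.Pi1A.RamGen
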