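import Groth.Agent.Pi1A.RamIndAux
import Groth.Agent.Pi1A.RamEt

/-!
# Purity of the ramification locus: the induction on the dimension
-/

set_option autoImplicit false
universe u
open IsLocalRing

namespace Groth.Agent.Pi1A.RamInd

/-- A normal local domain `B`, essentially of finite type over a regular local ring `A`, which is formally étale over
`A` at all primes of height one, is formally étale over `A` (from the weak purity statement `Q`). -/
theorem formallyEtale_of_height_one (hQ : ∀ c, 2 ≤ c → RamQ.Q.{u} c)
    {A B : Type u} [CommRing A] [CommRing B] [Algebra A B] [IsRegularLocalRing A] [IsLocalRing B]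
    [IsLocalHom (algebraMap A B)] [Algebra.EssFiniteType A B] [IsDomain B] [IsIntegrallyClosed B]
    (h1 : 1 ≤ ringKrullDim B)
    (het : ∀ (q : Ideal B) [q.IsPrime], q.height = 1 → Algebra.FormallyEtale A (Localization.AtPrime q)) :
    Algebra.FormallyEtale A B :=
  formallyEtale_of_height_one_of hQ (fun _ _ _ _ _ _ _ _ _ _ _ h2 het hκ =>
    RamEt.formallyEtale_of_finite_residueField h2 het hκ) h1 het

end Groth.Agent.Pi1A.RamInd
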