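import Groth.Agent.Pi1A.RamQ
import Groth.Agent.CalgA.RegLoc

/-!
# Purity of the ramification locus: the induction on the dimension

`formallyEtale_of_height_one`: a normal local domain `B`, essentially of finite type over a regular local
ring `A`, which is formally étale over `A` at all primes of height one, is formally étale over `A`.
-/

set_option autoImplicit false
universe u
open IsLocalRing

namespace Groth.Agent.Pi1A.RamInd

/-- Formal étaleness passes to a smaller prime. -/
lemma formallyEtale_of_le {A B : Type*} [CommRing A] [CommRing B] [Algebra A B] {q q' : Ideal B} [q.IsPrime]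
    [q'.IsPrime] (h : q ≤ q') [Algebra.FormallyEtale A (Localization.AtPrime q')] :
    Algebra.FormallyEtale A (Localization.AtPrime q) := by
  have hle : q'.primeCompl ≤ q.primeCompl := fun x hx hx' => hx (h hx')
  let f : Localization.AtPrime q' →+* Localization.AtPrime q :=
    IsLocalization.lift (M := q'.primeCompl) (g := algebraMap B (Localization.AtPrime q))
      fun y => IsLocalization.map_units (M := q.primeCompl) (Localization.AtPrime q) ⟨y, hle y.2⟩
  let : Algebra (Localization.AtPrime q') (Localization.AtPrime q) := f.toAlgebra
  have hst : IsScalarTower B (Localization.AtPrime q') (Localization.AtPrime q) := by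
    apply IsScalarTower.of_algebraMap_eq
    intro x
    exact (IsLocalization.lift_eq _ x).symm
  have hst' : IsScalarTower A (Localization.AtPrime q') (Localization.AtPrime q) := by
    apply IsScalarTower.of_algebraMap_eq
    intro x
    rw [IsScalarTower.algebraMap_apply A B (Localization.AtPrime q), IsScalarTower.algebraMap_apply A B (Localization.AtPrime q'),
      ← IsScalarTower.algebraMap_apply B]
  have := IsLocalization.isLocalization_of_submonoid_le (Localization.AtPrime q') (Localization.AtPrime q)
    q'.primeCompl q.primeCompl hle
  have h1 : Algebra.FormallyEtale (Localization.AtPrime q') (Localization.AtPrime q) :=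
    Algebra.FormallyEtale.of_isLocalization (q.primeCompl.map (algebraMap B (Localization.AtPrime q')))
  exact Algebra.FormallyEtale.comp A (Localization.AtPrime q') (Localization.AtPrime q)

/-- In a Noetherian local domain which is not a field there is a prime of height one. -/
lemma exists_height_one {B : Type*} [CommRing B] [IsDomain B] [IsNoetherianRing B] [IsLocalRing B]
    (h : maximalIdeal B ≠ ⊥) : ∃ (q : Ideal B) (_ : q.IsPrime), q.height = 1 := by
  obtain ⟨b, hb, hb0⟩ := Submodule.exists_mem_ne_zero_of_ne_bot h
  have hne : Ideal.span {b} ≠ ⊤ := fun htop =>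
    (Ideal.eq_top_iff_one _).1 htop |> fun h1 => by
      have := (Ideal.span_singleton_le_iff_mem _).2 hb h1
      exact (Ideal.ne_top_iff_one _).1 (Ideal.IsPrime.ne_top (maximalIdeal.isMaximal B).isPrime) this
  obtain ⟨q, hq⟩ := Ideal.nonempty_minimalPrimes hne
  have hqp : q.IsPrime := hq.1.1
  refine ⟨q, hqp, le_antisymm ?_ ?_⟩
  · exact Ideal.height_le_one_of_isPrincipal_of_mem_minimalPrimes _ q hq
  · rw [Order.one_le_iff_ne_zero, Ne, Ideal.height_eq_zero_iff_eq_bot]
    rintro rfl
    exact hb0 (by simpa using hq.1.2 (Ideal.mem_span_singleton_self b))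

theorem aux (hQ : ∀ c, 2 ≤ c → RamQ.Q.{u} c)
    (hE : ∀ (A B : Type u) [CommRing A] [CommRing B] [Algebra A B] [IsRegularLocalRing A] [IsLocalRing B]
      [IsLocalHom (algebraMap A B)] [Algebra.EssFiniteType A B] [IsDomain B] [IsIntegrallyClosed B]
      (_ : 2 ≤ ringKrullDim B) (_ : ∀ (q : Ideal B) [q.IsPrime], q ≠ maximalIdeal B →
      Algebra.FormallyEtale A (Localization.AtPrime q)) (_ : Module.Finite (ResidueField A) (ResidueField B)),
      Algebra.FormallyEtale A B) :
    ∀ (n : ℕ) (A B : Type u) [CommRing A] [CommRing B] [Algebra A B] [IsRegularLocalRing A] [IsLocalRing B]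
      [IsLocalHom (algebraMap A B)] [Algebra.EssFiniteType A B] [IsDomain B] [IsIntegrallyClosed B],
      ringKrullDim B = n → 1 ≤ n → (∀ (q : Ideal B) [q.IsPrime], q.height = 1 →
        Algebra.FormallyEtale A (Localization.AtPrime q)) → Algebra.FormallyEtale A B := by
  intro n
  induction n using Nat.strong_induction_on with
  | _ n ih =>
  intro A B _ _ _ _ _ _ _ _ _ hdim hn het
  have hNB : IsNoetherianRing B := Algebra.EssFiniteType.isNoetherianRing A B
  have hmax : (maximalIdeal B).height = n := by
    have := IsLocalRing.maximalIdeal_height_eq_ringKrullDim (R := B)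
    rw [hdim] at this
    exact_mod_cast this
  have hbot : maximalIdeal B ≠ ⊥ := by
    intro h0
    rw [h0, Ideal.height_bot] at hmax
    have : n = 0 := by exact_mod_cast hmax.symm
    omega
  -- the case of dimension one
  rcases Nat.eq_or_lt_of_le hn with h1 | h2
  · have h3 : Algebra.FormallyEtale A (Localization.AtPrime (maximalIdeal B)) := het _ (by rw [hmax, ← h1]; rfl)
    let e : B ≃ₐ[B] Localization.AtPrime (maximalIdeal B) :=
      IsLocalization.atUnits B (maximalIdeal B).primeCompl (fun x ↦ by simpa using! fun a ↦ a)
    exact Algebra.FormallyEtale.of_equiv (e.restrictScalars A).symm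
  -- the other primes
  have key : ∀ (q : Ideal B) [q.IsPrime], q ≠ maximalIdeal B → Algebra.FormallyEtale A (Localization.AtPrime q) := by
    intro q hq hqm
    by_cases hq0 : q = ⊥
    · obtain ⟨q', hq', hh⟩ := exists_height_one hbot
      have := het q' hh
      exact formallyEtale_of_le (q' := q') (by rw [hq0]; exact bot_le)
    have hlt : q < maximalIdeal B := lt_of_le_of_ne (le_maximalIdeal hq.ne_top) hqm
    have hfin : q.height < n := by
      rw [← hmax]
      exact Ideal.height_strict_mono_of_isPrime_of_isPrime hlt
    obtain ⟨h, hh⟩ : ∃ h : ℕ, q.height = h := ENat.ne_top_iff_exists.1 hfin.ne_top |>.imp fun _ h => h.symm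
    have hhn : h < n := by rw [hh] at hfin; exact_mod_cast hfin
    have hh1 : 1 ≤ h := by
      rw [Nat.one_le_iff_ne_zero]
      rintro rfl
      exact hq0 (Ideal.height_eq_zero_iff_eq_bot.1 (by rw [hh]; rfl))
    let p : Ideal A := q.under A
    have hp : p.IsPrime := inferInstance
    have hlies : q.LiesOver p := ⟨rfl⟩
    let := Localization.AtPrime.algebraOfLiesOver p q
    have hst : IsScalarTower A (Localization.AtPrime p) (Localization.AtPrime q) := inferInstance
    have hreg : IsRegularLocalRing (Localization.AtPrime p) := CalgA.RegLoc.isRegularLocalRing_localization A p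
    have hlh : IsLocalHom (algebraMap (Localization.AtPrime p) (Localization.AtPrime q)) :=
      Localization.isLocalHom_localRingHom p q (algebraMap A B) rfl
    have heft : Algebra.EssFiniteType A (Localization.AtPrime q) := inferInstance
    have heft' : Algebra.EssFiniteType (Localization.AtPrime p) (Localization.AtPrime q) :=
      Algebra.EssFiniteType.of_comp A _ _
    have hdom : IsDomain (Localization.AtPrime q) := inferInstance
    have hnorm : IsIntegrallyClosed (Localization.AtPrime q) :=
      isIntegrallyClosed_of_isLocalization _ q.primeCompl q.primeCompl_le_nonZeroDivisors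
    have hdimq : ringKrullDim (Localization.AtPrime q) = h := by
      rw [IsLocalization.AtPrime.ringKrullDim_eq_height q, hh]
      rfl
    have h5 : Algebra.FormallyEtale (Localization.AtPrime p) (Localization.AtPrime q) := by
      refine ih h hhn (Localization.AtPrime p) (Localization.AtPrime q) hdimq hh1 ?_
      intro Q hQ hQ1
      have hQ' : (Q.under B).height = 1 := by
        rw [IsLocalization.height_under q.primeCompl, hQ1]
      have h6 := het (Q.under B) hQ'
      have h7 : IsLocalization.AtPrime (Localization.AtPrime Q) (Q.under B) :=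
        IsLocalization.isLocalization_isLocalization_atPrime_isLocalization q.primeCompl (Localization.AtPrime Q) Q
      let e : Localization.AtPrime (Q.under B) ≃ₐ[B] Localization.AtPrime Q :=
        IsLocalization.algEquiv (Q.under B).primeCompl _ _
      have h8 : Algebra.FormallyEtale A (Localization.AtPrime Q) :=
        Algebra.FormallyEtale.of_equiv (e.restrictScalars A)
      exact Algebra.FormallyEtale.localization_base p.primeCompl
    have h9 : Algebra.FormallyEtale A (Localization.AtPrime p) := Algebra.FormallyEtale.of_isLocalization p.primeCompl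
    exact Algebra.FormallyEtale.comp A (Localization.AtPrime p) (Localization.AtPrime q)
  exact hE A B (by rw [hdim]; exact_mod_cast h2) key (hQ n h2 A B hdim key)

/-- The induction, from the weak purity statement `Q` and the criterion with finite residue field extension. -/
theorem formallyEtale_of_height_one_of (hQ : ∀ c, 2 ≤ c → RamQ.Q.{u} c)
    (hE : ∀ (A B : Type u) [CommRing A] [CommRing B] [Algebra A B] [IsRegularLocalRing A] [IsLocalRing B]
      [IsLocalHom (algebraMap A B)] [Algebra.EssFiniteType A B] [IsDomain B] [IsIntegrallyClosed B]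
      (_ : 2 ≤ ringKrullDim B) (_ : ∀ (q : Ideal B) [q.IsPrime], q ≠ maximalIdeal B →
      Algebra.FormallyEtale A (Localization.AtPrime q)) (_ : Module.Finite (ResidueField A) (ResidueField B)),
      Algebra.FormallyEtale A B)
    {A B : Type u} [CommRing A] [CommRing B] [Algebra A B] [IsRegularLocalRing A] [IsLocalRing B]
    [IsLocalHom (algebraMap A B)] [Algebra.EssFiniteType A B] [IsDomain B] [IsIntegrallyClosed B]
    (h1 : 1 ≤ ringKrullDim B)
    (het : ∀ (q : Ideal B) [q.IsPrime], q.height = 1 → Algebra.FormallyEtale A (Localization.AtPrime q)) :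
    Algebra.FormallyEtale A B := by
  have hNB : IsNoetherianRing B := Algebra.EssFiniteType.isNoetherianRing A B
  obtain ⟨n, hn⟩ : ∃ n : ℕ, (maximalIdeal B).height = n :=
    ENat.ne_top_iff_exists.1 ((maximalIdeal B).height_ne_top (Ideal.IsPrime.ne_top inferInstance)) |>.imp fun _ h => h.symm
  have hdim : ringKrullDim B = n := by
    rw [← IsLocalRing.maximalIdeal_height_eq_ringKrullDim, hn]
    rfl
  exact aux hQ hE n A B hdim (by rw [hdim] at h1; exact_mod_cast h1) het

end Groth.Agent.Pi1A.RamInd
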