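import Groth.Agent.CalgA.RegBasic
import Groth.Agent.CalgA.RegLoc
import Groth.Agent.CalgB.RegHom1
import Mathlib.RingTheory.EssentialFiniteness
import Mathlib.RingTheory.Etale.Kaehler
import Mathlib.RingTheory.Kaehler.Polynomial
import Mathlib.RingTheory.Smooth.Basic
import Mathlib.RingTheory.Polynomial.Quotient
import Mathlib.RingTheory.KrullDimension.Polynomial

set_option autoImplicit false
universe u

open IsLocalRing MvPolynomial

namespace Groth.Agent.Pi1A.RamPres

/-- the localization of `A[x₁,…,xₙ]` at a prime. -/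
theorem exists_presentation_map {A B : Type u} [CommRing A] [CommRing B] [Algebra A B]
    [IsLocalRing B] [Algebra.EssFiniteType A B] :
    ∃ (n : ℕ) (ψ : MvPolynomial (Fin n) A →ₐ[A] B),
      ∀ b : B, ∃ p q : MvPolynomial (Fin n) A, IsUnit (ψ q) ∧ b * ψ q = ψ p := by
  obtain ⟨s, hs⟩ : ∃ s : Finset B, ∀ b : B, ∃ t ∈ Algebra.adjoin A (s : Set B),
      IsUnit t ∧ b * t ∈ Algebra.adjoin A (s : Set B) := by
    obtain ⟨s, hs⟩ := ‹Algebra.EssFiniteType A B›.cond
    exact ⟨s, (Algebra.essFiniteType_cond_iff A B s).mp hs⟩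
  obtain ⟨n, ⟨e⟩⟩ : ∃ n, Nonempty (Fin n ≃ s) := ⟨s.card, ⟨s.equivFin.symm⟩⟩
  let ψ : MvPolynomial (Fin n) A →ₐ[A] B := MvPolynomial.aeval fun i => (e i : B)
  have hψ : ψ.range = Algebra.adjoin A (s : Set B) := by
    rw [← Algebra.adjoin_range_eq_range_aeval]
    congr 1
    ext x
    constructor
    · rintro ⟨i, rfl⟩
      exact (e i).2
    · intro hx
      exact ⟨e.symm ⟨x, hx⟩, by simp⟩
  refine ⟨n, ψ, fun b => ?_⟩
  obtain ⟨t, ht, htu, hbt⟩ := hs b
  rw [← hψ] at ht hbt
  obtain ⟨q, rfl⟩ := ht
  obtain ⟨p, hp⟩ := hbt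
  exact ⟨p, q, htu, hp.symm⟩

/-- quotient of a localization of a ring with regular quotient. -/
theorem isRegularLocalRing_quotient {P : Type u} [CommRing P] (J : Ideal P) [IsRegularRing (P ⧸ J)]
    (M : Submonoid P) (R : Type u) [CommRing R] [Algebra P R] [IsLocalization M R]
    [IsLocalRing (R ⧸ J.map (algebraMap P R))] :
    IsRegularLocalRing (R ⧸ J.map (algebraMap P R)) := by
  let : Algebra (P ⧸ J) (R ⧸ J.map (algebraMap P R)) :=
    (Ideal.quotientMap (J.map (algebraMap P R)) (algebraMap P R) Ideal.le_comap_map).toAlgebra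
  have halg : ∀ x : P, algebraMap (P ⧸ J) (R ⧸ J.map (algebraMap P R)) (Ideal.Quotient.mk J x) =
      Ideal.Quotient.mk _ (algebraMap P R x) := fun x => rfl
  have : IsLocalization (M.map (Ideal.Quotient.mk J)) (R ⧸ J.map (algebraMap P R)) := by
    constructor
    constructor
    · rintro ⟨_, m, hm, rfl⟩
      rw [halg]
      exact (IsLocalization.map_units R (⟨m, hm⟩ : M)).map _
    · intro z
      obtain ⟨z, rfl⟩ := Ideal.Quotient.mk_surjective z
      obtain ⟨⟨x, s⟩, hx⟩ := IsLocalization.surj M z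
      refine ⟨⟨Ideal.Quotient.mk J x, ⟨_, s, s.2, rfl⟩⟩, ?_⟩
      simp only [halg]
      rw [← map_mul, hx]
    · intro x y hxy
      obtain ⟨x, rfl⟩ := Ideal.Quotient.mk_surjective x
      obtain ⟨y, rfl⟩ := Ideal.Quotient.mk_surjective y
      rw [halg, halg, Ideal.Quotient.eq, ← map_sub,
        IsLocalization.algebraMap_mem_map_algebraMap_iff M] at hxy
      obtain ⟨m, hm, hm'⟩ := hxy
      refine ⟨⟨_, m, hm, rfl⟩, ?_⟩
      simp only
      rw [← map_mul, ← map_mul, Ideal.Quotient.eq, ← mul_sub]
      exact hm'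
  exact Groth.Agent.CalgB.RegHom1.isRegularLocalRing_of_isLocalization
    (M.map (Ideal.Quotient.mk J)) _

theorem exists_presentation {A B : Type u} [CommRing A] [CommRing B] [Algebra A B]
    [IsRegularLocalRing A] [IsLocalRing B] [IsLocalHom (algebraMap A B)]
    [Algebra.EssFiniteType A B] :
    ∃ (n : ℕ) (R : Type u) (_ : CommRing R) (_ : Algebra A R) (_ : Algebra R B)
      (_ : IsScalarTower A R B) (_ : IsRegularLocalRing R) (_ : Algebra.FormallySmooth A R)
      (_ : Module.Basis (Fin n) R (Ω[R⁄A])), Function.Surjective (algebraMap R B) ∧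
      ringKrullDim R ≤ ringKrullDim A + n ∧
      ∀ t ∈ maximalIdeal A, t ∉ (maximalIdeal A)^2 →
        IsRegularLocalRing (R ⧸ Ideal.span {algebraMap A R t}) := by
  obtain ⟨n, ψ, hψ⟩ := exists_presentation_map (A := A) (B := B)
  have hA : IsRegularRing A := Groth.Agent.CalgA.RegLoc.isRegularRing_of_isRegularLocalRing A
  let P := MvPolynomial (Fin n) A
  let Q : Ideal P := (maximalIdeal B).comap ψ
  have hQ : Q.IsPrime := inferInstance
  let R := Localization.AtPrime Q
  let φ : R →+* B := IsLocalization.lift (M := Q.primeCompl) (g := (ψ : P →+* B)) (fun x => by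
    have h : (x : P) ∉ Q := x.2
    by_contra hx
    exact h ((mem_maximalIdeal _).mpr hx))
  have hφ : ∀ p : P, φ (algebraMap P R p) = ψ p := fun p => IsLocalization.lift_eq _ _
  let : Algebra R B := φ.toAlgebra
  have : IsScalarTower A R B := IsScalarTower.of_algebraMap_eq fun a => by
    show algebraMap A B a = φ (algebraMap A R a)
    rw [IsScalarTower.algebraMap_apply A P R, hφ]
    exact (ψ.commutes a).symm
  have hsm : Algebra.FormallySmooth A R := by
    have : Algebra.FormallyEtale P R := Algebra.FormallyEtale.of_isLocalization Q.primeCompl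
    exact Algebra.FormallySmooth.comp A P R
  have hfe : Algebra.FormallyEtale P R := Algebra.FormallyEtale.of_isLocalization Q.primeCompl
  let b : Module.Basis (Fin n) R (Ω[R⁄A]) :=
    ((KaehlerDifferential.mvPolynomialBasis A (Fin n)).baseChange R).map
      (KaehlerDifferential.tensorKaehlerEquivOfFormallyEtale A P R)
  refine ⟨n, R, inferInstance, inferInstance, inferInstance, this, inferInstance, hsm, b, ?_, ?_, ?_⟩
  · intro y
    obtain ⟨p, q, hq, hpq⟩ := hψ y
    have hqQ : q ∈ Q.primeCompl := fun h => (mem_maximalIdeal _).mp h hq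
    refine ⟨IsLocalization.mk' R p ⟨q, hqQ⟩, ?_⟩
    show φ _ = y
    rw [IsLocalization.lift_mk'_spec]
    show ψ p = ψ q * y
    rw [← hpq, mul_comm]
  · rw [IsLocalization.AtPrime.ringKrullDim_eq_height Q]
    refine (Ideal.height_le_ringKrullDim_of_ne_top Ideal.IsPrime.ne_top').trans ?_
    rw [MvPolynomial.ringKrullDim_of_isNoetherianRing]
    simp
  · intro t ht ht2
    have h1 : IsRegularLocalRing (A ⧸ Ideal.span {t}) :=
      (Groth.Agent.CalgA.RegBasic.quotient_of_notMem_sq t ht ht2).1
    have h2 : IsRegularRing (A ⧸ Ideal.span {t}) :=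
      Groth.Agent.CalgA.RegLoc.isRegularRing_of_isRegularLocalRing _
    have h3 : IsRegularRing (P ⧸ (Ideal.span {t}).map (C : A →+* P)) :=
      IsRegularRing.of_ringEquiv
        (MvPolynomial.quotientEquivQuotientMvPolynomial (Ideal.span {t})).toRingEquiv
    have h4 : ((Ideal.span {t}).map (C : A →+* P)).map (algebraMap P R) =
        Ideal.span {algebraMap A R t} := by
      rw [Ideal.map_map, Ideal.map_span, Set.image_singleton]
      rfl
    have htR : algebraMap A R t ∈ maximalIdeal R := by
      rw [mem_maximalIdeal, mem_nonunits_iff]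
      intro hu
      have h5 := hu.map (algebraMap R B)
      rw [← IsScalarTower.algebraMap_apply A R B] at h5
      exact ht (isUnit_of_map_unit (algebraMap A B) t h5)
    have hne : Ideal.span {algebraMap A R t} ≠ ⊤ := by
      intro h
      have h6 : Ideal.span {algebraMap A R t} ≤ maximalIdeal R := by
        rw [Ideal.span_singleton_le_iff_mem]; exact htR
      rw [h] at h6
      exact (maximalIdeal.isMaximal R).ne_top (top_le_iff.mp h6)
    rw [← h4] at hne ⊢
    have := Groth.Agent.CalgA.RegBasic.isLocalRing_quotient _ hne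
    exact isRegularLocalRing_quotient _ Q.primeCompl R

end Groth.Agent.Pi1A.RamPres
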