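import Mathlib

/-!
# Purity of the ramification locus: the local statement by dimension

`RamQ.Q c`: if `B` is a normal Noetherian local domain of dimension `c`, essentially of finite type
over a regular local ring `A` (with `A → B` local), and `B` is formally étale over `A` at all primes
except possibly the maximal ideal, then the residue field extension is finite.
-/

set_option autoImplicit false
universe u
open IsLocalRing

namespace Groth.Agent.Pi1A.RamQ

/-- Purity of the ramification locus, weak form in dimension `c`. -/
def Q (c : ℕ) : Prop := ∀ (A B : Type u) [CommRing A] [CommRing B] [Algebra A B]
    [IsRegularLocalRing A] [IsLocalRing B] [IsLocalHom (algebraMap A B)]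
    [Algebra.EssFiniteType A B] [IsDomain B] [IsIntegrallyClosed B] (_ : ringKrullDim B = c)
    (_ : ∀ (q : Ideal B) [q.IsPrime], q ≠ maximalIdeal B →
      Algebra.FormallyEtale A (Localization.AtPrime q)),
    Module.Finite (ResidueField A) (ResidueField B)

end Groth.Agent.Pi1A.RamQ
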