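import Mathlib.AlgebraicGeometry.Noetherian
import Groth.Agent.UnramA.Locus
import Groth.Agent.Divis.StalkPrime

/-!
# Purity of the ramification locus: from local rings to schemes
-/

set_option autoImplicit false

universe u

open CategoryTheory CategoryTheory.Limits AlgebraicGeometry

namespace Groth.Agent.Pi1A.RamSch

open Groth.Agent.CycB.LocQuot

/-- If the localization of `B` at `q` is the local ring at the point `ptOf q`, étaleness of the
stalk map there is étaleness of `A → B_q`. -/
theorem formallyEtale_localization {X Y : Scheme.{u}} (f : X ⟶ Y) (x : X)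
    (q : Ideal (X.presheaf.stalk x)) [hq : q.IsPrime]
    (h : (f.stalkMap (ptOf (⟨q, hq⟩ : PrimeSpectrum (X.presheaf.stalk x)))).hom.FormallyEtale) :
    letI := (f.stalkMap x).hom.toAlgebra
    Algebra.FormallyEtale (Y.presheaf.stalk (f x)) (Localization.AtPrime q) := by
  let q' : PrimeSpectrum (X.presheaf.stalk x) := ⟨q, hq⟩
  let x' : X := ptOf q'
  have hsp : x' ⤳ x := ptOf_specializes q'
  have hsp' : f x' ⤳ f x := hsp.map f.continuous
  let a1 : Algebra (Y.presheaf.stalk (f x)) (X.presheaf.stalk x) := (f.stalkMap x).hom.toAlgebra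
  let a2 : Algebra (Y.presheaf.stalk (f x')) (X.presheaf.stalk x') := (f.stalkMap x').hom.toAlgebra
  let a3 : Algebra (Y.presheaf.stalk (f x)) (Y.presheaf.stalk (f x')) :=
    (Y.presheaf.stalkSpecializes hsp').hom.toAlgebra
  let a4 : Algebra (X.presheaf.stalk x) (X.presheaf.stalk x') :=
    (X.presheaf.stalkSpecializes hsp).hom.toAlgebra
  let a5 : Algebra (Y.presheaf.stalk (f x)) (X.presheaf.stalk x') :=
    ((X.presheaf.stalkSpecializes hsp).hom.comp (f.stalkMap x).hom).toAlgebra
  have t1 : IsScalarTower (Y.presheaf.stalk (f x)) (X.presheaf.stalk x) (X.presheaf.stalk x') :=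
    IsScalarTower.of_algebraMap_eq' rfl
  have t2 : IsScalarTower (Y.presheaf.stalk (f x)) (Y.presheaf.stalk (f x'))
      (X.presheaf.stalk x') := by
    refine IsScalarTower.of_algebraMap_eq' ?_
    change ((X.presheaf.stalkSpecializes hsp).hom.comp (f.stalkMap x).hom) =
      (f.stalkMap x').hom.comp (Y.presheaf.stalkSpecializes hsp').hom
    rw [← CommRingCat.hom_comp, ← CommRingCat.hom_comp]
    congr 1
    exact (Scheme.Hom.stalkSpecializes_stalkMap f x' x hsp).symm
  have l1 : IsLocalization.AtPrime (Y.presheaf.stalk (f x'))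
      (RingHom.ker (Cyc.specMap (f x) (f x') hsp')) := isLocalization_stalkSpecializes hsp'
  have l2 : IsLocalization.AtPrime (X.presheaf.stalk x')
      (RingHom.ker (Cyc.specMap x x' hsp)) := isLocalization_stalkSpecializes hsp
  have e1 : Algebra.FormallyEtale (Y.presheaf.stalk (f x)) (Y.presheaf.stalk (f x')) :=
    Algebra.FormallyEtale.of_isLocalization
      (RingHom.ker (Cyc.specMap (f x) (f x') hsp')).primeCompl
  have e2 : Algebra.FormallyEtale (Y.presheaf.stalk (f x')) (X.presheaf.stalk x') := h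
  have e3 : Algebra.FormallyEtale (Y.presheaf.stalk (f x)) (X.presheaf.stalk x') :=
    Algebra.FormallyEtale.comp _ (Y.presheaf.stalk (f x')) _
  have hker : RingHom.ker (Cyc.specMap x x' hsp) = q := by
    rw [← primeOf_asIdeal]
    exact congrArg PrimeSpectrum.asIdeal (primeOf_ptOf q')
  have l3 : IsLocalization.AtPrime (X.presheaf.stalk x') q := by
    have := l2
    simp only [hker] at this
    exact this
  let e : X.presheaf.stalk x' ≃ₐ[X.presheaf.stalk x] Localization.AtPrime q :=
    IsLocalization.algEquiv q.primeCompl _ _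
  exact Algebra.FormallyEtale.of_equiv (e.restrictScalars (Y.presheaf.stalk (f x)))

/-- Purity of the ramification locus (scheme form) from the local statement. -/
theorem exists_etale
    (H : ∀ {A B : Type u} [CommRing A] [CommRing B] [Algebra A B] [IsRegularLocalRing A]
      [IsLocalRing B] [IsLocalHom (algebraMap A B)] [Algebra.EssFiniteType A B] [IsDomain B]
      [IsIntegrallyClosed B] (_ : 1 ≤ ringKrullDim B)
      (_ : ∀ (q : Ideal B) [q.IsPrime], q.height = 1 →
        Algebra.FormallyEtale A (Localization.AtPrime q)), Algebra.FormallyEtale A B)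
    {X Y : Scheme.{u}} (f : X ⟶ Y) [LocallyOfFiniteType f] [IsLocallyNoetherian X]
    [IsLocallyNoetherian Y] (x : X)
    (hx : IsDomain (X.presheaf.stalk x) ∧ IsIntegrallyClosed (X.presheaf.stalk x))
    (hdim1 : (1 : WithBot ℕ∞) ≤ ringKrullDim (X.presheaf.stalk x))
    (hy : IsRegularLocalRing (Y.presheaf.stalk (f.base x)))
    (het : ∀ x' : X, x' ⤳ x → ringKrullDim (X.presheaf.stalk x') = 1 →
      ∃ U : X.Opens, x' ∈ U ∧ Etale (U.ι ≫ f)) :
    ∃ U : X.Opens, x ∈ U ∧ Etale (U.ι ≫ f) := by
  have hfp : LocallyOfFinitePresentation f := by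
    refine ⟨fun {U} hU {V} hV e => ?_⟩
    have : IsNoetherianRing Γ(Y, U) := IsLocallyNoetherian.component_noetherian ⟨U, hU⟩
    exact RingHom.FinitePresentation.of_finiteType.1 (f.finiteType_appLE hU hV e)
  rw [UnramA.Locus.etale_nhd_iff]
  obtain ⟨hd, hi⟩ := hx
  let a1 : Algebra (Y.presheaf.stalk (f x)) (X.presheaf.stalk x) := (f.stalkMap x).hom.toAlgebra
  have hloc : IsLocalHom (algebraMap (Y.presheaf.stalk (f x)) (X.presheaf.stalk x)) :=
    inferInstanceAs (IsLocalHom (f.stalkMap x).hom)
  have hess : Algebra.EssFiniteType (Y.presheaf.stalk (f x)) (X.presheaf.stalk x) :=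
    LocallyOfFiniteType.stalkMap f x
  have hreg : IsRegularLocalRing (Y.presheaf.stalk (f x)) := hy
  refine H hdim1 ?_
  intro q hq hht
  refine formallyEtale_localization f x q ?_
  rw [← UnramA.Locus.etale_nhd_iff]
  refine het _ (ptOf_specializes _) ?_
  rw [Divis.StalkPrime.height_eq]
  simp [hht]

end Groth.Agent.Pi1A.RamSch
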