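import Groth.Agent.Pi1A.LinkConn
import Groth.Agent.CalgB.CM3
import Groth.Agent.Ega4A.RegCM
import Mathlib.RingTheory.Derivation.Basic
import Mathlib.LinearAlgebra.Matrix.ToLinearEquiv
import Mathlib.LinearAlgebra.Matrix.Rank
import Mathlib.RingTheory.Localization.FractionRing

/-!
# Good regular sequences for the Lipman–Sathaye argument

`exists_good_sequence`: `R` regular local, `I ⊆ m` an ideal all of whose minimal primes `q` have height `≥ n`, `D₁, …, Dₙ`
derivations such that for every minimal prime `q` of `I` some `n × n` minor `det (D_j h_i)`, `h_i ∈ I`, is not in `q`.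
Then there is a regular sequence `f₁, …, fₙ ∈ I` with `det (D_j f_i)` outside all minimal primes of `I`.
-/

set_option autoImplicit false
universe u

open IsLocalRing RingTheory.Sequence

namespace Groth.Agent.Pi1A.RamSeq

/-- avoidance of finitely many "prime" submodules with distinct primes. -/
theorem avoid {R : Type u} [CommRing R] (I : Ideal R) (N : Ideal R → R → Prop) :
    ∀ (S : Finset (Ideal R)) (_ : ∀ p ∈ S, p.IsPrime) (_ : ∀ p ∈ S, ∀ r ∈ p, ∀ x ∈ I, N p (r * x))
      (_ : ∀ p ∈ S, ∀ r, r ∉ p → ∀ x ∈ I, N p (r * x) → N p x)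
      (_ : ∀ p ∈ S, ∀ x ∈ I, ∀ y ∈ I, N p x → N p y → N p (x - y))
      (_ : ∀ p ∈ S, ∃ x ∈ I, ¬ N p x), ∃ x ∈ I, ∀ p ∈ S, ¬ N p x := by
  intro S
  induction S using Finset.strongInduction with
  | H S ih =>
    intro h0 h1 h2 h3 h4
    rcases S.eq_empty_or_nonempty with rfl | hne
    · exact ⟨0, I.zero_mem, fun p hp => absurd hp (Finset.notMem_empty p)⟩
    classical
    obtain ⟨p, hp, hmin⟩ := S.exists_minimal hne
    have hss : S.erase p ⊂ S := Finset.erase_ssubset hp
    have hsub : ∀ p' ∈ S.erase p, p' ∈ S := fun p' h => Finset.mem_of_mem_erase h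
    obtain ⟨x, hx, hxN⟩ := ih (S.erase p) hss (fun q hq => h0 q (hsub q hq)) (fun q hq => h1 q (hsub q hq))
      (fun q hq => h2 q (hsub q hq)) (fun q hq => h3 q (hsub q hq)) (fun q hq => h4 q (hsub q hq))
    by_cases hxp : N p x
    swap
    · refine ⟨x, hx, fun q hq => ?_⟩
      by_cases hqp : q = p
      · rw [hqp]; exact hxp
      · exact hxN q (Finset.mem_erase.2 ⟨hqp, hq⟩)
    obtain ⟨m, hm, hmN⟩ := h4 p hp
    have hpp := h0 p hp
    obtain ⟨r, hr, hrp⟩ : ∃ r, (∀ q ∈ S.erase p, r ∈ q) ∧ r ∉ p := by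
      by_contra hcon
      push Not at hcon
      have h5 : (S.erase p).inf id ≤ p := by
        intro r hr
        refine hcon r fun q hq => ?_
        exact (Finset.inf_le hq : (S.erase p).inf id ≤ id q) hr
      obtain ⟨q, hq, hqp⟩ := (hpp.inf_le').1 h5
      have h6 := hmin (hsub q hq) hqp
      exact (Finset.ne_of_mem_erase hq) (le_antisymm hqp h6)
    refine ⟨x + r * m, I.add_mem hx (I.mul_mem_left _ hm), fun q hq hN => ?_⟩
    by_cases hqp : q = p
    · subst hqp
      have h5 := h3 q hq _ (I.add_mem hx (I.mul_mem_left _ hm)) _ hx hN hxp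
      rw [add_sub_cancel_left] at h5
      exact hmN (h2 q hq r hrp m hm h5)
    · have hq' : q ∈ S.erase p := Finset.mem_erase.2 ⟨hqp, hq⟩
      have h5 := h3 q hq _ (I.add_mem hx (I.mul_mem_left _ hm)) _ (I.mul_mem_left r hm) hN (h1 q hq r (hr q hq') m hm)
      rw [add_sub_cancel_right] at h5
      exact hxN q hq' h5

section Der

variable {R : Type u} [CommRing R] {n : ℕ} (D : Fin n → Derivation ℤ R R)

/-- `D f_1, …, D f_k` are linearly independent modulo `q`. -/
def Indep (q : Ideal R) {k : ℕ} (f : Fin k → R) : Prop :=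
  ∀ c : Fin k → R, (∀ j, ∑ i, c i * D j (f i) ∈ q) → ∀ i, c i ∈ q

/-- `D x` is modulo `q` in the span of `D f_1, …, D f_k` (over the fraction field of `R/q`). -/
def Dep (q : Ideal R) {k : ℕ} (f : Fin k → R) (x : R) : Prop :=
  ∃ r, r ∉ q ∧ ∃ c : Fin k → R, ∀ j, r * D j x - ∑ i, c i * D j (f i) ∈ q

theorem Indep.snoc {q : Ideal R} {k : ℕ} {f : Fin k → R} (hf : Indep D q f) {x : R} (hx : ¬ Dep D q f x) :
    Indep D q (Fin.snoc f x : Fin (k + 1) → R) := by
  intro c hc
  have hc' : ∀ j, ∑ i : Fin k, c i.castSucc * D j (f i) + c (Fin.last k) * D j x ∈ q := by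
    intro j
    have := hc j
    rw [Fin.sum_univ_castSucc] at this
    simpa using this
  have hlast : c (Fin.last k) ∈ q := by
    by_contra hcon
    refine hx ⟨_, hcon, fun i => - c i.castSucc, fun j => ?_⟩
    have := hc' j
    have e : c (Fin.last k) * D j x - ∑ i : Fin k, -c i.castSucc * D j (f i) =
        ∑ i : Fin k, c i.castSucc * D j (f i) + c (Fin.last k) * D j x := by
      simp only [neg_mul, Finset.sum_neg_distrib, sub_neg_eq_add]
      ring
    rw [e]
    exact this
  have h1 := hf (fun i => c i.castSucc) (fun j => by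
    have := Ideal.sub_mem _ (hc' j) (Ideal.mul_mem_right (D j x) _ hlast)
    rwa [add_sub_cancel_right] at this)
  intro i
  induction i using Fin.lastCases with
  | last => exact hlast
  | cast i => exact h1 i

theorem Indep.det_notMem {q : Ideal R} [q.IsPrime] {f : Fin n → R} (hf : Indep D q f) :
    Matrix.det (Matrix.of fun i j => D j (f i)) ∉ q := by
  intro hdet
  let φ := Ideal.Quotient.mk q
  have h1 : Matrix.det ((Matrix.of fun i j => D j (f i)).map φ) = 0 := by
    have := RingHom.map_det φ (Matrix.of fun i j => D j (f i))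
    rw [← RingHom.mapMatrix_apply, ← this]
    exact Ideal.Quotient.eq_zero_iff_mem.2 hdet
  obtain ⟨v, hv0, hv⟩ := Matrix.exists_vecMul_eq_zero_iff.2 h1
  choose c hc using fun i => Ideal.Quotient.mk_surjective (v i)
  apply hv0
  funext i
  have h2 := hf c (fun j => by
    rw [← Ideal.Quotient.eq_zero_iff_mem, map_sum]
    have h3 := congrFun hv j
    simp only [Matrix.vecMul, dotProduct, Matrix.map_apply, Matrix.of_apply, Pi.zero_apply] at h3
    rw [← h3]
    refine Finset.sum_congr rfl fun i _ => ?_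
    rw [map_mul, hc]) i
  rw [← hc i]
  exact Ideal.Quotient.eq_zero_iff_mem.2 h2

theorem exists_not_dep {q : Ideal R} [q.IsPrime] {k : ℕ} (hk : k < n) (f : Fin k → R) (h : Fin n → R)
    (hdet : Matrix.det (Matrix.of fun i j => D j (h i)) ∉ q) : ∃ i, ¬ Dep D q f (h i) := by
  by_contra hcon
  push Not at hcon
  choose r hr c hc using hcon
  let K := FractionRing (R ⧸ q)
  let φ : R →+* K := (algebraMap (R ⧸ q) K).comp (Ideal.Quotient.mk q)
  have hφ : ∀ x, φ x = 0 ↔ x ∈ q := by
    intro x
    rw [← Ideal.Quotient.eq_zero_iff_mem]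
    exact map_eq_zero_iff _ (IsFractionRing.injective (R ⧸ q) K)
  let C : Matrix (Fin n) (Fin k) K := Matrix.of fun i l => φ (c i l)
  let F : Matrix (Fin k) (Fin n) K := Matrix.of fun l j => φ (D j (f l))
  let H : Matrix (Fin n) (Fin n) K := Matrix.of fun i j => φ (r i * D j (h i))
  have hH : H = C * F := by
    ext i j
    rw [Matrix.mul_apply]
    simp only [H, C, F, Matrix.of_apply]
    have h1 := (hφ _).2 (hc i j)
    rw [map_sub, sub_eq_zero] at h1
    rw [h1, map_sum]
    refine Finset.sum_congr rfl fun l _ => ?_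
    rw [map_mul]
  have hH2 : H = Matrix.diagonal (fun i => φ (r i)) * (Matrix.of fun i j => D j (h i)).map φ := by
    ext i j
    rw [Matrix.diagonal_mul]
    simp only [H, Matrix.of_apply, Matrix.map_apply, map_mul]
  have hdet2 : H.det ≠ 0 := by
    rw [hH2, Matrix.det_mul, Matrix.det_diagonal]
    refine mul_ne_zero (Finset.prod_ne_zero_iff.2 fun i _ => ?_) ?_
    · rw [Ne, hφ]; exact hr i
    · have := RingHom.map_det φ (Matrix.of fun i j => D j (h i))
      rw [← RingHom.mapMatrix_apply, ← this, Ne, hφ]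
      exact hdet
  have hu : IsUnit H := (Matrix.isUnit_iff_isUnit_det H).2 (isUnit_iff_ne_zero.2 hdet2)
  have h3 := Matrix.rank_of_isUnit H hu
  have h4 : H.rank ≤ k := by
    rw [hH]
    refine (Matrix.rank_mul_le_left _ _).trans ?_
    exact (Matrix.rank_le_card_width C).trans (by simp)
  rw [Fintype.card_fin] at h3
  omega

end Der

section CM

variable {S : Type u} [CommRing S] [IsLocalRing S] [IsNoetherianRing S]

theorem cm_quot_ofList {M : Type u} [AddCommGroup M] [Module S M] [Module.Finite S M]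
    (hM : LocCoh.IsCohenMacaulayModule S M) (rs : List S) (mem : ∀ r ∈ rs, r ∈ maximalIdeal S)
    (reg : IsWeaklyRegular M rs) :
    LocCoh.IsCohenMacaulayModule S (M ⧸ Ideal.ofList rs • (⊤ : Submodule S M)) := by
  induction rs generalizing M with
  | nil =>
    rw [CalgB.CM2.cm_congr (N := M)]
    · exact hM
    · refine Submodule.quotEquivOfEqBot _ ?_
      rw [Ideal.ofList_nil, Submodule.bot_smul]
  | cons x rs ih =>
    have hnt := CalgB.CM2.nontrivial_of_cm hM
    obtain ⟨hx, hreg⟩ := (isWeaklyRegular_cons_iff M x rs).mp reg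
    rw [CalgB.CM2.cm_congr (Submodule.quotOfListConsSMulTopEquivQuotSMulTopInner M x _)]
    exact ih ((CalgB.CM2.cm_quotSMulTop_iff (mem x (by simp)) hx).mpr hM)
      (fun r hr => mem r (by simp [hr])) hreg

omit [IsLocalRing S] [IsNoetherianRing S] in
/-- `ht p + dim R/p ≤ dim R`. -/
lemma height_add_ringKrullDim_quotient_le (p : Ideal S)
    [hp : p.IsPrime] : (p.height : WithBot ℕ∞) + ringKrullDim (S ⧸ p) ≤ ringKrullDim S := by
  let a : PrimeSpectrum S := ⟨p, hp⟩
  have h2 : ringKrullDim (S ⧸ p) ≤ ((Order.coheight a : ℕ∞) : WithBot ℕ∞) := by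
    rw [ringKrullDim_quotient]
    unfold Order.krullDim
    refine iSup_le fun s => ?_
    let f : PrimeSpectrum.zeroLocus (R := S) p → PrimeSpectrum S := fun q => q.1
    have hf : StrictMono f := fun q q' hqq' => hqq'
    have := Order.length_le_coheight (p := s.map f hf) (x := a) (by exact (s 0).2)
    exact_mod_cast this
  have h1 : p.height = Order.height a := PrimeSpectrum.height_eq_orderHeight a
  rw [h1]
  refine (add_le_add le_rfl h2).trans ?_
  have : Nonempty (PrimeSpectrum S) := ⟨a⟩
  unfold ringKrullDim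
  rw [Order.krullDim_eq_iSup_height_add_coheight_of_nonempty]
  have := le_iSup (fun b : PrimeSpectrum S => Order.height b + Order.coheight b) a
  exact_mod_cast this

/-- In a Cohen–Macaulay local ring, an ideal of height `> k` is not contained in an associated prime of `R/(f₁,…,f_k)`. -/
theorem not_le_of_mem_associatedPrimes (hS : LocCoh.IsCohenMacaulayLocalRing S) (rs : List S)
    (mem : ∀ r ∈ rs, r ∈ maximalIdeal S) (reg : IsWeaklyRegular S rs) (P : Ideal S)
    (hP : P ∈ associatedPrimes S (S ⧸ Ideal.ofList rs • (⊤ : Submodule S S))) (q : Ideal S) [q.IsPrime]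
    (hq : (rs.length : ℕ∞) < q.height) : ¬ q ≤ P := by
  intro hqP
  have hPp : P.IsPrime := hP.isPrime
  have hSM : LocCoh.IsCohenMacaulayModule S S := hS.supportDim_eq_depth
  have h1 := cm_quot_ofList hSM rs mem reg
  have h2 := CalgB.CM2.ringKrullDim_quotient_of_mem_associatedPrimes h1 hP
  have hreg' : IsRegular S rs := (IsLocalRing.isRegular_iff_isWeaklyRegular_of_subset_maximalIdeal mem).mpr reg
  have h3 := Module.supportDim_add_length_eq_supportDim_of_isRegular rs hreg'
  rw [← h2, Module.supportDim_self_eq_ringKrullDim] at h3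
  have h4 := height_add_ringKrullDim_quotient_le P
  have h5 : q.height ≤ P.height := Ideal.height_mono hqP
  obtain ⟨d, hd⟩ : ∃ d : ℕ, ringKrullDim S = d := by
    have h6 := ringKrullDim_lt_top (R := S)
    have h7 : 0 ≤ ringKrullDim S := ringKrullDim_nonneg_of_nontrivial
    obtain ⟨e, he⟩ := WithBot.ne_bot_iff_exists.mp (ne_of_gt (lt_of_lt_of_le (WithBot.bot_lt_coe 0) h7))
    rw [← he] at h6 ⊢
    have h8 : e ≠ ⊤ := by
      rintro rfl
      exact lt_irrefl _ h6
    obtain ⟨d, rfl⟩ := ENat.ne_top_iff_exists.mp h8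
    exact ⟨d, rfl⟩
  have h8 : 0 ≤ ringKrullDim (S ⧸ P) := by
    have : Nontrivial (S ⧸ P) := Ideal.Quotient.nontrivial_iff.mpr hPp.ne_top
    exact ringKrullDim_nonneg_of_nontrivial
  obtain ⟨e, he⟩ := WithBot.ne_bot_iff_exists.mp (ne_of_gt (lt_of_lt_of_le (WithBot.bot_lt_coe 0) h8))
  rw [← he, hd] at h3 h4
  have h9 : e + (rs.length : ℕ∞) = (d : ℕ∞) := by exact_mod_cast h3
  have h10 : P.height + e ≤ (d : ℕ∞) := by exact_mod_cast h4
  have h11 : e ≠ ⊤ := by
    rintro rfl
    rw [top_add] at h9
    exact (ENat.natCast_ne_top d) h9.symm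
  obtain ⟨e', rfl⟩ := ENat.ne_top_iff_exists.mp h11
  have h12 : P.height ≠ ⊤ := by
    intro h
    rw [h, top_add, top_le_iff] at h10
    exact (ENat.natCast_ne_top d) h10
  obtain ⟨a, ha⟩ := ENat.ne_top_iff_exists.mp h12
  have h13 : (rs.length : ℕ∞) < (a : ℕ∞) := by rw [ha]; exact lt_of_lt_of_le hq h5
  rw [← ha] at h10
  have h14 : rs.length < a := by exact_mod_cast h13
  have h15 : e' + rs.length = d := by exact_mod_cast h9
  have h16 : a + e' ≤ d := by exact_mod_cast h10
  omega

end CM

theorem ofFn_snoc {R : Type u} {k : ℕ} (f : Fin k → R) (x : R) :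
    List.ofFn (Fin.snoc f x : Fin (k + 1) → R) = List.ofFn f ++ [x] := by
  rw [List.ofFn_succ', List.concat_eq_append]
  simp

theorem exists_good_sequence_aux {R : Type u} [CommRing R] [IsRegularLocalRing R] (n : ℕ)
    (D : Fin n → Derivation ℤ R R) (I : Ideal R) (hI : I ≤ maximalIdeal R)
    (hht : ∀ q ∈ I.minimalPrimes, (n : ℕ∞) ≤ q.height)
    (hspan : ∀ q ∈ I.minimalPrimes, ∃ h : Fin n → R, (∀ i, h i ∈ I) ∧
      Matrix.det (Matrix.of fun i j => D j (h i)) ∉ q) (k : ℕ) (hk : k ≤ n) :
    ∃ f : Fin k → R, (∀ i, f i ∈ I) ∧ IsWeaklyRegular R (List.ofFn f) ∧ ∀ q ∈ I.minimalPrimes, Indep D q f := by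
  induction k with
  | zero => exact ⟨Fin.elim0, fun i => i.elim0, by simp, fun q _ c _ i => i.elim0⟩
  | succ k ih =>
    obtain ⟨f, hf, hreg, hind⟩ := ih (by omega)
    have hCM := Groth.Agent.Ega4A.RegCM.isCohenMacaulayLocalRing_of_isRegularLocalRing R
    let M := R ⧸ Ideal.ofList (List.ofFn f) • (⊤ : Submodule R R)
    have hfm : ∀ r ∈ List.ofFn f, r ∈ maximalIdeal R := by
      intro r hr
      obtain ⟨i, rfl⟩ := (List.mem_ofFn' f r).1 hr
      exact hI (hf i)
    -- associated primes do not contain `I`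
    have hass : ∀ P ∈ associatedPrimes R M, ¬ I ≤ P := by
      intro P hP hIP
      have hPp : P.IsPrime := hP.isPrime
      obtain ⟨q, hq, hqP⟩ := Ideal.exists_minimalPrimes_le hIP
      have hqp : q.IsPrime := hq.isPrime
      refine not_le_of_mem_associatedPrimes hCM (List.ofFn f) hfm hreg P hP q ?_ hqP
      refine lt_of_lt_of_le ?_ (hht q hq)
      rw [List.length_ofFn]
      exact_mod_cast hk
    classical
    have hfin1 : (associatedPrimes R M).Finite := associatedPrimes.finite R M
    have hfin2 : I.minimalPrimes.Finite := Ideal.finite_minimalPrimes_of_isNoetherianRing R I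
    let N : Ideal R → R → Prop := fun P x => if I ≤ P then Dep D P f x else x ∈ P
    have hmemI : ∀ q ∈ I.minimalPrimes, I ≤ q := fun q hq => hq.1.2
    have hder : ∀ {q : Ideal R}, I ≤ q → ∀ (r x : R), x ∈ I → ∀ j, D j (r * x) - r * D j x ∈ q := by
      intro q hIq r x hx j
      rw [Derivation.leibniz, smul_eq_mul, smul_eq_mul, add_sub_cancel_left]
      exact Ideal.mul_mem_right _ _ (hIq hx)
    have hS : ∀ p, p ∈ (hfin1.toFinset ∪ hfin2.toFinset) → (p.IsPrime ∧ ((¬ I ≤ p ∧ p ∈ associatedPrimes R M) ∨ (I ≤ p ∧ p ∈ I.minimalPrimes))) := by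
      intro p hp
      rcases Finset.mem_union.1 hp with hp | hp
      · rw [Set.Finite.mem_toFinset] at hp
        exact ⟨hp.isPrime, Or.inl ⟨hass p hp, hp⟩⟩
      · rw [Set.Finite.mem_toFinset] at hp
        exact ⟨hp.isPrime, Or.inr ⟨hmemI p hp, hp⟩⟩
    obtain ⟨x, hxI, hx⟩ := avoid I N (hfin1.toFinset ∪ hfin2.toFinset) (fun p hp => (hS p hp).1)
      (by
        intro p hp r hr x hx
        have hpp := (hS p hp).1
        simp only [N]
        split_ifs with h
        · refine ⟨1, fun h1 => hpp.ne_top ((Ideal.eq_top_iff_one p).2 h1), 0, fun j => ?_⟩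
          have h5 := hder h r x hx j
          have h6 : (1 : R) * D j (r * x) - ∑ i, (0 : Fin k → R) i * D j (f i) = (D j (r * x) - r * D j x) + r * D j x := by
            simp only [one_mul, Pi.zero_apply, zero_mul, Finset.sum_const_zero, sub_zero, sub_add_cancel]
          rw [h6]
          exact Ideal.add_mem _ h5 (Ideal.mul_mem_right _ _ hr)
        · exact Ideal.mul_mem_right _ _ hr)
      (by
        intro p hp r hr x hx hN
        have hpp := (hS p hp).1
        simp only [N] at hN ⊢
        split_ifs at hN ⊢ with h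
        · obtain ⟨s, hs, c, hc⟩ := hN
          refine ⟨s * r, fun hsr => ((hpp.mem_or_mem hsr).elim hs hr), c, fun j => ?_⟩
          have h5 := hder h r x hx j
          have h6 : s * r * D j x - ∑ i, c i * D j (f i) = (s * D j (r * x) - ∑ i, c i * D j (f i)) -
              s * (D j (r * x) - r * D j x) := by ring
          rw [h6]
          exact Ideal.sub_mem _ (hc j) (Ideal.mul_mem_left _ _ h5)
        · exact (hpp.mem_or_mem hN).resolve_left hr)
      (by
        intro p hp x hx y hy hNx hNy
        have hpp := (hS p hp).1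
        simp only [N] at hNx hNy ⊢
        split_ifs at hNx hNy ⊢ with h
        · obtain ⟨s, hs, c, hc⟩ := hNx
          obtain ⟨s', hs', c', hc'⟩ := hNy
          refine ⟨s * s', fun hss => ((hpp.mem_or_mem hss).elim hs hs'), fun i => s' * c i - s * c' i, fun j => ?_⟩
          have h6 : s * s' * D j (x - y) - ∑ i, (s' * c i - s * c' i) * D j (f i) =
              s' * (s * D j x - ∑ i, c i * D j (f i)) - s * (s' * D j y - ∑ i, c' i * D j (f i)) := by
            rw [map_sub]
            simp only [sub_mul, Finset.sum_sub_distrib, mul_assoc, ← Finset.mul_sum]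
            ring
          rw [h6]
          exact Ideal.sub_mem _ (Ideal.mul_mem_left _ _ (hc j)) (Ideal.mul_mem_left _ _ (hc' j))
        · exact Ideal.sub_mem _ hNx hNy)
      (by
        intro p hp
        have hpp := (hS p hp).1
        simp only [N]
        split_ifs with h
        · have hmin : p ∈ I.minimalPrimes := by
            rcases (hS p hp).2 with h7 | h7
            · exact absurd h h7.1
            · exact h7.2
          obtain ⟨h8, h9, h10⟩ := hspan p hmin
          obtain ⟨i, hi⟩ := exists_not_dep D (q := p) (by omega : k < n) f h8 h10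
          exact ⟨h8 i, h9 i, hi⟩
        · exact SetLike.not_le_iff_exists.1 h)
    refine ⟨Fin.snoc f x, ?_, ?_, ?_⟩
    · intro i
      induction i using Fin.lastCases with
      | last => rw [Fin.snoc_last]; exact hxI
      | cast i => rw [Fin.snoc_castSucc]; exact hf i
    · rw [ofFn_snoc, isWeaklyRegular_append_iff, isWeaklyRegular_singleton_iff]
      refine ⟨hreg, ?_⟩
      by_contra hcon
      have h5 := biUnion_associatedPrimes_eq_compl_regular R M
      have h6 : x ∈ ⋃ p ∈ associatedPrimes R M, (p : Set R) := by rw [h5]; exact hcon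
      obtain ⟨p, hp, hxp⟩ := Set.mem_iUnion₂.1 h6
      have h7 := hx p (Finset.mem_union_left _ (hfin1.mem_toFinset.2 hp))
      simp only [N, if_neg (hass p hp)] at h7
      exact h7 hxp
    · intro q hq
      refine (hind q hq).snoc D ?_
      have h7 := hx q (Finset.mem_union_right _ (hfin2.mem_toFinset.2 hq))
      simpa only [N, if_pos (hmemI q hq)] using h7

theorem exists_good_sequence {R : Type u} [CommRing R] [IsRegularLocalRing R] (n : ℕ)
    (D : Fin n → Derivation ℤ R R) (I : Ideal R) (hI : I ≤ maximalIdeal R)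
    (hht : ∀ q ∈ I.minimalPrimes, (n : ℕ∞) ≤ q.height)
    (hspan : ∀ q ∈ I.minimalPrimes, ∃ h : Fin n → R, (∀ i, h i ∈ I) ∧
      Matrix.det (Matrix.of fun i j => D j (h i)) ∉ q) :
    ∃ f : Fin n → R, (∀ i, f i ∈ I) ∧ RingTheory.Sequence.IsWeaklyRegular R (List.ofFn f) ∧
      ∀ q ∈ I.minimalPrimes, Matrix.det (Matrix.of fun i j => D j (f i)) ∉ q := by
  obtain ⟨f, hf, hreg, hind⟩ := exists_good_sequence_aux n D I hI hht hspan n le_rfl
  refine ⟨f, hf, hreg, fun q hq => ?_⟩
  have hqp : q.IsPrime := hq.isPrime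
  exact (hind q hq).det_notMem D

end Groth.Agent.Pi1A.RamSeq
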