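import Groth.Agent.Ega4dB.RegQuot
import Groth.Agent.CalgA.RegLoc
import Mathlib.RingTheory.Derivation.MapCoeffs
import Mathlib.Algebra.Polynomial.Derivation
import Mathlib.LinearAlgebra.Matrix.Adjugate
import Mathlib.LinearAlgebra.Matrix.SchurComplement
import Mathlib.RingTheory.RegularLocalRing.Polynomial
import Mathlib.RingTheory.KrullDimension.Polynomial
import Mathlib.RingTheory.RingHom.Surjective

/-!
# The trace step in the proof of purity of the ramification locus

`Δ N ⊆ image of ((f) : I)` for a finite birational regular algebra `N` over `C = R/I`.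
-/

set_option autoImplicit false
universe u v
open Polynomial

namespace Groth.Agent.Pi1A.TraceStep

/-- one-variable trace lemma -/
theorem trace_one {R : Type u} {F : Type v} [CommRing R] [CommRing F] (φ : R →+* F) (I J : Ideal R)
    (hJ : ∀ a ∈ J, φ a = 0)
    (p : R[X]) (hp : p.Monic) (y : F) (hy : eval₂ φ y p = 0) (a b : R) (hb : IsUnit (φ b))
    (hab : φ b * y = φ a) (G : R[X]) (hG1 : ∀ c ∈ I, C c * G ∈ J.map C ⊔ Ideal.span {p})
    (hG2 : (C b * X - C a) * G ∈ J.map C ⊔ Ideal.span {p}) :
    ∃ g : R, (∀ c ∈ I, c * g ∈ J) ∧ φ g * eval₂ φ y (derivative p) = eval₂ φ y G := by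
  refine ⟨(G %ₘ p).coeff (p.natDegree - 1), ?_, ?_⟩
  · intro c hc
    have h1 := hG1 c hc
    -- pass to `R/J`
    have h2 : (C (Ideal.Quotient.mk J c) * G.map (Ideal.Quotient.mk J)) ∈
        Ideal.span {p.map (Ideal.Quotient.mk J)} := by
      have h3 := Ideal.mem_map_of_mem (Polynomial.mapRingHom (Ideal.Quotient.mk J)) h1
      rw [Ideal.map_sup, Ideal.map_map, Ideal.map_span, Set.image_singleton] at h3
      have h4 : Ideal.map ((Polynomial.mapRingHom (Ideal.Quotient.mk J)).comp C) J = ⊥ := by
        rw [Ideal.map_eq_bot_iff_le_ker]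
        intro x hx
        rw [RingHom.mem_ker, RingHom.comp_apply, Polynomial.coe_mapRingHom, Polynomial.map_C,
          Ideal.Quotient.eq_zero_iff_mem.mpr hx, Polynomial.C_0]
      rw [h4, bot_sup_eq] at h3
      simpa [Polynomial.coe_mapRingHom] using h3
    rw [Ideal.mem_span_singleton] at h2
    have hpm : (p.map (Ideal.Quotient.mk J)).Monic := hp.map _
    have h5 : (C (Ideal.Quotient.mk J c) * G.map (Ideal.Quotient.mk J)) %ₘ
        p.map (Ideal.Quotient.mk J) = 0 := (Polynomial.modByMonic_eq_zero_iff_dvd hpm).mpr h2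
    rw [← Polynomial.smul_eq_C_mul, Polynomial.smul_modByMonic, ← Polynomial.map_modByMonic _ hp] at h5
    have h6 := congrArg (fun q => coeff q (p.natDegree - 1)) h5
    simp only [Polynomial.coeff_smul, Polynomial.coeff_map, smul_eq_mul, Polynomial.coeff_zero] at h6
    rw [← map_mul, Ideal.Quotient.eq_zero_iff_mem] at h6
    exact h6
  · rcases subsingleton_or_nontrivial F with hF | hF
    · exact Subsingleton.elim _ _
    -- pass to `F`
    have hroot : (p.map φ).IsRoot y := by
      rw [Polynomial.IsRoot.def, Polynomial.eval_map]; exact hy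
    have hpm : (p.map φ).Monic := hp.map _
    obtain ⟨E, hE⟩ := Polynomial.dvd_iff_isRoot.mpr hroot
    have hEm : E.Monic := (Polynomial.monic_X_sub_C y).of_mul_monic_left (hE ▸ hpm)
    have h2 : (C (φ b) * X - C (φ a)) * G.map φ ∈ Ideal.span {p.map φ} := by
      have h3 := Ideal.mem_map_of_mem (Polynomial.mapRingHom φ) hG2
      rw [Ideal.map_sup, Ideal.map_map, Ideal.map_span, Set.image_singleton] at h3
      have h4 : Ideal.map ((Polynomial.mapRingHom φ).comp C) J = ⊥ := by
        rw [Ideal.map_eq_bot_iff_le_ker]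
        intro x hx
        rw [RingHom.mem_ker, RingHom.comp_apply, Polynomial.coe_mapRingHom, Polynomial.map_C,
          hJ x hx, Polynomial.C_0]
      rw [h4, bot_sup_eq] at h3
      simpa [Polynomial.coe_mapRingHom] using h3
    have h5 : C (φ b) * X - C (φ a) = C (φ b) * (X - C y) := by
      rw [← hab]; simp only [map_mul]; ring
    rw [h5, Ideal.mem_span_singleton, hE] at h2
    obtain ⟨k, hk⟩ := h2
    obtain ⟨b', hb'⟩ := hb.exists_left_inv
    have h6 : G.map φ = E * (C b' * k) := by
      have h7 : (X - C y) * (G.map φ) = (X - C y) * (E * (C b' * k)) := by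
        have h8 : C b' * (C (φ b) * (X - C y) * G.map φ) = C b' * ((X - C y) * E * k) := by rw [hk]
        have h9 : C b' * C (φ b) = (1 : F[X]) := by rw [← C_mul, hb', C_1]
        calc (X - C y) * (G.map φ) = (C b' * C (φ b)) * ((X - C y) * G.map φ) := by rw [h9, one_mul]
          _ = C b' * (C (φ b) * (X - C y) * G.map φ) := by ring
          _ = C b' * ((X - C y) * E * k) := h8
          _ = _ := by ring
      exact (Polynomial.monic_X_sub_C y).isRegular.left h7
    set k' := C b' * k with hk'
    obtain ⟨q, hq⟩ : (X - C y) ∣ k' - C (k'.eval y) := Polynomial.X_sub_C_dvd_sub_C_eval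
    have h10 : G.map φ = p.map φ * q + C (k'.eval y) * E := by
      rw [h6, hE]
      have : k' = (X - C y) * q + C (k'.eval y) := by rw [← hq]; ring
      conv_lhs => rw [this]
      ring
    have hnd : (p.map φ).natDegree = 1 + E.natDegree := by
      rw [hE, (Polynomial.monic_X_sub_C y).natDegree_mul hEm, Polynomial.natDegree_X_sub_C]
    have hdegE : E.degree < (p.map φ).degree := by
      rw [Polynomial.degree_eq_natDegree hEm.ne_zero, Polynomial.degree_eq_natDegree hpm.ne_zero, hnd]
      exact_mod_cast (by omega : E.natDegree < 1 + E.natDegree)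
    have h11 : (G.map φ) %ₘ (p.map φ) = C (k'.eval y) * E := by
      refine (Polynomial.div_modByMonic_unique q _ hpm ⟨?_, ?_⟩).2
      · rw [h10]; ring
      · refine lt_of_le_of_lt ?_ hdegE
        rw [← Polynomial.smul_eq_C_mul]
        exact Polynomial.degree_smul_le _ _
    have hnd' : p.natDegree - 1 = E.natDegree := by
      rw [hp.natDegree_map] at hnd
      omega
    have h12 : φ ((G %ₘ p).coeff (p.natDegree - 1)) = k'.eval y := by
      rw [← Polynomial.coeff_map, Polynomial.map_modByMonic _ hp, h11, Polynomial.coeff_C_mul, hnd',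
        hEm.coeff_natDegree, mul_one]
    have h13 : eval₂ φ y (derivative p) = E.eval y := by
      rw [← Polynomial.eval_map, ← Polynomial.derivative_map, hE]
      simp
    rw [h12, h13, ← Polynomial.eval_map, h6, mul_comm]
    exact (Polynomial.eval_mul (p := E) (q := k')).symm

/-- an additive map satisfying the Leibniz rule -/
def IsDer {T : Type*} [CommRing T] (D : T →+ T) : Prop :=
  ∀ a b, D (a * b) = a * D b + b * D a

/-- auxiliary: the `ℤ`-derivation of an additive map satisfying Leibniz. -/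
noncomputable def ofDer {T : Type u} [CommRing T] (D : T →+ T) (hD : IsDer D) : Derivation ℤ T T :=
  Derivation.mk' D.toIntLinearMap (fun a b => hD a b)

/-- apply a derivation to the coefficients of a polynomial -/
noncomputable def ext {T : Type u} [CommRing T] (D : T →+ T) (hD : IsDer D) : T[X] →+ T[X] :=
  (PolynomialModule.equivPolynomialSelf.toLinearMap.compDer
    (ofDer D hD).mapCoeffs).toLinearMap.toAddMonoidHom

lemma ext_coeff {T : Type u} [CommRing T] (D : T →+ T) (hD : IsDer D) (p : T[X]) (n : ℕ) :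
    (ext D hD p).coeff n = D (p.coeff n) := rfl

lemma ext_isDer {T : Type u} [CommRing T] (D : T →+ T) (hD : IsDer D) : IsDer (ext D hD) :=
  fun a b => (PolynomialModule.equivPolynomialSelf.toLinearMap.compDer
    (ofDer D hD).mapCoeffs).leibniz a b

lemma ext_C {T : Type u} [CommRing T] (D : T →+ T) (hD : IsDer D) (x : T) :
    ext D hD (C x) = C (D x) := by
  ext n
  rw [ext_coeff, coeff_C, coeff_C]
  split_ifs <;> simp

/-- the derivative as an additive map -/
noncomputable def der (T : Type u) [CommRing T] : T[X] →+ T[X] :=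
  (Polynomial.derivative (R := T)).toAddMonoidHom

lemma der_apply (T : Type u) [CommRing T] (p : T[X]) : der T p = derivative p := rfl

lemma der_isDer (T : Type u) [CommRing T] : IsDer (der T) := fun a b => by
  rw [der_apply, der_apply, der_apply, derivative_mul]; ring

/-- Cramer + Leibniz: the Jacobian determinant. -/
theorem jac_local {T F : Type*} [CommRing T] [CommRing F] (ψ : T →+* F) {ι : Type*} [Fintype ι]
    [DecidableEq ι] (D : ι → T →+ T) (hD : ∀ j, IsDer (D j)) (h w : ι → T) (hh : ∀ i, ψ (h i) = 0)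
    (hw : ∀ i, ψ (w i) = 0) (s : T) (hs : ∀ x, ψ x = 0 → s * x ∈ Ideal.span (Set.range w)) :
    ∃ G : T, (∀ c, ψ c = 0 → c * G ∈ Ideal.span (Set.range h)) ∧
      ψ G = ψ (s ^ (Fintype.card ι + 1)) * ψ (Matrix.det (Matrix.of fun i j => D j (h i))) := by
  classical
  -- `s h_i = ∑ M_ik w_k`
  have h1 : ∀ i, ∃ m : ι → T, s * h i = ∑ k, m k * w k := by
    intro i
    have := hs (h i) (hh i)
    rw [Ideal.mem_span_range_iff_exists_fun] at this
    obtain ⟨m, hm⟩ := this
    exact ⟨m, hm.symm⟩
  choose M hM using h1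
  refine ⟨s * (Matrix.of M).det * Matrix.det (Matrix.of fun i j => D j (w i)), ?_, ?_⟩
  · intro c hc
    have h2 := hs c hc
    rw [Ideal.mem_span_range_iff_exists_fun] at h2
    obtain ⟨e, he⟩ := h2
    -- `det M * w_k ∈ span h`
    have h3 : ∀ k, (Matrix.of M).det * w k ∈ Ideal.span (Set.range h) := by
      intro k
      have h4 : Matrix.mulVec (Matrix.of M) w = fun i => s * h i := by
        ext i
        rw [hM i]
        rfl
      have h5 : Matrix.mulVec (Matrix.of M).adjugate (Matrix.mulVec (Matrix.of M) w) =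
          (Matrix.of M).det • w := by
        rw [Matrix.mulVec_mulVec, Matrix.adjugate_mul, Matrix.smul_mulVec, Matrix.one_mulVec]
      rw [h4] at h5
      have h6 := congrFun h5 k
      rw [Pi.smul_apply, smul_eq_mul] at h6
      rw [← h6]
      refine Ideal.sum_mem _ fun i _ => ?_
      exact Ideal.mul_mem_left _ _ (Ideal.mul_mem_left _ _ (Ideal.subset_span ⟨i, rfl⟩))
    have h7 : c * (s * (Matrix.of M).det * Matrix.det (Matrix.of fun i j => D j (w i))) =
        Matrix.det (Matrix.of fun i j => D j (w i)) * ((Matrix.of M).det * (s * c)) := by ring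
    rw [h7, ← he]
    refine Ideal.mul_mem_left _ _ ?_
    rw [Finset.mul_sum]
    refine Ideal.sum_mem _ fun i _ => ?_
    rw [mul_left_comm]
    exact Ideal.mul_mem_left _ _ (h3 i)
  · -- Leibniz
    have h8 : ∀ i j, ψ s * ψ (D j (h i)) = ∑ k, ψ (M i k) * ψ (D j (w k)) := by
      intro i j
      have h9 : D j (s * h i) = D j (∑ k, M i k * w k) := by rw [hM i]
      have h10 := congrArg ψ h9
      rw [hD j, map_sum] at h10
      simp only [hD j _ _, map_add, map_mul, map_sum, hh, hw, zero_mul, add_zero] at h10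
      exact h10
    have h11 : (ψ s) • (Matrix.of fun i j => ψ (D j (h i))) =
        (Matrix.of fun i j => ψ (M i j)) * (Matrix.of fun i j => ψ (D j (w i))) := by
      ext i j
      rw [Matrix.smul_apply, Matrix.mul_apply, smul_eq_mul]
      exact h8 i j
    have h12 := congrArg Matrix.det h11
    rw [Matrix.det_smul, Matrix.det_mul] at h12
    have e1 : Matrix.det (Matrix.of fun i j => ψ (D j (h i))) =
        ψ (Matrix.det (Matrix.of fun i j => D j (h i))) := by
      rw [RingHom.map_det]; rfl
    have e2 : Matrix.det (Matrix.of fun i j => ψ (M i j)) = ψ (Matrix.det (Matrix.of M)) := by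
      rw [RingHom.map_det]; rfl
    have e3 : Matrix.det (Matrix.of fun i j => ψ (D j (w i))) =
        ψ (Matrix.det (Matrix.of fun i j => D j (w i))) := by
      rw [RingHom.map_det]; rfl
    rw [e1, e2, e3] at h12
    rw [map_mul, map_mul, mul_assoc, ← h12, map_pow, pow_succ]
    ring

/-- Globalisation of `jac_local`. -/
theorem jac_global {T F : Type*} [CommRing T] [CommRing F] (ψ : T →+* F) {ι : Type*} [Fintype ι]
    [DecidableEq ι] (D : ι → T →+ T) (hD : ∀ j, IsDer (D j)) (h : ι → T) (hh : ∀ i, ψ (h i) = 0)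
    (H : ∀ M : Ideal T, M.IsMaximal → RingHom.ker ψ ≤ M → ∃ s ∉ M, ∃ w : ι → T,
      (∀ i, ψ (w i) = 0) ∧ ∀ x, ψ x = 0 → s * x ∈ Ideal.span (Set.range w)) :
    ∃ G : T, (∀ c, ψ c = 0 → c * G ∈ Ideal.span (Set.range h)) ∧
      ψ G = ψ (Matrix.det (Matrix.of fun i j => D j (h i))) := by
  classical
  set Δ := Matrix.det (Matrix.of fun i j => D j (h i)) with hΔ
  let Q : Ideal T :=
    { carrier := {x | ∃ G : T, (∀ c, ψ c = 0 → c * G ∈ Ideal.span (Set.range h)) ∧ ψ G = ψ x * ψ Δ}
      add_mem' := by
        rintro x y ⟨G, hG, hG'⟩ ⟨G', hH, hH'⟩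
        refine ⟨G + G', fun c hc => ?_, ?_⟩
        · rw [mul_add]; exact add_mem (hG c hc) (hH c hc)
        · rw [map_add, hG', hH', map_add, add_mul]
      zero_mem' := ⟨0, fun c _ => by rw [mul_zero]; exact zero_mem _, by simp⟩
      smul_mem' := by
        rintro a x ⟨G, hG, hG'⟩
        refine ⟨a * G, fun c hc => ?_, ?_⟩
        · rw [mul_left_comm]; exact Ideal.mul_mem_left _ _ (hG c hc)
        · rw [map_mul, hG', smul_eq_mul, map_mul, mul_assoc] }
  have hQ : Q = ⊤ := by
    by_contra hne
    obtain ⟨M, hM, hQM⟩ := Ideal.exists_le_maximal Q hne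
    have hK : RingHom.ker ψ ≤ M := by
      intro x hx
      apply hQM
      refine ⟨0, fun c _ => by rw [mul_zero]; exact zero_mem _, ?_⟩
      rw [RingHom.mem_ker] at hx
      rw [hx, zero_mul, map_zero]
    obtain ⟨s, hsM, w, hw, hs⟩ := H M hM hK
    obtain ⟨G, hG, hG'⟩ := jac_local ψ D hD h w hh hw s hs
    have : s ^ (Fintype.card ι + 1) ∈ M := hQM ⟨G, hG, hG'⟩
    exact hsM (hM.isPrime.mem_of_pow_mem _ this)
  have h1 : (1 : T) ∈ Q := by rw [hQ]; trivial
  obtain ⟨G, hG, hG'⟩ := h1
  exact ⟨G, hG, by rw [hG', map_one, one_mul]⟩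

/-- towers of monogenic extensions, with Jacobian data. -/
def HasTower {R F : Type u} [CommRing R] [CommRing F] (φ : R →+* F) {n : ℕ}
    (d : Fin n → R →+ R) (f : Fin n → R) (S : Subring F) : Prop :=
  ∃ (T : Type u) (_ : CommRing T) (_ : IsRegularRing T) (i : R →+* T) (ψ : T →+* F) (ι : Type)
    (_ : Fintype ι) (_ : DecidableEq ι) (D : ι → T →+ T) (h : ι → T) (P : F),
    (∀ j, IsDer (D j)) ∧ ψ.comp i = φ ∧ ψ.range = S ∧ ringKrullDim T ≤ ((Fintype.card ι + 1 : ℕ) : WithBot ℕ∞) ∧
    IsUnit P ∧
    ψ (Matrix.det (Matrix.of fun i j => D j (h i))) =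
      φ (Matrix.det (Matrix.of fun i j => d j (f i))) * P ∧
    (∀ i, ψ (h i) = 0) ∧
    (∀ G : T, (∀ c, ψ c = 0 → c * G ∈ Ideal.span (Set.range h)) →
      ∃ g : R, (∀ c, φ c = 0 → c * g ∈ Ideal.span (Set.range f)) ∧ φ g * P = ψ G)

theorem HasTower.base {R F : Type u} [CommRing R] [CommRing F] [IsRegularRing R] (φ : R →+* F)
    {n : ℕ} (hdim : ringKrullDim R ≤ ((n + 1 : ℕ) : WithBot ℕ∞))
    (d : Fin n → R →+ R) (hd : ∀ j, IsDer (d j)) (f : Fin n → R) (hf : ∀ i, φ (f i) = 0) :
    HasTower φ d f φ.range := by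
  refine ⟨R, inferInstance, inferInstance, RingHom.id R, φ, Fin n, inferInstance, inferInstance,
    d, f, 1, hd, RingHom.comp_id _, rfl, ?_, isUnit_one, ?_, hf, ?_⟩
  · simpa using hdim
  · rw [mul_one]
  · intro G hG
    exact ⟨G, hG, mul_one _⟩

theorem HasTower.step {R F : Type u} [CommRing R] [CommRing F] {φ : R →+* F}
    {n : ℕ} {d : Fin n → R →+ R} {f : Fin n → R} {S : Subring F}
    (H : HasTower φ d f S) (y : F) (p : R[X]) (hp : p.Monic) (hy : eval₂ φ y p = 0)
    (a b : R) (hb : IsUnit (φ b)) (hab : φ b * y = φ a)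
    (hder : eval₂ φ y (derivative p) = φ b) :
    HasTower φ d f (S ⊔ Subring.closure {y}) := by
  obtain ⟨T, _, _, i, ψ, ι, _, _, D, h, P, h0, h1, h2, h3, h4, h5, h6, h7⟩ := H
  have hψi : ∀ r, ψ (i r) = φ r := fun r => by rw [← h1]; rfl
  have hpT : eval₂ ψ y (p.map i) = 0 := by rw [Polynomial.eval₂_map, h1]; exact hy
  have hdT : eval₂ ψ y (derivative (p.map i)) = φ b := by
    rw [Polynomial.derivative_map, Polynomial.eval₂_map, h1]; exact hder
  refine ⟨T[X], inferInstance, inferInstance, (C : T →+* T[X]).comp i, eval₂RingHom ψ y, ι ⊕ Unit,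
    inferInstance, inferInstance, Sum.elim (fun j => ext (D j) (h0 j)) (fun _ => der T),
    Sum.elim (fun j => C (h j)) (fun _ => p.map i), P * φ b, ?_, ?_, ?_, ?_, h4.mul hb, ?_, ?_, ?_⟩
  · rintro (j | j)
    · exact ext_isDer _ _
    · exact der_isDer T
  · ext r
    simp [hψi]
  · apply le_antisymm
    · rintro _ ⟨q, rfl⟩
      rw [coe_eval₂RingHom, Polynomial.eval₂_eq_sum]
      refine Subring.sum_mem _ fun k _ => ?_
      refine Subring.mul_mem _ ?_ (Subring.pow_mem _ ?_ _)
      · exact (le_sup_left : S ≤ _) (h2 ▸ ⟨_, rfl⟩)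
      · exact (le_sup_right : Subring.closure {y} ≤ S ⊔ _) (Subring.subset_closure rfl)
    · refine sup_le ?_ ?_
      · rw [← h2]
        rintro _ ⟨t, rfl⟩
        exact ⟨C t, by simp⟩
      · rw [Subring.closure_le]
        rintro _ rfl
        exact ⟨X, by simp⟩
  · rw [Polynomial.ringKrullDim_of_isNoetherianRing, Fintype.card_sum, Fintype.card_unit]
    calc ringKrullDim T + 1 ≤ ((Fintype.card ι + 1 : ℕ) : WithBot ℕ∞) + 1 := by gcongr
      _ = _ := by push_cast; rfl
  · have hM : (Matrix.of fun (i' j' : ι ⊕ Unit) =>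
        (Sum.elim (fun j => ext (D j) (h0 j)) (fun _ => der T) j' : T[X] →+ T[X])
          (Sum.elim (fun j => C (h j)) (fun _ => p.map i) i')) =
        Matrix.fromBlocks (Matrix.of fun i j => C (D j (h i))) 0
          (Matrix.of fun (_ : Unit) j => ext (D j) (h0 j) (p.map i))
          (Matrix.of fun (_ _ : Unit) => derivative (p.map i)) := by
      ext1 i' j'
      rcases i' with i' | i' <;> rcases j' with j' | j'
      · simp [ext_C]
      · simp [der_apply]
      · simp
      · simp [der_apply]
    have hU : (Matrix.of fun (_ _ : Unit) => derivative (p.map i)).det = derivative (p.map i) := by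
      rw [Matrix.det_unique]; rfl
    rw [hM, Matrix.det_fromBlocks_zero₁₂, map_mul, hU, coe_eval₂RingHom, hdT]
    have e1 : (Matrix.of fun i j => C (D j (h i))).det = C ((Matrix.of fun i j => D j (h i)).det) := by
      rw [RingHom.map_det]; rfl
    rw [e1, eval₂_C, h5]
    ring
  · rintro (j | j)
    · simp [h6]
    · simpa using hpT
  · intro G hG
    have hspan : Ideal.span (Set.range (Sum.elim (fun j => (C (h j) : T[X])) (fun _ : Unit => p.map i))) =
        (Ideal.span (Set.range h)).map C ⊔ Ideal.span {p.map i} := by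
      rw [Set.Sum.elim_range, Ideal.span_union, Ideal.map_span, ← Set.range_comp, Set.range_const]
      rfl
    rw [hspan] at hG
    obtain ⟨g₁, hg₁, hg₁'⟩ := trace_one ψ (RingHom.ker ψ) (Ideal.span (Set.range h))
      (fun x hx => by
        have : Ideal.span (Set.range h) ≤ RingHom.ker ψ := by
          rw [Ideal.span_le]
          rintro _ ⟨j, rfl⟩
          exact h6 j
        exact this hx)
      (p.map i) (hp.map i) y hpT (i a) (i b) (by rw [hψi]; exact hb) (by rw [hψi, hψi]; exact hab) G
      (fun c hc => hG (C c) (by simpa using hc))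
      (hG _ (by simp [hψi, hab]))
    obtain ⟨g, hg, hg'⟩ := h7 g₁ (fun c hc => hg₁ c hc)
    refine ⟨g, hg, ?_⟩
    rw [← mul_assoc, hg', ← hdT, hg₁']
    rfl

open RingTheory.Sequence in
/-- kernel of a surjective map of regular local rings. -/
theorem exists_ker_generators {A B : Type u} [CommRing A] [CommRing B]
    [IsRegularLocalRing A] [IsRegularLocalRing B] (φ : A →+* B) (hφ : Function.Surjective φ) :
    ∃ (c : ℕ) (g : Fin c → A), RingHom.ker φ = Ideal.span (Set.range g) ∧
      ringKrullDim B + c = ringKrullDim A := by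
  have e : (A ⧸ RingHom.ker φ) ≃+* B := RingHom.quotientKerEquivOfSurjective hφ
  have hq : IsRegularLocalRing (A ⧸ RingHom.ker φ) := IsRegularLocalRing.of_ringEquiv e.symm
  obtain ⟨rs, hrs, hI⟩ := Groth.Agent.Ega4dB.RegQuot.isRegularIdeal_of_isRegularLocalRing
    (RingHom.ker φ) hq
  have hlen := ringKrullDim_add_length_eq_ringKrullDim_of_isRegular rs hrs
  refine ⟨rs.length, rs.get, ?_, ?_⟩
  · rw [← hI, Ideal.ofList]
    congr 1
    ext x
    simp [List.mem_iff_get]
  · rw [← hlen, hI, ringKrullDim_eq_of_ringEquiv e]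

/-- local generators of the kernel of a surjection onto a regular ring. -/
theorem exists_local_generators {T B : Type u} [CommRing T] [CommRing B] [IsRegularRing T]
    (π : T →+* B) (hπ : Function.Surjective π) {N : ℕ}
    (hdim : ringKrullDim T ≤ ((N + 1 : ℕ) : WithBot ℕ∞)) (M : Ideal T) [hM : M.IsMaximal]
    (hker : RingHom.ker π ≤ M)
    (hreg : ∀ (Q : Ideal B) [Q.IsMaximal], IsRegularLocalRing (Localization.AtPrime Q) ∧
      1 ≤ ringKrullDim (Localization.AtPrime Q)) :
    ∃ s ∉ M, ∃ (c : ℕ) (_ : c ≤ N) (w : Fin c → T), (∀ i, π (w i) = 0) ∧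
      ∀ x, π x = 0 → s * x ∈ Ideal.span (Set.range w) := by
  classical
  have hQ : (M.map π).IsMaximal := Ideal.IsMaximal.map_of_surjective_of_ker_le hπ hker
  have hcomap : (M.map π).comap π = M := by
    rw [Ideal.comap_map_of_surjective _ hπ, ← RingHom.ker_eq_comap_bot, sup_of_le_left hker]
  obtain ⟨h1, h2⟩ := hreg (M.map π)
  generalize hQdef : M.map π = Q at hQ hcomap h1 h2
  subst hcomap
  have h3 : IsRegularLocalRing (Localization.AtPrime (Q.comap π)) := inferInstance
  have hsurj := RingHom.surjective_localRingHom_of_surjective π hπ Q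
  obtain ⟨c, g, hg, hc⟩ := exists_ker_generators (Localization.localRingHom (Q.comap π) Q π rfl) hsurj
  set ρ := Localization.localRingHom (Q.comap π) Q π rfl with hρ
  -- `c ≤ N`
  have hcN : c ≤ N := by
    have h4 : ringKrullDim (Localization.AtPrime (Q.comap π)) ≤ ((N + 1 : ℕ) : WithBot ℕ∞) := by
      rw [IsLocalization.AtPrime.ringKrullDim_eq_height (Q.comap π)]
      exact (Ideal.height_le_ringKrullDim_of_ne_top Ideal.IsPrime.ne_top').trans hdim
    have h5 : (1 : WithBot ℕ∞) + c ≤ ((N + 1 : ℕ) : WithBot ℕ∞) := by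
      calc (1 : WithBot ℕ∞) + c ≤ ringKrullDim (Localization.AtPrime Q) + c := by gcongr
        _ = _ := hc
        _ ≤ _ := h4
    have h6 : (1 + c : ℕ) ≤ N + 1 := by exact_mod_cast h5
    omega
  -- numerators
  have h7 : ∀ k, ∃ w : T, π w = 0 ∧ ∃ u : Localization.AtPrime (Q.comap π), IsUnit u ∧
      algebraMap T (Localization.AtPrime (Q.comap π)) w = u * g k := by
    intro k
    have hk : ρ (g k) = 0 := by
      have : g k ∈ RingHom.ker ρ := hg ▸ Ideal.subset_span ⟨k, rfl⟩
      exact this
    obtain ⟨⟨t, s⟩, hts⟩ := IsLocalization.mk'_surjective (Q.comap π).primeCompl (g k)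
    simp only at hts
    have h8 : algebraMap T (Localization.AtPrime (Q.comap π)) t =
        algebraMap T (Localization.AtPrime (Q.comap π)) s * g k := by
      rw [← hts, IsLocalization.mk'_spec']
    have h9 : algebraMap B (Localization.AtPrime Q) (π t) = 0 := by
      have := congrArg ρ h8
      rw [map_mul, hk, mul_zero, Localization.localRingHom_to_map] at this
      exact this
    rw [IsLocalization.map_eq_zero_iff Q.primeCompl] at h9
    obtain ⟨⟨v, hv⟩, hv'⟩ := h9
    obtain ⟨v', rfl⟩ := hπ v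
    refine ⟨v' * t, by rw [map_mul]; exact hv', algebraMap _ _ (v' * s), ?_, ?_⟩
    · exact IsLocalization.map_units (Localization.AtPrime (Q.comap π))
        (⟨v', hv⟩ * s : (Q.comap π).primeCompl)
    · rw [map_mul, map_mul, h8, mul_assoc]
  choose w hw u hu huw using h7
  have hspan : RingHom.ker ρ ≤ (Ideal.span (Set.range w)).map
      (algebraMap T (Localization.AtPrime (Q.comap π))) := by
    rw [hg, Ideal.span_le]
    rintro _ ⟨k, rfl⟩
    obtain ⟨u', hu'⟩ := (hu k).exists_left_inv
    have : g k = u' * algebraMap T _ (w k) := by rw [huw, ← mul_assoc, hu', one_mul]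
    rw [SetLike.mem_coe, this]
    exact Ideal.mul_mem_left _ _ (Ideal.mem_map_of_mem _ (Ideal.subset_span ⟨k, rfl⟩))
  have hx : ∀ x, π x = 0 → ∃ m ∈ (Q.comap π).primeCompl, m * x ∈ Ideal.span (Set.range w) := by
    intro x hx
    rw [← IsLocalization.algebraMap_mem_map_algebraMap_iff (Q.comap π).primeCompl
      (Localization.AtPrime (Q.comap π))]
    apply hspan
    rw [RingHom.mem_ker, hρ, Localization.localRingHom_to_map, hx, map_zero]
  -- finitely many generators
  obtain ⟨S, hS⟩ := (IsNoetherian.noetherian (RingHom.ker π) : (RingHom.ker π).FG)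
  have hSπ : ∀ x ∈ S, π x = 0 := fun x hx => by
    have : x ∈ RingHom.ker π := hS ▸ Ideal.subset_span hx
    exact this
  choose! m hm hm' using fun x (hxS : x ∈ S) => hx x (hSπ x hxS)
  refine ⟨∏ x ∈ S, m x, ?_, c, hcN, w, hw, ?_⟩
  · exact (Submonoid.prod_mem (Q.comap π).primeCompl fun x hxS => hm x hxS)
  · intro x hx
    have hxk : x ∈ Ideal.span (S : Set T) := by rw [Ideal.submodule_span_eq] at hS; rw [hS]; exact hx
    refine Submodule.span_induction (p := fun x _ => (∏ x ∈ S, m x) * x ∈ Ideal.span (Set.range w))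
      ?_ ?_ ?_ ?_ hxk
    · intro y hy
      have hyS : y ∈ S := hy
      rw [← Finset.mul_prod_erase S m hyS, mul_comm (m y), mul_assoc]
      exact Ideal.mul_mem_left _ _ (hm' y hyS)
    · rw [mul_zero]; exact zero_mem _
    · intro a b _ _ ha hb
      rw [mul_add]; exact add_mem ha hb
    · intro a b _ hb
      rw [smul_eq_mul, mul_left_comm]; exact Ideal.mul_mem_left _ _ hb

/-- towers for finitely many elements -/
theorem HasTower.of_finset {R F : Type u} [CommRing R] [CommRing F] [IsRegularRing R] [Nontrivial R]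
    (φ : R →+* F) {n : ℕ} (hdim : ringKrullDim R ≤ ((n + 1 : ℕ) : WithBot ℕ∞))
    (d : Fin n → R →+ R) (hd : ∀ j, IsDer (d j)) (f : Fin n → R) (hf : ∀ i, φ (f i) = 0)
    (s : Finset F) (hs : ∀ y ∈ s, (∃ q : R[X], q.Monic ∧ eval₂ φ y q = 0) ∧
      ∃ a b : R, IsUnit (φ b) ∧ φ b * y = φ a) :
    HasTower φ d f (φ.range ⊔ Subring.closure (s : Set F)) := by
  classical
  induction s using Finset.induction_on with
  | empty =>
    have : φ.range ⊔ Subring.closure ((∅ : Finset F) : Set F) = φ.range := by
      rw [Finset.coe_empty, Subring.closure_empty, sup_bot_eq]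
    rw [this]
    exact HasTower.base φ hdim d hd f hf
  | insert y s hy ih =>
    have h1 := ih fun z hz => hs z (Finset.mem_insert_of_mem hz)
    obtain ⟨⟨q, hq, hq0⟩, a, b, hb, hab⟩ := hs y (Finset.mem_insert_self _ _)
    have h2 : φ.range ⊔ Subring.closure ((insert y s : Finset F) : Set F) =
        φ.range ⊔ Subring.closure (s : Set F) ⊔ Subring.closure {y} := by
      rw [Finset.coe_insert, Set.insert_eq, Subring.closure_union, sup_assoc,
        sup_comm (Subring.closure {y})]
    rw [h2]
    have hXq : (X * q : R[X]).Monic := monic_X.mul hq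
    have hm : ((X * q) ^ 2 : R[X]).Monic := hXq.pow 2
    have hdeg : (C b * X - C a : R[X]).degree < ((X * q) ^ 2 : R[X]).degree := by
      have h3 : (C b * X - C a : R[X]).degree ≤ 1 := by
        rw [sub_eq_add_neg, ← C_neg]
        exact Polynomial.degree_linear_le
      refine lt_of_le_of_lt h3 ?_
      rw [Polynomial.degree_eq_natDegree hm.ne_zero, hXq.natDegree_pow, monic_X.natDegree_mul hq,
        natDegree_X]
      exact_mod_cast (by omega : 1 < 2 * (1 + q.natDegree))
    refine h1.step y ((X * q) ^ 2 + (C b * X - C a)) (hm.add_of_left hdeg) ?_ a b hb hab ?_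
    · simp [eval₂_add, eval₂_pow, eval₂_mul, hq0, hab]
    · simp [derivative_pow, eval₂_add, eval₂_mul, hq0]

/-- **Trace step.** `R` regular local of dimension `≤ n + 1` with derivations `d 1, …, d n`,
`R → F` with kernel `I`, `f 1, …, f n ∈ I`, `Δ = det (d j (f i))`.  If `N ⊆ F` is finite over `R`,
birational (every element is a fraction with invertible denominator from `R`) and regular of
positive dimension, then `Δ N` is contained in the image of `((f) : I)`. -/
theorem trace_step {R F : Type u} [CommRing R] [IsRegularLocalRing R] (n : ℕ)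
    (hdim : ringKrullDim R ≤ n + 1) (d : Fin n → Derivation ℤ R R) (f : Fin n → R) [CommRing F]
    [Algebra R F] (hf : ∀ i, algebraMap R F (f i) = 0) (N : Subalgebra R F) [Module.Finite R N]
    (hN : ∀ z ∈ N, ∃ a b : R, IsUnit (algebraMap R F b) ∧
      algebraMap R F b * z = algebraMap R F a)
    (hreg : ∀ (Q : Ideal N) [Q.IsMaximal], IsRegularLocalRing (Localization.AtPrime Q) ∧
      1 ≤ ringKrullDim (Localization.AtPrime Q)) :
    ∀ z ∈ N, ∃ g : R, (∀ a ∈ RingHom.ker (algebraMap R F), g * a ∈ Ideal.span (Set.range f)) ∧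
      algebraMap R F g =
        algebraMap R F (Matrix.det (Matrix.of fun i j => d j (f i))) * z := by
  classical
  intro z hz
  have hR : IsRegularRing R := Groth.Agent.CalgA.RegLoc.isRegularRing_of_isRegularLocalRing R
  have hfg : N.FG := by
    have : Algebra.FiniteType R N := inferInstance
    exact (Subalgebra.fg_iff_finiteType N).mpr this
  obtain ⟨s, hs⟩ := hfg
  have hsN : ∀ y ∈ s, y ∈ N := fun y hy => hs ▸ Algebra.subset_adjoin hy
  have hgood : ∀ y ∈ s, (∃ q : R[X], q.Monic ∧ eval₂ (algebraMap R F) y q = 0) ∧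
      ∃ a b : R, IsUnit (algebraMap R F b) ∧ algebraMap R F b * y = algebraMap R F a := by
    intro y hy
    refine ⟨?_, hN y (hsN y hy)⟩
    have h1 : IsIntegral R (⟨y, hsN y hy⟩ : N) := IsIntegral.of_finite R _
    have h2 : IsIntegral R y := h1.map (N.val)
    exact h2
  have hdim' : ringKrullDim R ≤ ((n + 1 : ℕ) : WithBot ℕ∞) := by exact_mod_cast hdim
  have H := HasTower.of_finset (algebraMap R F) hdim' (fun j => (d j : R →ₗ[ℤ] R).toAddMonoidHom)
    (fun j a b => (d j).leibniz a b) f hf s hgood
  have hrange : (algebraMap R F).range ⊔ Subring.closure (s : Set F) = N.toSubring := by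
    apply le_antisymm
    · refine sup_le ?_ ?_
      · rintro _ ⟨r, rfl⟩
        exact N.algebraMap_mem r
      · rw [Subring.closure_le]
        exact fun y hy => hsN y hy
    · intro y hy
      have hy' : y ∈ Algebra.adjoin R (s : Set F) := by rw [hs]; exact hy
      refine Algebra.adjoin_induction (fun x hx => ?_) (fun r => ?_) (fun a b _ _ ha hb => ?_)
        (fun a b _ _ ha hb => ?_) hy'
      · exact (le_sup_right : Subring.closure (s : Set F) ≤ (algebraMap R F).range ⊔ _)
          (Subring.subset_closure hx)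
      · exact (le_sup_left : (algebraMap R F).range ≤ _ ⊔ Subring.closure (s : Set F)) ⟨r, rfl⟩
      · exact Subring.add_mem _ ha hb
      · exact Subring.mul_mem _ ha hb
  rw [hrange] at H
  obtain ⟨T, _, _, i, ψ, ι, _, _, D, h, P, h0, h1, h2, h3, h4, h5, h6, h7⟩ := H
  -- the surjection onto `N`
  let π : T →+* N := ψ.codRestrict N fun t => by
    have : ψ t ∈ ψ.range := ⟨t, rfl⟩
    rw [h2] at this
    exact this
  have hπ : Function.Surjective π := by
    rintro ⟨y, hy⟩
    have : y ∈ ψ.range := by rw [h2]; exact hy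
    obtain ⟨t, ht⟩ := this
    exact ⟨t, Subtype.ext ht⟩
  have hπψ : ∀ t, π t = 0 ↔ ψ t = 0 := fun t => by
    rw [← Subtype.coe_inj]; rfl
  obtain ⟨G, hG, hG'⟩ := jac_global ψ D h0 h h6 (by
    intro M hM hker
    have hker' : RingHom.ker π ≤ M := fun x hx => hker ((hπψ x).mp hx)
    obtain ⟨s, hs, c, hc, w, hw, hsw⟩ := exists_local_generators π hπ h3 M hker' hreg
    -- pad with zeros
    obtain ⟨e⟩ : Nonempty (Fin c ↪ ι) := by
      rw [Function.Embedding.nonempty_iff_card_le]
      simpa using hc
    refine ⟨s, hs, Function.extend e w 0, ?_, ?_⟩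
    · intro j
      by_cases hj : ∃ k, e k = j
      · obtain ⟨k, rfl⟩ := hj
        rw [e.injective.extend_apply]
        exact (hπψ _).mp (hw k)
      · rw [Function.extend_apply' _ _ _ hj]
        exact map_zero ψ
    · intro x hx
      refine Ideal.span_mono ?_ (hsw x ((hπψ x).mpr hx))
      rintro _ ⟨k, rfl⟩
      exact ⟨e k, e.injective.extend_apply _ _ _⟩)
  obtain ⟨t, ht⟩ : ∃ t, ψ t = z := by
    have : z ∈ ψ.range := by rw [h2]; exact hz
    exact this
  obtain ⟨g, hg, hg'⟩ := h7 (G * t) (fun c hc => by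
    rw [← mul_assoc]; exact Ideal.mul_mem_right _ _ (hG c hc))
  refine ⟨g, fun a ha => by rw [mul_comm]; exact hg a ha, ?_⟩
  have hdet : (Matrix.of fun i j => ((fun j => (d j : R →ₗ[ℤ] R).toAddMonoidHom) j) (f i)).det =
    (Matrix.of fun i j => d j (f i)).det := rfl
  rw [map_mul, hG', h5, ht, hdet] at hg'
  obtain ⟨P', hP'⟩ := h4.exists_right_inv
  calc algebraMap R F g = algebraMap R F g * P * P' := by rw [mul_assoc, hP', mul_one]
    _ = _ := by rw [hg']
    _ = algebraMap R F (Matrix.det (Matrix.of fun i j => d j (f i))) * z * (P * P') := by ring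
    _ = _ := by rw [hP', mul_one]

end Groth.Agent.Pi1A.TraceStep
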