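import Groth.Agent.Pi1A.IsoAway
import Mathlib.RingTheory.Localization.Integral
import Mathlib.RingTheory.Etale.Locus
import Mathlib.RingTheory.Etale.Basic
import Mathlib.RingTheory.IntegralClosure.IsIntegralClosure.Basic

/-!
# Spreading out finite étale algebras together with gluing data

`R` Noetherian, `S = M⁻¹R`, `C` finite étale over `S`, `N` an `R`-algebra, `p : C → N' = M⁻¹N`.
-/

set_option autoImplicit false

namespace Groth.Agent.Pi1A.SpreadFEt

open IsoAway

section

variable {R S N C N' : Type*} [CommRing R] [CommRing S] [CommRing N] [CommRing C] [CommRing N']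
  [Algebra R S] (M : Submonoid R) [IsLocalization M S]
  [Algebra R N] [Algebra N N'] [Algebra R N'] [IsScalarTower R N N']
  [IsLocalization (Algebra.algebraMapSubmonoid N M) N']
  [Algebra R C] [Algebra S C] [IsScalarTower R S C]
  (p : C →ₐ[R] N')

/-- the fibre product `N ×_{N'} C` -/
def fibD : Subalgebra R (N × C) :=
  AlgHom.equalizer ((IsScalarTower.toAlgHom R N N').comp (AlgHom.fst R N C))
    (p.comp (AlgHom.snd R N C))

lemma mem_fibD (x : N × C) : x ∈ fibD p ↔ algebraMap N N' x.1 = p x.2 := Iff.rfl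

variable {p}

include M in
lemma exists_smul_eq_zero {n : N} (h : (n, (0 : C)) ∈ fibD p) : ∃ m ∈ M, m • n = 0 := by
  rw [mem_fibD] at h
  simp only [map_zero] at h
  rw [IsLocalization.map_eq_zero_iff (Algebra.algebraMapSubmonoid N M)] at h
  obtain ⟨⟨_, m, hm, rfl⟩, h⟩ := h
  exact ⟨m, hm, by rw [Algebra.smul_def]; exact h⟩

include M in
lemma exists_mem_fibD (c : C) : ∃ m ∈ M, ∃ n : N, (n, m • c) ∈ fibD p := by
  obtain ⟨⟨n, ⟨_, m, hm, rfl⟩⟩, h⟩ :=
    IsLocalization.surj (Algebra.algebraMapSubmonoid N M) (p c)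
  refine ⟨m, hm, n, ?_⟩
  rw [mem_fibD]
  simp only at h ⊢
  rw [← h, map_smul, Algebra.smul_def, mul_comm, IsScalarTower.algebraMap_apply R N N']

/-- the second projection is a localization -/
lemma isLocalization_of_le (hM : ∀ m ∈ M, IsUnit (algebraMap R C m))
    {B : Type*} [CommRing B] [Algebra R B] (i : B →ₐ[R] N × C) (hi : Function.Injective i)
    (hB : ∀ b, i b ∈ fibD p)
    (hc : ∀ c : C, ∃ m ∈ M, ∃ b : B, (i b).2 = m • c) [Algebra B C] [IsScalarTower R B C]
    (hBC : ∀ b : B, algebraMap B C b = (i b).2) :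
    IsLocalization (Algebra.algebraMapSubmonoid B M) C := by
  rw [isLocalization_iff]
  refine ⟨?_, ?_, ?_⟩
  · rintro ⟨_, m, hm, rfl⟩
    simp only
    change IsUnit (algebraMap B C (algebraMap R B m))
    rw [← IsScalarTower.algebraMap_apply R B C]
    exact hM m hm
  · intro c
    obtain ⟨m, hm, b, h⟩ := hc c
    refine ⟨⟨b, ⟨_, m, hm, rfl⟩⟩, ?_⟩
    simp only [hBC]
    rw [mul_comm, h, Algebra.smul_def]
    change (i (algebraMap R B m)).2 * c = _
    rw [i.commutes]
    rfl
  · intro x y hxy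
    rw [hBC, hBC] at hxy
    have h : ((i (x - y)).1, (0 : C)) ∈ fibD p := by
      have := hB (x - y)
      convert this using 1
      refine Prod.ext rfl ?_
      rw [map_sub, Prod.snd_sub, hxy, sub_self]
    obtain ⟨m, hm, hm0⟩ := exists_smul_eq_zero M h
    refine ⟨⟨_, m, hm, rfl⟩, ?_⟩
    simp only
    rw [← sub_eq_zero, ← mul_sub]
    apply hi
    rw [map_mul, map_zero]
    refine Prod.ext ?_ ?_
    · change (i (algebraMap R B m)).1 * (i (x - y)).1 = 0
      rw [i.commutes]
      change algebraMap R N m * _ = 0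
      rw [← Algebra.smul_def, hm0]
    · change _ * (i (x - y)).2 = 0
      rw [map_sub, Prod.snd_sub, hxy, sub_self, mul_zero]

include M in
lemma exists_integral [Module.Finite S C] (hM : ∀ m ∈ M, IsUnit (algebraMap R C m))
    {D : Type*} [CommRing D] [Algebra R D] (i : D →ₐ[R] N × C) (hi : Function.Injective i)
    (hD : ∀ b, i b ∈ fibD p) (hD' : ∀ x ∈ fibD p, ∃ d, i d = x) (c : C) :
    ∃ m ∈ M, ∃ n : N, (n, m • c) ∈ fibD p ∧ IsIntegral R ((n, m • c) : N × C) := by
  have hc : IsIntegral S c := Algebra.IsIntegral.isIntegral c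
  obtain ⟨⟨m1, hm1⟩, h1⟩ := hc.exists_multiple_integral_of_isLocalization M
  obtain ⟨m2, hm2, n, hn⟩ := exists_mem_fibD (N := N) (N' := N') M (p := p) (m1 • c)
  let alg : Algebra D C := ((AlgHom.snd R N C).comp i).toRingHom.toAlgebra
  have hst : IsScalarTower R D C :=
    IsScalarTower.of_algebraMap_eq fun r => (((AlgHom.snd R N C).comp i).commutes r).symm
  have hloc : IsLocalization (Algebra.algebraMapSubmonoid D M) C :=
    isLocalization_of_le (N := N) (N' := N') (p := p) M hM i hi hD
      (fun c => by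
        obtain ⟨m, hm, n, hn⟩ := exists_mem_fibD (N := N) (N' := N') (p := p) M c
        obtain ⟨d, hd⟩ := hD' _ hn
        exact ⟨m, hm, d, by rw [hd]⟩) (fun b => rfl)
  obtain ⟨d, hd⟩ := hD' _ hn
  have h2 : IsIntegral R (algebraMap D C d) := by
    change IsIntegral R (i d).2
    rw [hd]
    exact h1.smul m2
  obtain ⟨m3, hm3, h3⟩ := IsLocalization.exists_isIntegral_smul_of_isIntegral_map M h2
  refine ⟨m3 * m2 * m1, M.mul_mem (M.mul_mem hm3 hm2) hm1, m3 • n, ?_, ?_⟩
  · have := (fibD p).smul_mem hn m3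
    convert this using 1
    simp [mul_smul]
  · have := h3.map i
    rw [map_smul, hd] at this
    convert this using 1
    simp [mul_smul]

/-- The structure of the model: a finite `R`-subalgebra of `N ×_{N'} C` whose localization is
`C`. -/
lemma exists_model [Module.Finite S C] (hM : ∀ m ∈ M, IsUnit (algebraMap R C m)) :
    ∃ B : Subalgebra R (N × C), B ≤ fibD p ∧ Module.Finite R B ∧
      ∀ c : C, ∃ m ∈ M, ∃ n : N, (n, m • c) ∈ B := by
  classical
  -- every `c` has an integral lift of a multiple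
  have h1 : ∀ c : C, ∃ m ∈ M, ∃ n : N, (n, m • c) ∈ fibD p ∧ IsIntegral R ((n, m • c) : N × C) :=
    fun c => exists_integral (S := S) (N' := N') M hM (fibD p).val Subtype.val_injective
      (fun b => b.2) (fun x hx => ⟨⟨x, hx⟩, rfl⟩) c
  choose m hm n hn hint using h1
  obtain ⟨s, hs⟩ := (inferInstance : Module.Finite S C)
  let T : Set (N × C) := (fun c => (n c, m c • c)) '' (s : Set C)
  refine ⟨Algebra.adjoin R T, ?_, ?_, ?_⟩
  · rw [Algebra.adjoin_le_iff]
    rintro _ ⟨c, -, rfl⟩
    exact hn c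
  · have := fg_adjoin_of_finite (s := T) (R := R) (s.finite_toSet.image _) (by
      rintro _ ⟨c, -, rfl⟩
      exact hint c)
    exact Module.Finite.iff_fg.2 this
  · intro c
    have hc : c ∈ Submodule.span S (s : Set C) := by rw [hs]; trivial
    induction hc using Submodule.span_induction with
    | mem c hc =>
      exact ⟨m c, hm c, n c, Algebra.subset_adjoin ⟨c, hc, rfl⟩⟩
    | zero => exact ⟨1, M.one_mem, 0, by rw [smul_zero]; exact (Algebra.adjoin R T).zero_mem⟩
    | add x y _ _ hx hy =>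
      obtain ⟨mx, hmx, nx, hx⟩ := hx
      obtain ⟨my, hmy, ny, hy⟩ := hy
      refine ⟨my * mx, M.mul_mem hmy hmx, my • nx + mx • ny, ?_⟩
      have := Subalgebra.add_mem _ (Subalgebra.smul_mem _ hx my) (Subalgebra.smul_mem _ hy mx)
      convert this using 1
      refine Prod.ext rfl ?_
      simp only [Prod.smul_mk, Prod.mk_add_mk, smul_add, mul_smul]
      rw [smul_comm mx my y]
    | smul a x _ hx =>
      obtain ⟨mx, hmx, nx, hx⟩ := hx
      obtain ⟨⟨r, ⟨m', hm'⟩⟩, hr⟩ := IsLocalization.surj M a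
      simp only at hr
      refine ⟨m' * mx, M.mul_mem hm' hmx, r • nx, ?_⟩
      have := Subalgebra.smul_mem _ hx r
      convert this using 1
      refine Prod.ext rfl ?_
      simp only [Prod.smul_mk]
      rw [← algebraMap_smul S r, ← hr, ← algebraMap_smul S (m' * mx), smul_smul, map_mul,
        ← algebraMap_smul S mx x, smul_smul]
      congr 1
      ring

end

end Groth.Agent.Pi1A.SpreadFEt
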