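import Groth.Agent.Pi1A.SpreadFEt

/-!
# Spreading out finite étale algebras together with gluing data, part 2
-/

set_option autoImplicit false

namespace Groth.Agent.Pi1A.SpreadFEt

open IsoAway

/-- If `B` is finitely presented over `R` and `M⁻¹B` is formally étale over `R`, then `B_f` is
étale over `R` for some `f ∈ M`. -/
lemma exists_etale_away {R B : Type*} (C : Type*) [CommRing R] [CommRing B] [CommRing C]
    [Algebra R B] [Algebra B C] [Algebra R C] [IsScalarTower R B C] [Algebra.FinitePresentation R B]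
    (M : Submonoid R) [IsLocalization (Algebra.algebraMapSubmonoid B M) C]
    [Algebra.FormallyEtale R C] :
    ∃ f ∈ M, Algebra.Etale R (Localization.Away (algebraMap R B f)) := by
  have hcl : IsClosed ((Algebra.etaleLocus R B)ᶜ) := Algebra.isOpen_etaleLocus.isClosed_compl
  obtain ⟨J, hJ⟩ := (PrimeSpectrum.isClosed_iff_zeroLocus_ideal _).1 hcl
  by_contra! hcon
  have hdis : Disjoint (J : Set B) (Algebra.algebraMapSubmonoid B M) := by
    rw [Set.disjoint_left]
    rintro _ hx ⟨f, hf, rfl⟩
    refine hcon f hf ?_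
    rw [← Algebra.basicOpen_subset_etaleLocus_iff_etale]
    intro q hq
    by_contra hq'
    have : q ∈ PrimeSpectrum.zeroLocus (J : Set B) := by rw [← hJ]; exact hq'
    exact hq (this hx)
  obtain ⟨q, hq, hJq, hqM⟩ := Ideal.exists_le_prime_disjoint J _ hdis
  have hq1 : (⟨q, hq⟩ : PrimeSpectrum B) ∈ (Algebra.etaleLocus R B)ᶜ := by
    rw [hJ]
    exact hJq
  apply hq1
  rw [Algebra.mem_etaleLocus_iff]
  have hp : (Ideal.map (algebraMap B C) q).IsPrime :=
    IsLocalization.isPrime_of_isPrime_disjoint (Algebra.algebraMapSubmonoid B M) C q hq hqM.symm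
  have hcm : (Ideal.map (algebraMap B C) q).comap (algebraMap B C) = q :=
    IsLocalization.under_map_of_isPrime_disjoint (Algebra.algebraMapSubmonoid B M) C hq hqM.symm
  have h1 := IsLocalization.isLocalization_isLocalization_atPrime_isLocalization
    (Algebra.algebraMapSubmonoid B M) (Localization.AtPrime (Ideal.map (algebraMap B C) q))
    (Ideal.map (algebraMap B C) q)
  have h2 : IsLocalization q.primeCompl
      (Localization.AtPrime (Ideal.map (algebraMap B C) q)) := by
    have h3 : ((Ideal.map (algebraMap B C) q).comap (algebraMap B C)).primeCompl = q.primeCompl := by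
      ext x
      simp [Ideal.primeCompl, hcm]
    rw [← h3]
    exact h1
  let e : Localization.AtPrime (Ideal.map (algebraMap B C) q) ≃ₐ[B] Localization.AtPrime q :=
    IsLocalization.algEquiv q.primeCompl _ _
  exact Algebra.FormallyEtale.of_equiv (e.restrictScalars R)

section

variable {R S N C N' : Type*} [CommRing R] [CommRing S] [CommRing N] [CommRing C] [CommRing N']
  [Algebra R S] (M : Submonoid R) [IsLocalization M S]
  [Algebra R N] [Algebra N N'] [Algebra R N'] [IsScalarTower R N N']
  [IsLocalization (Algebra.algebraMapSubmonoid N M) N']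
  [Algebra R C] [Algebra S C] [IsScalarTower R S C]
  {p : C →ₐ[R] N'}

include M in
/-- One `g`: the cokernel of `B → N` is killed by `f` up to powers of `g`. -/
lemma exists_away_coker {g : R} (T : Finset N)
    (hT : ∀ n : N, ∃ k : ℕ, g ^ k • n ∈ Submodule.span R (T : Set N))
    (hp : IsoAway p.toRingHom (algebraMap R C g)) {B : Subalgebra R (N × C)} (hB : B ≤ fibD p)
    (hc : ∀ c : C, ∃ m ∈ M, ∃ n : N, (n, m • c) ∈ B) :
    ∃ f ∈ M, ∀ f' : R, f ∣ f' → ∀ n : N, ∃ (k : ℕ) (c : C), ((f' * g) ^ k • n, c) ∈ B := by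
  classical
  -- the submodule of good elements for `f, k`
  have h1 : ∀ t : N, ∃ f ∈ M, ∃ (k : ℕ) (c : C), ((f * g ^ k) • t, c) ∈ B := by
    intro t
    obtain ⟨k, c, hkc⟩ := hp.2 (algebraMap N N' t)
    have hD : (g ^ k • t, c) ∈ fibD p := by
      rw [mem_fibD]
      change p (algebraMap R C g) ^ k * _ = p c at hkc
      simp only
      rw [← hkc, p.commutes, Algebra.smul_def, map_mul, map_pow, map_pow,
        ← IsScalarTower.algebraMap_apply]
    obtain ⟨m, hm, n, hn⟩ := hc c
    have h0 : (n - m • (g ^ k • t), (0 : C)) ∈ fibD p := by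
      have := Subalgebra.sub_mem _ (hB hn) (Subalgebra.smul_mem _ hD m)
      convert this using 1
      refine Prod.ext rfl ?_
      simp
    obtain ⟨m', hm', h'⟩ := exists_smul_eq_zero M h0
    refine ⟨m' * m, M.mul_mem hm' hm, k, m' • m • c, ?_⟩
    have := Subalgebra.smul_mem _ hn m'
    convert this using 1
    refine Prod.ext ?_ rfl
    simp only [Prod.smul_mk]
    rw [smul_sub, sub_eq_zero] at h'
    rw [h', mul_assoc, mul_smul, mul_smul]
  choose f hf k c hfk using h1
  let F : R := ∏ t ∈ T, f t
  let K : ℕ := ∑ t ∈ T, k t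
  have hF : F ∈ M := M.prod_mem fun t _ => hf t
  -- all the generators are good for `F, K`
  have h2 : ∀ n ∈ Submodule.span R (T : Set N), ∃ c : C, ((F * g ^ K) • n, c) ∈ B := by
    intro n hn
    induction hn using Submodule.span_induction with
    | mem t ht =>
      obtain ⟨a, ha⟩ : f t ∣ F := Finset.dvd_prod_of_mem _ ht
      obtain ⟨b, hb⟩ : g ^ k t ∣ g ^ K :=
        pow_dvd_pow _ (Finset.single_le_sum (f := k) (fun _ _ => Nat.zero_le _) ht)
      refine ⟨(a * b) • c t, ?_⟩
      have := Subalgebra.smul_mem _ (hfk t) (a * b)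
      convert this using 1
      refine Prod.ext ?_ rfl
      simp only [Prod.smul_mk]
      rw [ha, hb, smul_smul]
      congr 1
      ring
    | zero => exact ⟨0, by rw [smul_zero]; exact B.zero_mem⟩
    | add x y _ _ hx hy =>
      obtain ⟨cx, hx⟩ := hx
      obtain ⟨cy, hy⟩ := hy
      exact ⟨cx + cy, by rw [smul_add]; exact B.add_mem hx hy⟩
    | smul a x _ hx =>
      obtain ⟨cx, hx⟩ := hx
      exact ⟨a • cx, by rw [smul_comm]; exact B.smul_mem hx a⟩
  refine ⟨F, hF, ?_⟩
  rintro _ ⟨a, rfl⟩ n
  obtain ⟨j, hj⟩ := hT n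
  obtain ⟨c, hc⟩ := h2 _ hj
  refine ⟨K + j + 1, ((F * a) ^ (K + j) * a * g) • c, ?_⟩
  have := B.smul_mem hc ((F * a) ^ (K + j) * a * g)
  convert this using 1
  refine Prod.ext ?_ rfl
  simp only [Prod.smul_mk]
  rw [smul_smul, smul_smul]
  congr 1
  ring

include M in
/-- étaleness of the model after inverting some `f ∈ M` -/
lemma exists_etale_model [IsNoetherianRing R] [Algebra.Etale S C]
    (hM : ∀ m ∈ M, IsUnit (algebraMap R C m))
    {B : Type*} [CommRing B] [Algebra R B] [Module.Finite R B] (i : B →ₐ[R] N × C)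
    (hi : Function.Injective i) (hB : ∀ b, i b ∈ fibD p)
    (hc : ∀ c : C, ∃ m ∈ M, ∃ b : B, (i b).2 = m • c) :
    ∃ f ∈ M, Algebra.Etale R (Localization.Away (algebraMap R B f)) := by
  let alg : Algebra B C := ((AlgHom.snd R N C).comp i).toRingHom.toAlgebra
  have hst : IsScalarTower R B C :=
    IsScalarTower.of_algebraMap_eq fun r => (((AlgHom.snd R N C).comp i).commutes r).symm
  have hloc : IsLocalization (Algebra.algebraMapSubmonoid B M) C :=
    isLocalization_of_le (N := N) (N' := N') (p := p) M hM i hi hB hc (fun b => rfl)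
  have hfp : Algebra.FinitePresentation R B :=
    Algebra.FinitePresentation.of_finiteType.1 inferInstance
  have : Algebra.FormallyEtale R S := Algebra.FormallyEtale.of_isLocalization M
  have : Algebra.FormallyEtale R C := Algebra.FormallyEtale.comp R S C
  exact exists_etale_away C M

/-- étaleness spreads to multiples -/
lemma etale_away_of_dvd {R B : Type*} [CommRing R] [CommRing B] [Algebra R B] {f f' : B}
    (h : f ∣ f') (hf : Algebra.Etale R (Localization.Away f)) :
    Algebra.Etale R (Localization.Away f') := by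
  obtain ⟨a, rfl⟩ := h
  have h1 : IsLocalization.Away (f * a)
      (Localization.Away (algebraMap B (Localization.Away f) a)) :=
    IsLocalization.Away.mul' (Localization.Away f) _ f a
  have h2 : Algebra.Etale R (Localization.Away (algebraMap B (Localization.Away f) a)) :=
    inferInstance
  let e : Localization.Away (algebraMap B (Localization.Away f) a) ≃ₐ[B]
    Localization.Away (f * a) := IsLocalization.algEquiv (Submonoid.powers (f * a)) _ _
  exact Algebra.Etale.of_equiv (e.restrictScalars R)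

include M in
theorem exists_spread [IsNoetherianRing R] [Module.Finite S C] [Algebra.Etale S C] (G : Finset R)
    (hG : ∀ g ∈ G, ∃ T : Finset N, ∀ n : N, ∃ k : ℕ, g ^ k • n ∈ Submodule.span R (T : Set N))
    (hp : ∀ g ∈ G, IsoAway p.toRingHom (algebraMap R C g)) :
    ∃ (B : Subalgebra R (N × C)) (f : R), f ∈ M ∧ Module.Finite R B ∧
      Algebra.Etale R (Localization.Away (algebraMap R B f)) ∧
      ∀ g ∈ G, IsoAway ((AlgHom.fst R N C).comp B.val).toRingHom (algebraMap R B (f * g)) := by
  classical
  have hM : ∀ m ∈ M, IsUnit (algebraMap R C m) := by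
    intro m hm
    rw [IsScalarTower.algebraMap_apply R S C]
    exact (IsLocalization.map_units S ⟨m, hm⟩).map _
  obtain ⟨B, hB, hBfin, hc⟩ := exists_model (N := N) (N' := N') (S := S) (p := p) M hM
  obtain ⟨f0, hf0, hf0e⟩ := exists_etale_model (N := N) (N' := N') (S := S) (p := p) M hM
    B.val Subtype.val_injective (fun b => hB b.2) (fun c => by
      obtain ⟨m, hm, n, hn⟩ := hc c
      exact ⟨m, hm, ⟨_, hn⟩, rfl⟩)
  have h1 : ∀ g ∈ G, ∃ f ∈ M, ∀ f' : R, f ∣ f' → ∀ n : N, ∃ (k : ℕ) (c : C),
      ((f' * g) ^ k • n, c) ∈ B := by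
    intro g hg
    obtain ⟨T, hT⟩ := hG g hg
    exact exists_away_coker (N' := N') M T hT (hp g hg) hB hc
  choose! f hf hf' using h1
  let F : R := ∏ g ∈ G, f g
  refine ⟨B, f0 * F, M.mul_mem hf0 (M.prod_mem fun g hg => hf g hg), hBfin, ?_, ?_⟩
  · rw [map_mul]
    exact etale_away_of_dvd (dvd_mul_right _ _) hf0e
  · intro g hg
    constructor
    · rintro ⟨⟨n, c⟩, hb⟩ h0
      obtain rfl : n = 0 := h0
      have h2 := hB hb
      rw [mem_fibD, map_zero] at h2
      obtain ⟨k, hk⟩ := (hp g hg).1 c h2.symm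
      refine ⟨k, ?_⟩
      apply Subtype.ext
      refine Prod.ext ?_ ?_
      · exact mul_zero _
      · change (algebraMap R C (f0 * F * g)) ^ k * c = 0
        rw [map_mul, mul_pow, mul_assoc, hk, mul_zero]
    · intro n
      obtain ⟨k, c, hkc⟩ := hf' g hg (f0 * F)
        ((Finset.dvd_prod_of_mem _ hg).trans (dvd_mul_left _ _)) n
      refine ⟨k, ⟨_, hkc⟩, ?_⟩
      change (algebraMap R N (f0 * F * g)) ^ k * n = (f0 * F * g) ^ k • n
      rw [Algebra.smul_def, map_pow]

end

end Groth.Agent.Pi1A.SpreadFEt
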