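import Groth.Agent.Pi1A.SpreadFEt2
import Mathlib.Algebra.Category.Ring.Constructions
import Mathlib.RingTheory.RingHom.Etale
import Mathlib.RingTheory.RingHom.Finite
import Mathlib.RingTheory.Localization.Finiteness
import Mathlib.RingTheory.Localization.BaseChange

/-!
# Spreading out finite étale algebras together with gluing data, part 3
-/

set_option autoImplicit false
set_option linter.style.haveILetI false

universe u

open CategoryTheory Limits

namespace Groth.Agent.Pi1A.SpreadFEt

open IsoAway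

lemma isoAway_map {B₀ N Bf Nf : Type*} [CommRing B₀] [CommRing N] [CommRing Bf] [CommRing Nf]
    [Algebra B₀ Bf] [Algebra N Nf] (q₀ : B₀ →+* N) (f g : B₀) [IsLocalization.Away f Bf]
    [IsLocalization.Away (q₀ f) Nf] (q : Bf →+* Nf)
    (hq : q.comp (algebraMap B₀ Bf) = (algebraMap N Nf).comp q₀) (h : IsoAway q₀ (f * g)) :
    IsoAway q (algebraMap B₀ Bf g) := by
  have hq' : ∀ b, q (algebraMap B₀ Bf b) = algebraMap N Nf (q₀ b) := fun b => congr($hq b)
  have hf : IsUnit (algebraMap B₀ Bf f) := IsLocalization.Away.algebraMap_isUnit f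
  have hf' : IsUnit (algebraMap N Nf (q₀ f)) := IsLocalization.Away.algebraMap_isUnit (q₀ f)
  constructor
  · intro z hz
    obtain ⟨⟨b, ⟨_, k, rfl⟩⟩, hb⟩ := IsLocalization.surj (Submonoid.powers f) z
    simp only at hb
    have h1 : algebraMap N Nf (q₀ b) = 0 := by
      rw [← hq', ← hb, map_mul, hz, zero_mul]
    rw [IsLocalization.map_eq_zero_iff (Submonoid.powers (q₀ f))] at h1
    obtain ⟨⟨_, j, rfl⟩, hj⟩ := h1
    simp only at hj
    rw [← map_pow, ← map_mul] at hj
    obtain ⟨i, hi⟩ := h.1 _ hj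
    refine ⟨i, ?_⟩
    have h2 : algebraMap B₀ Bf f ^ (i + j) * (algebraMap B₀ Bf g ^ i * z) *
        algebraMap B₀ Bf f ^ k = 0 := by
      have h3 := congrArg (algebraMap B₀ Bf) hi
      simp only [map_mul, map_pow, map_zero] at h3 hb
      rw [← h3, ← hb]
      ring
    have h4 := ((hf.pow k).mul_left_eq_zero).1 h2
    exact ((hf.pow (i + j)).mul_right_eq_zero).1 h4
  · intro z
    obtain ⟨⟨n, ⟨_, k, rfl⟩⟩, hn⟩ := IsLocalization.surj (Submonoid.powers (q₀ f)) z
    simp only at hn
    obtain ⟨i, b, hb⟩ := h.2 n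
    obtain ⟨u, hu⟩ := hf.exists_right_inv
    refine ⟨i, u ^ (i + k) * algebraMap B₀ Bf b, ?_⟩
    have hu' : algebraMap N Nf (q₀ f) * q u = 1 := by
      rw [← hq', ← map_mul, hu, map_one]
    apply ((hf'.pow (i + k)).mul_right_inj).1
    have h5 : algebraMap N Nf (q₀ b) = (algebraMap N Nf (q₀ f) * algebraMap N Nf (q₀ g)) ^ i *
        (z * algebraMap N Nf (q₀ f) ^ k) := by
      rw [← hb, map_mul, map_pow, map_mul, map_mul, ← hn, map_pow]
    rw [map_mul, map_pow, hq', hq', h5]
    calc algebraMap N Nf (q₀ f) ^ (i + k) * (algebraMap N Nf (q₀ g) ^ i * z)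
        = (algebraMap N Nf (q₀ f) * q u) ^ (i + k) *
          (algebraMap N Nf (q₀ f) ^ (i + k) * (algebraMap N Nf (q₀ g) ^ i * z)) := by
            rw [hu', one_pow, one_mul]
      _ = _ := by ring

/-- `N` is finitely generated over `R` up to `g`-power torsion. -/
def FinAway {R N : Type*} [CommRing R] [CommRing N] (n : R →+* N) (g : R) : Prop :=
  letI := n.toAlgebra
  ∃ T : Finset N, ∀ y : N, ∃ k : ℕ, g ^ k • y ∈ Submodule.span R (T : Set N)

lemma finAway_of_finite {R N Rg Ng : Type*} [CommRing R] [CommRing N] [CommRing Rg] [CommRing Ng]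
    [Algebra R Rg] [Algebra N Ng] (n : R →+* N) (g : R) [IsLocalization.Away g Rg]
    [IsLocalization.Away (n g) Ng] (q : Rg →+* Ng)
    (hq : q.comp (algebraMap R Rg) = (algebraMap N Ng).comp n) (h : q.Finite) : FinAway n g := by
  classical
  letI : Algebra R N := n.toAlgebra
  letI : Algebra Rg Ng := q.toAlgebra
  have hq' : ∀ b, q (algebraMap R Rg b) = algebraMap N Ng (n b) := fun b => congr($hq b)
  obtain ⟨s, hs⟩ := (h : Module.Finite Rg Ng)
  have h1 : ∀ z : Ng, ∃ (t : N) (k : ℕ), z * algebraMap N Ng (n g) ^ k = algebraMap N Ng t := by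
    intro z
    obtain ⟨⟨t, ⟨_, k, rfl⟩⟩, hb⟩ := IsLocalization.surj (Submonoid.powers (n g)) z
    exact ⟨t, k, by rw [← hb, map_pow]⟩
  choose t k ht using h1
  refine ⟨s.image t, fun y => ?_⟩
  have h2 : ∀ z ∈ Submodule.span Rg (s : Set Ng), ∃ (j : ℕ),
      ∃ y' ∈ Submodule.span R ((s.image t : Finset N) : Set N),
      z * algebraMap N Ng (n g) ^ j = algebraMap N Ng y' := by
    intro z hz
    induction hz using Submodule.span_induction with
    | mem z hz =>
      exact ⟨k z, t z, Submodule.subset_span (by simpa using ⟨z, hz, rfl⟩), ht z⟩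
    | zero => exact ⟨0, 0, Submodule.zero_mem _, by simp⟩
    | add x y _ _ hx hy =>
      obtain ⟨jx, x', hx', hx⟩ := hx
      obtain ⟨jy, y', hy', hy⟩ := hy
      refine ⟨jx + jy, g ^ jy • x' + g ^ jx • y',
        Submodule.add_mem _ (Submodule.smul_mem _ _ hx') (Submodule.smul_mem _ _ hy'), ?_⟩
      rw [map_add, Algebra.smul_def, Algebra.smul_def, map_mul, map_mul, ← hx, ← hy,
        map_pow, map_pow, map_pow, map_pow]
      change _ = algebraMap N Ng (n g) ^ jy * _ + algebraMap N Ng (n g) ^ jx * _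
      ring
    | smul a x _ hx =>
      obtain ⟨jx, x', hx', hx⟩ := hx
      obtain ⟨⟨r, ⟨_, i, rfl⟩⟩, hr⟩ := IsLocalization.surj (Submonoid.powers g) a
      simp only at hr
      refine ⟨i + jx, r • x', Submodule.smul_mem _ _ hx', ?_⟩
      rw [Algebra.smul_def, Algebra.smul_def, map_mul, ← hx]
      change q a * x * _ = algebraMap N Ng (n r) * _
      rw [← hq' r, ← hr, map_mul, map_pow, map_pow, hq']
      ring
  obtain ⟨j, y', hy', hj⟩ := h2 (algebraMap N Ng y) (by rw [hs]; trivial)
  rw [← map_pow, ← map_mul, IsLocalization.eq_iff_exists (Submonoid.powers (n g))] at hj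
  obtain ⟨⟨_, i, rfl⟩, hi⟩ := hj
  simp only at hi
  refine ⟨i + j, ?_⟩
  have h3 : g ^ (i + j) • y = g ^ i • y' := by
    rw [Algebra.smul_def, Algebra.smul_def, map_pow, map_pow]
    change n g ^ (i + j) * y = n g ^ i * y'
    rw [← hi]
    ring
  rw [h3]
  exact Submodule.smul_mem _ _ hy'

lemma exists_level {R N B : Type*} [CommRing R] [CommRing N] [CommRing B] [Algebra R N]
    [Algebra R B] [Module.Finite R B] (q₀ : B →ₐ[R] N) (f : R)
    (hB : Algebra.Etale R (Localization.Away (algebraMap R B f))) (G : Finset R)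
    (h : ∀ g ∈ G, IsoAway q₀.toRingHom (algebraMap R B (f * g))) {Rf Nf : Type*} [CommRing Rf]
    [CommRing Nf] [Algebra R Rf] [Algebra N Nf] [IsLocalization.Away f Rf]
    [IsLocalization.Away (algebraMap R N f) Nf] (rn : Rf →+* Nf)
    (hrn : rn.comp (algebraMap R Rf) = (algebraMap N Nf).comp (algebraMap R N)) :
    ∃ (β : Rf →+* Localization.Away (algebraMap R B f))
      (q : Localization.Away (algebraMap R B f) →+* Nf), q.comp β = rn ∧ β.Finite ∧
        β.Etale ∧ ∀ g ∈ G, IsoAway q (β (algebraMap R Rf g)) := by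
  have hu1 : IsUnit (algebraMap R (Localization.Away (algebraMap R B f)) f) := by
    rw [IsScalarTower.algebraMap_apply R B]
    exact IsLocalization.Away.algebraMap_isUnit (algebraMap R B f)
  let β : Rf →+* Localization.Away (algebraMap R B f) := IsLocalization.Away.lift f hu1
  have hβ : β.comp (algebraMap R Rf) = algebraMap R (Localization.Away (algebraMap R B f)) :=
    IsLocalization.Away.lift_comp f hu1
  have hu2 : IsUnit (((algebraMap N Nf).comp q₀.toRingHom) (algebraMap R B f)) := by
    change IsUnit (algebraMap N Nf (q₀ (algebraMap R B f)))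
    rw [q₀.commutes]
    exact IsLocalization.Away.algebraMap_isUnit (algebraMap R N f)
  let q : Localization.Away (algebraMap R B f) →+* Nf :=
    IsLocalization.Away.lift (algebraMap R B f) hu2
  have hq : q.comp (algebraMap B _) = (algebraMap N Nf).comp q₀.toRingHom :=
    IsLocalization.Away.lift_comp (algebraMap R B f) hu2
  letI : Algebra Rf (Localization.Away (algebraMap R B f)) := β.toAlgebra
  haveI : IsScalarTower R Rf (Localization.Away (algebraMap R B f)) := .of_algebraMap_eq' hβ.symm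
  refine ⟨β, q, ?_, ?_, ?_, ?_⟩
  · apply IsLocalization.ringHom_ext (Submonoid.powers f)
    have e1 : algebraMap R (Localization.Away (algebraMap R B f)) =
        (algebraMap B (Localization.Away (algebraMap R B f))).comp (algebraMap R B) :=
      IsScalarTower.algebraMap_eq R B _
    rw [hrn, RingHom.comp_assoc, hβ, e1, ← RingHom.comp_assoc, hq, RingHom.comp_assoc]
    congr 1
    exact q₀.comp_algebraMap
  · haveI : IsLocalization (Algebra.algebraMapSubmonoid B (Submonoid.powers f))
        (Localization.Away (algebraMap R B f)) := by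
      rw [Algebra.algebraMapSubmonoid_powers]
      infer_instance
    exact Module.Finite.of_isLocalization R B (Submonoid.powers f)
  · haveI : Algebra.Etale R Rf := Algebra.Etale.of_isLocalizationAway f
    exact (Algebra.Etale.of_restrictScalars (R := R) (A := Rf)
      (B := Localization.Away (algebraMap R B f)))
  · intro g hg
    have h1 : β (algebraMap R Rf g) =
        algebraMap B (Localization.Away (algebraMap R B f)) (algebraMap R B g) := by
      rw [← IsScalarTower.algebraMap_apply R B]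
      exact congr($hβ g)
    rw [h1]
    have h2 := h g hg
    rw [map_mul] at h2
    haveI : IsLocalization.Away (q₀.toRingHom (algebraMap R B f)) Nf := by
      change IsLocalization.Away (q₀ (algebraMap R B f)) Nf
      rw [q₀.commutes]
      infer_instance
    exact isoAway_map q₀.toRingHom (algebraMap R B f) (algebraMap R B g) q hq h2

/-- Bundled spreading out. -/
theorem exists_spread_ring {R S N C N' : CommRingCat.{u}} [IsNoetherianRing R] (M : Submonoid R)
    (a : R ⟶ S) (ha : letI := a.hom.toAlgebra; IsLocalization M S) (n : R ⟶ N) (s' : S ⟶ N')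
    (n' : N ⟶ N') (sq : IsPushout a n s' n') (c : S ⟶ C) (hc1 : c.hom.Finite) (hc2 : c.hom.Etale)
    (φ : C ⟶ N') (hφ : c ≫ φ = s') (G : Finset R) (hG : ∀ g ∈ G, FinAway n.hom g)
    (hp : ∀ g ∈ G, IsoAway φ.hom (c (a g))) :
    ∃ f ∈ M, ∀ {Rf Nf : CommRingCat.{u}} (ρ : R ⟶ Rf) (ν : N ⟶ Nf) (rn : Rf ⟶ Nf),
      ρ ≫ rn = n ≫ ν → (letI := ρ.hom.toAlgebra; IsLocalization.Away f Rf) →
      (letI := ν.hom.toAlgebra; IsLocalization.Away (n f) Nf) →
      ∃ (B : CommRingCat.{u}) (β : Rf ⟶ B) (q : B ⟶ Nf), β ≫ q = rn ∧ β.hom.Finite ∧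
        β.hom.Etale ∧ ∀ g ∈ G, IsoAway q.hom (β (ρ g)) := by
  letI : Algebra R S := a.hom.toAlgebra
  letI : Algebra R N := n.hom.toAlgebra
  letI : Algebra S C := c.hom.toAlgebra
  letI : Algebra R C := (a ≫ c).hom.toAlgebra
  letI : Algebra S N' := s'.hom.toAlgebra
  letI : Algebra N N' := n'.hom.toAlgebra
  letI : Algebra R N' := (a ≫ s').hom.toAlgebra
  haveI : IsScalarTower R S C := .of_algebraMap_eq' rfl
  haveI : IsScalarTower R S N' := .of_algebraMap_eq' rfl
  haveI : IsScalarTower R N N' := .of_algebraMap_eq' (congrArg CommRingCat.Hom.hom sq.w)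
  haveI : Algebra.IsPushout R S N N' := CommRingCat.isPushout_iff_isPushout.1 sq
  haveI : IsLocalization M S := ha
  haveI : IsLocalization (Algebra.algebraMapSubmonoid N M) N' :=
    (Algebra.isLocalization_iff_isPushout M S).2 (Algebra.IsPushout.symm inferInstance)
  haveI : Module.Finite S C := hc1
  haveI : Algebra.Etale S C := hc2
  let φ' : C →ₐ[R] N' := ⟨φ.hom, fun r => by
    have := congr((a ≫ $hφ).hom r)
    exact this⟩
  obtain ⟨B, f, hf, hB1, hB2, hB3⟩ := exists_spread (R := R) (S := S) (N := N) (C := C) (N' := N')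
    (p := φ') M G hG hp
  refine ⟨f, hf, ?_⟩
  intro Rf Nf ρ ν rn hsq hRf hNf
  letI : Algebra R Rf := ρ.hom.toAlgebra
  letI : Algebra N Nf := ν.hom.toAlgebra
  haveI : IsLocalization.Away f Rf := hRf
  haveI : IsLocalization.Away (algebraMap R N f) Nf := hNf
  haveI := hB1
  obtain ⟨β, q, h1, h2, h3, h4⟩ := exists_level ((AlgHom.fst R N C).comp B.val) f hB2 G hB3 rn.hom
    (congrArg CommRingCat.Hom.hom hsq)
  exact ⟨CommRingCat.of (Localization.Away (algebraMap R B f)), CommRingCat.ofHom β,
    CommRingCat.ofHom q, CommRingCat.hom_ext h1, h2, h3, h4⟩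

end Groth.Agent.Pi1A.SpreadFEt
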