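import Groth.Prelude.Def_MoreMor
import Groth.Agent.FlatA.AppIso
import Groth.Agent.Fdesc.IntegralFib
import Groth.Agent.Proet.Spectral
import Mathlib.AlgebraicGeometry.Normalization
import Mathlib.AlgebraicGeometry.Morphisms.Proper
import Mathlib.AlgebraicGeometry.Morphisms.LocalFlatDescent
import Mathlib.AlgebraicGeometry.Geometrically.Connected
import Mathlib.AlgebraicGeometry.Geometrically.Reduced

/-!
# The Stein factorization of a flat proper morphism with geometrically reduced fibres is etale

The inputs are stated as hypotheses: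
* `HStein` (S0388): the morphism to the relative normalization is geometrically connected and has
  `O = pushforward of O`;
* `HSec` (S1327): the section components of a flat morphism of finite presentation with
  geometrically reduced fibres form a neighbourhood;
* `HConst` (S0981): `O = f_* O` for flat proper morphisms with reduced connected geometric fibres;
* `HLfp` (S0114), `HFlat` (S1128): descent of local finite presentation and flatness along fppf
  covers of the source.
-/

universe u

set_option autoImplicit false
set_option backward.isDefEq.respectTransparency false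
set_option backward.isDefEq.respectTransparency.types false
set_option backward.defeqAttrib.useBackward true

open CategoryTheory CategoryTheory.Limits AlgebraicGeometry

namespace Groth.Agent.Pi1A.SteinEtale

/-- S0388 as a hypothesis. -/
def HStein : Prop := ∀ {X S : Scheme.{u}} (f : X ⟶ S) [IsProper f],
  GeometricallyConnected f.toNormalization ∧
    ∀ U : f.normalization.Opens, IsIso (f.toNormalization.app U)

/-- S1327 as a hypothesis. -/
def HSec : Prop := ∀ {X Y : Scheme.{u}} (f : X ⟶ Y) (s : Y ⟶ X) (_ : s ≫ f = 𝟙 Y)
    [LocallyOfFinitePresentation f] [QuasiCompact f] [QuasiSeparated f] [Flat f] (y : Y)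
    (_ : GeometricallyReduced (f.fiberToSpecResidueField y)),
    connectedComponentIn (f ⁻¹' {y}) (s y) ⊆ interior (MoreMor.sectionComponents f s)

/-- S0981 as a hypothesis. -/
def HConst : Prop := ∀ {X S : Scheme.{u}} (f : X ⟶ S)
    [IsProper f] [Flat f] [LocallyOfFinitePresentation f]
    (_ : ∀ (K : Type u) [Field K] [IsAlgClosed K] (g : Spec (CommRingCat.of K) ⟶ S),
      IsReduced (pullback f g) ∧ ConnectedSpace ↥(pullback f g))
    (V : S.Opens), IsIso (f.app V)

/-- S0114 as a hypothesis. -/
def HLfp : Prop := ∀ {X Y S : Scheme.{u}} (f : X ⟶ Y) (q : Y ⟶ S) [Surjective f] [Flat f]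
    [LocallyOfFinitePresentation f] [LocallyOfFinitePresentation (f ≫ q)],
    LocallyOfFinitePresentation q

/-- S1128 as a hypothesis. -/
def HFlat : Prop := ∀ {X' X Y : Scheme.{u}} (f : X' ⟶ X) (g : X ⟶ Y) [Flat f]
    [Surjective f] [Flat (f ≫ g)], Flat g

/-- `O = h_* O` is stable under flat base change. -/
lemma isIso_app_of_flat {Y T Y' T' : Scheme.{u}} {h : Y ⟶ T} {q : T' ⟶ T} {H : Y' ⟶ T'}
    {g : Y' ⟶ Y} (sq : IsPullback g H h q) [Flat q] [QuasiCompact h] [QuasiSeparated h]
    (hh : ∀ U : T.Opens, IsIso (h.app U)) (U : T'.Opens) : IsIso (H.app U) := by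
  have : QuasiCompact H := MorphismProperty.of_isPullback sq ‹_›
  have : QuasiSeparated H := MorphismProperty.of_isPullback sq ‹_›
  refine Groth.Agent.FlatA.AppIso.isIso_app_of_forall_exists H (fun y => ?_) U
  obtain ⟨_, ⟨V, hV, rfl⟩, hxV, -⟩ :=
    T.isBasis_affineOpens.exists_subset_of_mem_open (Set.mem_univ (q y)) isOpen_univ
  obtain ⟨_, ⟨V', hV', rfl⟩, hxV', hVV'⟩ :=
    T'.isBasis_affineOpens.exists_subset_of_mem_open (show y ∈ q ⁻¹ᵁ V from hxV) (q ⁻¹ᵁ V).isOpen
  have hVV'' : V' ≤ q ⁻¹ᵁ V := hVV'
  refine ⟨V', hV', hxV', ?_⟩
  have hUY : H ⁻¹ᵁ V' = g ⁻¹ᵁ (h ⁻¹ᵁ V) ⊓ H ⁻¹ᵁ V' := by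
    rw [← Scheme.Hom.comp_preimage, sq.w, Scheme.Hom.comp_preimage, eq_comm]
    exact inf_eq_right.mpr (H.preimage_mono hVV'')
  have := isIso_pushoutSection_of_isQuasiSeparated_of_flat_right sq hVV'' le_rfl hUY hV hV'
    (h.isCompact_preimage hV.isCompact) (h.isQuasiSeparated_preimage hV.isQuasiSeparated)
  have hpo := (isIso_pushoutSection_iff sq hVV'' le_rfl hUY).mp this
  have h1 : IsIso (h.appLE V (h ⁻¹ᵁ V) le_rfl) := by
    rw [Scheme.Hom.appLE_eq_app]
    exact hh V
  have h2 := hpo.isIso_inr_of_isIso
  rwa [Scheme.Hom.appLE_eq_app] at h2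

/-- Fibres of integral morphisms are totally disconnected. -/
theorem subsingleton_of_isPreconnected {T Y : Scheme.{u}} (π : T ⟶ Y) [IsIntegralHom π] (y : Y)
    {C : Set T} (hC : _root_.IsPreconnected C) (h : C ⊆ π ⁻¹' {y}) : C.Subsingleton := by
  have : IsIntegralHom (π.fiberToSpecResidueField y) :=
    inferInstanceAs (IsIntegralHom (pullback.snd _ _))
  have : IsAffine (π.fiber y) := isAffine_of_isAffineHom (π.fiberToSpecResidueField y)
  have hsp : SpectralSpace (π.fiber y) := ⟨⟩
  have h1 : T1Space (π.fiber y) := by
    rw [t1Space_iff_specializes_imp_eq]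
    intro a b hab
    exact Groth.Agent.Fdesc.IntegralFib.eq_of_specializes_of_isIntegralHom_field
      (K := Y.residueField y) (Field.toIsField _) (π.fiberToSpecResidueField y) hab
  have h2 : T2Space (π.fiber y) := Groth.Agent.Proet.Spectral.t2Space_of_t1Space
  have h3 : TotallyDisconnectedSpace (π.fiber y) := inferInstance
  have hC' : _root_.IsPreconnected ((π.fiberι y) ⁻¹' C) := by
    have hcl : (π.fiberι y) '' ((π.fiberι y) ⁻¹' C) = C := by
      rw [Set.image_preimage_eq_inter_range, π.range_fiberι]
      exact Set.inter_eq_left.2 h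
    rw [← (π.fiberι y).isEmbedding.isInducing.isPreconnected_image, hcl]
    exact hC
  have := hC'.subsingleton
  intro a ha b hb
  obtain ⟨a', rfl⟩ : a ∈ Set.range (π.fiberι y) := by rw [π.range_fiberι]; exact h ha
  obtain ⟨b', rfl⟩ : b ∈ Set.range (π.fiberι y) := by rw [π.range_fiberι]; exact h hb
  exact congrArg _ (this ha hb)

section Graph

variable {Y S : Scheme.{u}} (g : Y ⟶ S)

/-- The graph of `Y ⟶ T = g.normalization` relative to `S`. -/
noncomputable def graph [QuasiCompact g] [QuasiSeparated g] :
    Y ⟶ pullback g.fromNormalization g :=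
  pullback.lift g.toNormalization (𝟙 Y) (by simp)

/-- The base change `Y ×[S] Y ⟶ T ×[S] Y` of `Y ⟶ T`. -/
noncomputable def bc [QuasiCompact g] [QuasiSeparated g] :
    pullback g g ⟶ pullback g.fromNormalization g :=
  pullback.lift (pullback.fst g g ≫ g.toNormalization) (pullback.snd g g)
    (by simp [pullback.condition])

variable [QuasiCompact g] [QuasiSeparated g]

@[reassoc (attr := simp)]
lemma graph_fst : graph g ≫ pullback.fst _ _ = g.toNormalization := pullback.lift_fst _ _ _

@[reassoc (attr := simp)]
lemma graph_snd : graph g ≫ pullback.snd _ _ = 𝟙 Y := pullback.lift_snd _ _ _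

@[reassoc (attr := simp)]
lemma bc_fst : bc g ≫ pullback.fst _ _ = pullback.fst g g ≫ g.toNormalization :=
  pullback.lift_fst _ _ _

@[reassoc (attr := simp)]
lemma bc_snd : bc g ≫ pullback.snd _ _ = pullback.snd g g := pullback.lift_snd _ _ _

lemma isPullback_bc : IsPullback (pullback.fst g g) (bc g) g.toNormalization
    (pullback.fst g.fromNormalization g) := by
  refine IsPullback.of_bot ?_ (bc_fst g).symm (IsPullback.of_hasPullback g.fromNormalization g)
  have := IsPullback.of_hasPullback g g
  simpa using this

@[reassoc (attr := simp)]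
lemma diagonal_bc : pullback.diagonal g ≫ bc g = graph g := by
  apply pullback.hom_ext <;> simp [graph]

instance [GeometricallyConnected g.toNormalization] : GeometricallyConnected (bc g) :=
  MorphismProperty.of_isPullback (isPullback_bc g) ‹_›

instance [IsProper g] : IsProper g.toNormalization :=
  have : IsProper (g.toNormalization ≫ g.fromNormalization) := by simpa
  IsProper.of_comp g.toNormalization g.fromNormalization

instance [IsProper g] : IsProper (bc g) :=
  MorphismProperty.of_isPullback (isPullback_bc g) inferInstance

lemma sectionComponents_eq [GeometricallyConnected g.toNormalization] :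
    MoreMor.sectionComponents (pullback.snd g g) (pullback.diagonal g) =
      bc g ⁻¹' Set.range (graph g) := by
  ext x
  set y := pullback.snd g g x with hy
  have hδ : pullback.snd g g (pullback.diagonal g y) = y := by
    rw [← Scheme.Hom.comp_apply]; simp
  have hHδ : bc g (pullback.diagonal g y) = graph g y := by
    rw [← Scheme.Hom.comp_apply, diagonal_bc]
  have hH : ∀ z, pullback.snd g.fromNormalization g (bc g z) = pullback.snd g g z := by
    intro z
    rw [← Scheme.Hom.comp_apply, bc_snd]
  change x ∈ connectedComponentIn (pullback.snd g g ⁻¹' {y}) (pullback.diagonal g y) ↔ _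
  constructor
  · intro hx
    have hsub := subsingleton_of_isPreconnected (pullback.snd g.fromNormalization g) y
      (C := bc g '' connectedComponentIn (pullback.snd g g ⁻¹' {y}) (pullback.diagonal g y))
      (isPreconnected_connectedComponentIn.image _ (bc g).continuous.continuousOn) (by
        rintro _ ⟨z, hz, rfl⟩
        have := connectedComponentIn_subset _ _ hz
        change pullback.snd g.fromNormalization g (bc g z) = y
        rw [hH]
        exact this)
    refine ⟨y, ?_⟩
    rw [← hHδ]
    exact hsub ⟨_, mem_connectedComponentIn hδ, rfl⟩ ⟨_, hx, rfl⟩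
  · rintro ⟨y', hy'⟩
    have h1 : y' = y := by
      rw [hy, ← hH, ← hy', ← Scheme.Hom.comp_apply, graph_snd]; rfl
    subst h1
    have hc := (Scheme.Hom.isConnected_preimage_singleton (bc g) (graph g y)).isPreconnected
    refine hc.subset_connectedComponentIn (x := pullback.diagonal g y) hHδ ?_ hy'.symm
    intro z hz
    change pullback.snd g g z = y
    rw [← hH, show bc g z = graph g y from hz, ← hHδ, hH, hδ]

/-- The image of the graph of `Y ⟶ T` in `T ×[S] Y` is open. -/
lemma isOpen_range_graph (H1 : HSec.{u}) [IsProper g] [Flat g]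
    [LocallyOfFinitePresentation g] [GeometricallyReduced g]
    [GeometricallyConnected g.toNormalization] : IsOpen (Set.range (graph g)) := by
  have hop : IsOpen (bc g ⁻¹' Set.range (graph g)) := by
    rw [← sectionComponents_eq, ← interior_eq_iff_isOpen]
    refine interior_subset.antisymm ?_
    intro x hx
    exact H1 (pullback.snd g g) (pullback.diagonal g) (by simp) (pullback.snd g g x)
      inferInstance hx
  have hq : Topology.IsQuotientMap (bc g) :=
    (bc g).isClosedMap.isQuotientMap (bc g).continuous (bc g).surjective
  exact hq.isOpen_preimage.1 hop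

end Graph

/-- An affine morphism inducing isomorphisms on sections is an isomorphism. -/
theorem isIso_of_isIso_app {X Y : Scheme.{u}} (f : X ⟶ Y) [IsAffineHom f]
    (h : ∀ V : Y.Opens, IsIso (f.app V)) : IsIso f := by
  change MorphismProperty.isomorphisms _ f
  rw [IsZariskiLocalAtTarget.iff_of_iSup_eq_top (P := MorphismProperty.isomorphisms Scheme)
    (fun V : Y.affineOpens => V.1) (iSup_affineOpens_eq_top Y)]
  intro V
  change IsIso _
  rw [isIso_morphismRestrict_iff_isIso_app f V.2]
  exact h _

/-- If `f` induces isomorphisms on sections, so do its restrictions to opens of the target. -/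
theorem isIso_app_morphismRestrict {X Y : Scheme.{u}} (f : X ⟶ Y) (U : Y.Opens)
    (h : ∀ V : Y.Opens, IsIso (f.app V)) (V : U.toScheme.Opens) : IsIso ((f ∣_ U).app V) := by
  have := h (U.ι ''ᵁ V)
  rw [morphismRestrict_app]
  infer_instance

section Open

variable {Y S : Scheme.{u}} (g : Y ⟶ S) [IsProper g] [Flat g] [LocallyOfFinitePresentation g]
  [GeometricallyReduced g]

instance isClosedImmersion_graph : IsClosedImmersion (graph g) :=
  have : IsClosedImmersion (graph g ≫ pullback.snd g.fromNormalization g) := by
    rw [graph_snd]; infer_instance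
  IsClosedImmersion.of_comp (graph g) (pullback.snd g.fromNormalization g)

theorem isOpenImmersion_graph (H0 : HStein.{u}) (H1 : HSec.{u}) (H2 : HConst.{u}) :
    IsOpenImmersion (graph g) := by
  obtain ⟨hgc, happ⟩ := H0 g
  let T1 : (pullback g.fromNormalization g).Opens := ⟨Set.range (graph g), isOpen_range_graph g H1⟩
  have hT1c : IsClosed (T1 : Set ↥(pullback g.fromNormalization g)) :=
    (graph g).isClosedEmbedding.isClosed_range
  have hcι : IsClosedImmersion T1.ι := .of_isPreimmersion T1.ι (by
    rw [Scheme.Opens.range_ι]; exact hT1c)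
  let γ' : Y ⟶ T1.toScheme := IsOpenImmersion.lift T1.ι (graph g) (by
    rw [Scheme.Opens.range_ι]; exact subset_rfl)
  have hγ' : γ' ≫ T1.ι = graph g := IsOpenImmersion.lift_fac _ _ _
  have hγ'c : IsClosedImmersion γ' := by
    have : IsClosedImmersion (γ' ≫ T1.ι) := by rw [hγ']; infer_instance
    exact IsClosedImmersion.of_comp γ' T1.ι
  have hγ's : Surjective γ' := by
    refine ⟨fun t => ?_⟩
    obtain ⟨y, hy⟩ : T1.ι t ∈ Set.range (graph g) := t.2
    refine ⟨y, T1.ι.isOpenEmbedding.injective ?_⟩
    rw [← hy, ← hγ']
    rfl
  let ρ : T1.toScheme ⟶ Y := T1.ι ≫ pullback.snd g.fromNormalization g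
  have hρ : γ' ≫ ρ = 𝟙 Y := by
    simp only [ρ, reassoc_of% hγ', graph_snd]
  let W : (pullback g g).Opens := bc g ⁻¹ᵁ T1
  let k : W.toScheme ⟶ T1.toScheme := bc g ∣_ T1
  have hk : k ≫ ρ = W.ι ≫ pullback.snd g g := by
    simp only [k, ρ, morphismRestrict_ι_assoc, bc_snd]
    rfl
  have hWc : IsClosed (W : Set ↥(pullback g g)) := hT1c.preimage (bc g).continuous
  have hcW : IsClosedImmersion W.ι := .of_isPreimmersion W.ι (by
    rw [Scheme.Opens.range_ι]; exact hWc)
  have hprop : IsProper (k ≫ ρ) := by rw [hk]; infer_instance
  have hflat : Flat (k ≫ ρ) := by rw [hk]; infer_instance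
  have hlfp : LocallyOfFinitePresentation (k ≫ ρ) := by rw [hk]; infer_instance
  have hgk : GeometricallyConnected k := inferInstance
  have hw := H2 (k ≫ ρ) (by
    intro K _ _ t
    constructor
    · have : IsReduced (pullback (pullback.snd g g) t) :=
        pullback_of_geometrically GeometricallyReduced.geometrically_isReduced K t
      rw [hk]
      exact isReduced_of_isOpenImmersion ((pullbackRightPullbackFstIso (pullback.snd g g) t W.ι).inv ≫
        pullback.snd _ _)
    · let j : Spec (CommRingCat.of K) ⟶ pullback ρ t := pullback.lift (t ≫ γ') (𝟙 _)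
        (by rw [Category.assoc, hρ, Category.comp_id, Category.id_comp])
      have hj2 : j ≫ pullback.snd ρ t = 𝟙 _ := pullback.lift_snd _ _ _
      have hj1 : j ≫ pullback.fst ρ t = t ≫ γ' := pullback.lift_fst _ _ _
      have hpb : IsPullback t j γ' (pullback.fst ρ t) := by
        refine IsPullback.of_bot ?_ hj1.symm (IsPullback.of_hasPullback ρ t)
        rw [hj2, hρ]
        exact IsPullback.of_vert_isIso ⟨by simp⟩
      have hjs : Surjective j := MorphismProperty.of_isPullback hpb ‹_›
      have : Subsingleton ↥(pullback ρ t) := j.surjective.subsingleton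
      have : Nonempty ↥(pullback ρ t) := ⟨j (Classical.arbitrary _)⟩
      have := GeometricallyConnected.connectedSpace_of_subsingleton
        (pullback.snd k (pullback.fst ρ t))
      exact (pullbackRightPullbackFstIso ρ t k).hom.homeomorph.connectedSpace_iff.1 this)
  have happk : ∀ V : T1.toScheme.Opens, IsIso (k.app V) :=
    isIso_app_morphismRestrict (bc g) T1
      (fun V => isIso_app_of_flat (isPullback_bc g) happ V)
  have happρ : ∀ V : Y.Opens, IsIso (ρ.app V) := by
    intro V
    have h1 := hw V
    rw [Scheme.Hom.comp_app] at h1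
    have := happk (ρ ⁻¹ᵁ V)
    exact IsIso.of_isIso_comp_right (ρ.app V) (k.app (ρ ⁻¹ᵁ V))
  have hiso : IsIso ρ := isIso_of_isIso_app ρ happρ
  have : IsIso (γ' ≫ ρ) := by rw [hρ]; infer_instance
  have : IsIso γ' := IsIso.of_isIso_comp_right γ' ρ
  rw [← hγ']
  infer_instance

end Open

section Etale

variable {Y S : Scheme.{u}} (g : Y ⟶ S)

theorem flat_toNormalization [QuasiCompact g] [QuasiSeparated g] [Flat g]
    [IsOpenImmersion (graph g)] : Flat g.toNormalization := by
  rw [← graph_fst]; infer_instance

theorem locallyOfFinitePresentation_toNormalization [QuasiCompact g] [QuasiSeparated g]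
    [LocallyOfFinitePresentation g] [IsOpenImmersion (graph g)] :
    LocallyOfFinitePresentation g.toNormalization := by
  rw [← graph_fst]; infer_instance

/-- The morphism `T ×[S] Y ⟶ T ×[S] T`. -/
noncomputable def bd [QuasiCompact g] [QuasiSeparated g] : pullback g.fromNormalization g ⟶
    pullback g.fromNormalization g.fromNormalization :=
  pullback.lift (pullback.fst g.fromNormalization g)
      (pullback.snd g.fromNormalization g ≫ g.toNormalization) (by simp [pullback.condition])

variable [QuasiCompact g] [QuasiSeparated g]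

@[reassoc (attr := simp)]
lemma bd_fst : bd g ≫ pullback.fst _ _ = pullback.fst g.fromNormalization g :=
  pullback.lift_fst _ _ _

@[reassoc (attr := simp)]
lemma bd_snd : bd g ≫ pullback.snd _ _ = pullback.snd g.fromNormalization g ≫ g.toNormalization :=
  pullback.lift_snd _ _ _

theorem isPullback_bd : IsPullback (pullback.snd g.fromNormalization g) (bd g) g.toNormalization
      (pullback.snd g.fromNormalization g.fromNormalization) := by
  refine IsPullback.of_bot (h₃₁ := g.fromNormalization)
    (v₂₁ := pullback.fst g.fromNormalization g.fromNormalization)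
    (v₂₂ := g.fromNormalization) ?_ (by simp)
    (IsPullback.of_hasPullback _ _).flip
  simpa using (IsPullback.of_hasPullback g.fromNormalization g).flip

/-- The graph of `h : Y ⟶ T` is the base change of the diagonal of `T ⟶ S`. -/
theorem isPullback_graph : IsPullback (graph g) g.toNormalization (bd g)
    (pullback.diagonal g.fromNormalization) := by
  refine IsPullback.of_right (h₁₂ := pullback.snd g.fromNormalization g)
    (v₁₃ := g.toNormalization)
    (h₂₂ := pullback.snd g.fromNormalization g.fromNormalization) ?_ ?_ (isPullback_bd g)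
  · simp only [graph_snd, pullback.diagonal_snd]
    exact IsPullback.of_horiz_isIso ⟨by simp⟩
  · apply pullback.hom_ext <;> simp

end Etale

/-- The Stein factorization `T ⟶ S` of a flat proper morphism of finite presentation with
geometrically reduced fibres is finite etale, and `Y ⟶ T` is flat of finite presentation. -/
theorem main (H0 : HStein.{u}) (H1 : HSec.{u}) (H2 : HConst.{u}) (H3 : HLfp.{u}) (H4 : HFlat.{u})
    {Y S : Scheme.{u}} (g : Y ⟶ S) [IsProper g] [Flat g] [LocallyOfFinitePresentation g]
    [GeometricallyReduced g] :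
    IsFinite g.fromNormalization ∧ Etale g.fromNormalization ∧ Flat g.toNormalization ∧
      LocallyOfFinitePresentation g.toNormalization ∧ Surjective g.toNormalization ∧
      GeometricallyConnected g.toNormalization := by
  have hγ := isOpenImmersion_graph g H0 H1 H2
  have hgc := (H0 g).1
  have h1 := flat_toNormalization g
  have h2 := locallyOfFinitePresentation_toNormalization g
  have h3 : Surjective g.toNormalization := inferInstance
  have : LocallyOfFinitePresentation (g.toNormalization ≫ g.fromNormalization) := by simpa
  have : Flat (g.toNormalization ≫ g.fromNormalization) := by simpa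
  have h4 : LocallyOfFinitePresentation g.fromNormalization :=
    H3 g.toNormalization g.fromNormalization
  have h5 : Flat g.fromNormalization := H4 g.toNormalization g.fromNormalization
  have h6 : IsOpenImmersion (pullback.diagonal g.fromNormalization) := by
    refine MorphismProperty.of_isPullback_of_descendsAlong
      (Q := @Surjective ⊓ @Flat ⊓ @QuasiCompact) (isPullback_graph g) ?_ hγ
    exact ⟨⟨MorphismProperty.of_isPullback (isPullback_bd g) h3,
      MorphismProperty.of_isPullback (isPullback_bd g) h1⟩,
      MorphismProperty.of_isPullback (isPullback_bd g) inferInstance⟩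
  have h7 : FormallyUnramified g.fromNormalization := inferInstance
  refine ⟨?_, Etale.of_formallyUnramified_of_flat _, h1, h2, h3, hgc⟩
  rw [IsFinite.iff_isIntegralHom_and_locallyOfFiniteType]
  exact ⟨inferInstance, inferInstance⟩

end Groth.Agent.Pi1A.SteinEtale
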