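import Groth.Prelude.Def_FEt
import Groth.Agent.Pi1A.SteinEtale
import Groth.Agent.Pi1A.ConnFibres
import Groth.Agent.Pi1A.FEtGlue
import Groth.Agent.Etcore.SmoothRed
import Groth.Agent.FlatB.GeomRed
import Mathlib.AlgebraicGeometry.Morphisms.FlatRank
import Mathlib.AlgebraicGeometry.Morphisms.FlatMono

/-!
# Covers with a section on one geometric fibre come from the base

`SteinCover.essImage_restrict`: the middle exactness of the homotopy sequence for flat proper
morphisms of finite presentation with connected reduced geometric fibres.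
-/

universe u

set_option autoImplicit false
set_option backward.isDefEq.respectTransparency false
set_option backward.isDefEq.respectTransparency.types false
set_option backward.defeqAttrib.useBackward true

open CategoryTheory CategoryTheory.Limits AlgebraicGeometry

namespace Groth.Agent.Pi1A.SteinCover

/-- The base change along an algebraic closure. -/
lemma exists_algClosed {X S : Scheme.{u}} (f : X ⟶ S) (K : Type u) [Field K]
    (x : Spec (CommRingCat.of K) ⟶ S) :
    ∃ (i : Spec (CommRingCat.of (AlgebraicClosure K)) ⟶ Spec (CommRingCat.of K))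
      (q : pullback f (i ≫ x) ⟶ pullback f x), Flat q ∧ Surjective q := by
  let i : Spec (CommRingCat.of (AlgebraicClosure K)) ⟶ Spec (CommRingCat.of K) :=
    Spec.map (CommRingCat.ofHom (algebraMap K (AlgebraicClosure K)))
  have hi : Surjective i := ⟨fun a => ⟨(⊥ : PrimeSpectrum (AlgebraicClosure K)),
    Subsingleton.elim (α := PrimeSpectrum K) _ _⟩⟩
  have hfl : Flat i := by
    rw [Flat.SpecMap_iff]
    exact RingHom.flat_algebraMap_iff.mpr inferInstance
  exact ⟨i, (pullbackLeftPullbackSndIso f x i).inv ≫ pullback.fst _ _, inferInstance,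
    inferInstance⟩

/-- Geometric connectedness may be tested on algebraically closed fields. -/
theorem geometricallyConnected_of_isAlgClosed {X S : Scheme.{u}} (f : X ⟶ S)
    (h : ∀ (Ω : Type u) [Field Ω] [IsAlgClosed Ω] (s : Spec (CommRingCat.of Ω) ⟶ S),
      ConnectedSpace ↥(pullback f s)) : GeometricallyConnected f := by
  refine ⟨geometrically_iff_of_isClosedUnderIsomorphisms.mpr fun K _ x ↦ ?_⟩
  obtain ⟨i, q, _, _⟩ := exists_algClosed f K x
  have := h (AlgebraicClosure K) (i ≫ x)
  exact q.surjective.connectedSpace q.continuous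

/-- Geometric reducedness may be tested on algebraically closed fields. -/
theorem geometricallyReduced_of_isAlgClosed {X S : Scheme.{u}} (f : X ⟶ S)
    (h : ∀ (Ω : Type u) [Field Ω] [IsAlgClosed Ω] (s : Spec (CommRingCat.of Ω) ⟶ S),
      IsReduced (pullback f s)) : GeometricallyReduced f := by
  refine ⟨geometrically_iff_of_isClosedUnderIsomorphisms.mpr fun K _ x ↦ ?_⟩
  obtain ⟨i, q, _, _⟩ := exists_algClosed f K x
  have := h (AlgebraicClosure K) (i ≫ x)
  exact Groth.Agent.FlatB.GeomRed.isReduced_of_flat_of_surjective q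

/-- A morphism over `B` from `X` to a finite etale cover of `B` comes from a section when `X ⟶ B` is
flat, quasi-compact with connected geometric fibres. -/
theorem exists_factor {X B T : Scheme.{u}} (f : X ⟶ B) [Flat f] [QuasiCompact f]
    (hfib : ∀ (Ω : Type u) [Field Ω] [IsAlgClosed Ω] (s : Spec (CommRingCat.of Ω) ⟶ B),
      ConnectedSpace ↥(pullback f s))
    (b : T ⟶ B) (hb : FEt.prop b) (τ : X ⟶ T) (hτ : τ ≫ b = f) :
    ∃ t : B ⟶ T, t ≫ b = 𝟙 B ∧ f ≫ t = τ := by
  obtain ⟨hfull, -⟩ := ConnFibres.restrict_fullyFaithful_of_flat f hfib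
  let A : FEt.Cat B := MorphismProperty.Over.mk ⊤ (𝟙 B) (FEt.prop.id_mem B)
  let C : FEt.Cat B := MorphismProperty.Over.mk ⊤ b hb
  let a : pullback (𝟙 B) f ⟶ pullback b f :=
    pullback.lift (pullback.snd (𝟙 B) f ≫ τ) (pullback.snd (𝟙 B) f) (by simp [hτ])
  have ha1 : a ≫ pullback.fst b f = pullback.snd (𝟙 B) f ≫ τ := pullback.lift_fst _ _ _
  have ha2 : a ≫ pullback.snd b f = pullback.snd (𝟙 B) f := pullback.lift_snd _ _ _
  let φ : (FEt.restrict f).obj A ⟶ (FEt.restrict f).obj C :=
    MorphismProperty.Over.homMk a (by exact ha2) trivial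
  obtain ⟨ψ, hψ⟩ := (FEt.restrict f).map_surjective φ
  have h1 : ψ.left ≫ b = 𝟙 B := Over.w ψ.hom
  refine ⟨ψ.left, h1, ?_⟩
  have h2 := FEtGlue.restrict_map_left_fst f ψ
  rw [hψ] at h2
  have h3 : pullback.fst (𝟙 B) f = pullback.snd (𝟙 B) f ≫ f := by
    simpa using pullback.condition (f := 𝟙 B) (g := f)
  have h4 : a ≫ pullback.fst b f = pullback.fst (𝟙 B) f ≫ ψ.left := h2
  rw [ha1, h3, Category.assoc] at h4
  exact ((cancel_epi (pullback.snd (𝟙 B) f)).1 h4).symm

lemma prop_of_comp {X Y Z : Scheme.{u}} (a : X ⟶ Y) (b : Y ⟶ Z) (hab : FEt.prop (a ≫ b))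
    (hb : FEt.prop b) : FEt.prop a := by
  have h1 : IsFinite (a ≫ b) := hab.1
  have h2 : Etale (a ≫ b) := hab.2
  have h3 : IsFinite b := hb.1
  have h4 : Etale b := hb.2
  exact ⟨IsFinite.of_comp a b, Etale.of_comp a b⟩

/-- A finite etale morphism with connected source and a section is an isomorphism. -/
theorem isIso_of_section {P Z : Scheme.{u}} (ψ : P ⟶ Z) (hψ : FEt.prop ψ) [ConnectedSpace P]
    [Nonempty Z] (ρ : Z ⟶ P) (hρ : ρ ≫ ψ = 𝟙 Z) : IsIso ψ := by
  have hp : FEt.prop ρ := prop_of_comp ρ ψ (by rw [hρ]; exact FEt.prop.id_mem _) hψ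
  have h1 : IsFinite ρ := hp.1
  have h2 : Etale ρ := hp.2
  have h3 : Mono ρ := mono_of_mono_fac hρ
  have h4 : IsOpenImmersion ρ := IsOpenImmersion.of_flat_of_mono ρ
  have h5 : Set.range ρ = Set.univ := by
    have hc : IsClopen (Set.range ρ) :=
      ⟨ρ.isClosedMap.isClosed_range, ρ.isOpenEmbedding.isOpen_range⟩
    exact hc.eq_univ (Set.range_nonempty ρ)
  have h6 : Surjective ρ := ⟨Set.range_eq_univ.1 h5⟩
  have h7 : IsIso ρ := by
    rw [isIso_iff_isOpenImmersion_and_surjective]
    exact ⟨h4, h6⟩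
  have h8 : IsIso (ρ ≫ ψ) := by rw [hρ]; infer_instance
  exact IsIso.of_isIso_comp_left ρ ψ

/-- The comparison of a cover with the pullback of its Stein factorization. -/
theorem isIso_comparison {X S T Y : Scheme.{u}} (f : X ⟶ S) [Flat f] [QuasiCompact f]
    [LocallyOfFinitePresentation f] [GeometricallyConnected f] (p : T ⟶ S) (hp : FEt.prop p)
    (h : Y ⟶ T) [GeometricallyConnected h] (v : Y ⟶ X) (hv : FEt.prop v)
    (w : h ≫ p = v ≫ f) [ConnectedSpace Y] (Ω : Type u) [Field Ω]
    (s : Spec (CommRingCat.of Ω) ⟶ S) (σ : pullback f s ⟶ Y) (hσ : σ ≫ v = pullback.fst f s) :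
    IsIso (pullback.lift h v w : Y ⟶ pullback p f) := by
  have hpf : FEt.prop (pullback.snd p f) := FEt.prop.pullback_snd p f hp
  let Φ : Y ⟶ pullback p f := pullback.lift h v w
  have hΦ1 : Φ ≫ pullback.fst p f = h := pullback.lift_fst _ _ _
  have hΦ2 : Φ ≫ pullback.snd p f = v := pullback.lift_snd _ _ _
  have hΦ : FEt.prop Φ := prop_of_comp Φ (pullback.snd p f) (by rw [hΦ2]; exact hv) hpf
  have hΦf : IsFinite Φ := hΦ.1
  have hΦe : Etale Φ := hΦ.2
  change IsIso Φ
  have hT : ConnectedSpace T := h.surjective.connectedSpace h.continuous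
  have hconn : ConnectedSpace ↥(pullback p f) := inferInstance
  -- the factorization through a geometric point
  let fs := pullback.snd f s
  obtain ⟨t, ht1, ht2⟩ := exists_factor fs
    (fun Ω' _ _ s' => pullback_of_geometrically
      GeometricallyConnected.geometrically_connectedSpace Ω' s')
    (pullback.snd p s) (FEt.prop.pullback_snd p s hp)
    (pullback.lift (σ ≫ h) fs (by
      rw [Category.assoc, w, reassoc_of% hσ]; exact pullback.condition)) (pullback.lift_snd _ _ _)
  let tb : Spec (CommRingCat.of Ω) ⟶ T := t ≫ pullback.fst p s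
  have htb : tb ≫ p = s := by
    simp only [tb, Category.assoc, pullback.condition, reassoc_of% ht1]
  have hfs : fs ≫ tb = σ ≫ h := by
    simp only [tb, reassoc_of% ht2]
    exact pullback.lift_fst _ _ _
  let m : pullback f s ⟶ pullback p f := σ ≫ Φ
  have hm1 : m ≫ pullback.fst p f = fs ≫ tb := by
    simp only [m, Category.assoc, hΦ1, hfs]
  have hm2 : m ≫ pullback.snd p f = pullback.fst f s := by
    simp only [m, Category.assoc, hΦ2, hσ]
  let ψ : pullback h tb ⟶ pullback f s := pullback.lift (pullback.fst h tb ≫ v)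
    (pullback.snd h tb) (by
      rw [Category.assoc, ← w, pullback.condition_assoc, htb])
  have hψ1 : ψ ≫ pullback.fst f s = pullback.fst h tb ≫ v := pullback.lift_fst _ _ _
  have hψ2 : ψ ≫ fs = pullback.snd h tb := pullback.lift_snd _ _ _
  have sq1 : IsPullback m fs (pullback.fst p f) tb := by
    refine IsPullback.of_right (h₁₂ := pullback.snd p f) (v₁₃ := f) (h₂₂ := p) ?_ hm1
      (IsPullback.of_hasPullback p f).flip
    rw [hm2, htb]
    exact IsPullback.of_hasPullback f s
  have sq2 : IsPullback (pullback.fst h tb) ψ Φ m := by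
    refine IsPullback.of_bot (v₂₁ := fs) (v₂₂ := pullback.fst p f) (h₃₁ := tb) ?_ ?_ sq1
    · rw [hψ2, hΦ1]
      exact IsPullback.of_hasPullback h tb
    · apply pullback.hom_ext
      · rw [Category.assoc, hΦ1, Category.assoc, hm1, reassoc_of% hψ2]
        exact pullback.condition
      · rw [Category.assoc, hΦ2, Category.assoc, hm2, hψ1]
  have hψ : FEt.prop ψ := FEt.prop.of_isPullback sq2 hΦ
  let ρ : pullback f s ⟶ pullback h tb := pullback.lift σ fs hfs.symm
  have hρ : ρ ≫ ψ = 𝟙 _ := by
    apply pullback.hom_ext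
    · rw [Category.assoc, hψ1, Category.id_comp]
      simp only [ρ, pullback.lift_fst_assoc, hσ]
    · rw [Category.assoc, Category.id_comp]
      change ρ ≫ ψ ≫ fs = fs
      rw [hψ2]
      exact pullback.lift_snd _ _ _
  have hc1 : ConnectedSpace ↥(pullback h tb) := pullback_of_geometrically
    GeometricallyConnected.geometrically_connectedSpace Ω tb
  have hc2 : ConnectedSpace ↥(pullback f s) := pullback_of_geometrically
    GeometricallyConnected.geometrically_connectedSpace Ω s
  have hiso : IsIso ψ := isIso_of_section ψ hψ ρ hρ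
  have hlc : IsLocallyConstant Φ.finrank := Φ.isLocallyConstant_finrank
  let x : ↥(pullback f s) := Classical.arbitrary _
  have h1 : Φ.finrank (m x) = 1 := by
    rw [← Scheme.Hom.finrank_of_isPullback _ _ _ _ sq2 x, Scheme.Hom.finrank_eq_one_of_isIso]
    rfl
  rw [Scheme.Hom.isIso_iff_finrank_eq]
  ext z
  rw [hlc.apply_eq_of_preconnectedSpace z (m x), h1]
  rfl

/-- Stacks 0C0J, exactness in the middle. -/
theorem essImage_restrict (H0 : SteinEtale.HStein.{u}) (H1 : SteinEtale.HSec.{u})
    (H2 : SteinEtale.HConst.{u}) (H3 : SteinEtale.HLfp.{u}) (H4 : SteinEtale.HFlat.{u})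
    {X S : Scheme.{u}} (f : X ⟶ S) [IsProper f] [Flat f] [LocallyOfFinitePresentation f]
    (hfib : ∀ (Ω : Type u) [Field Ω] [IsAlgClosed Ω] (s : Spec (CommRingCat.of Ω) ⟶ S),
      ConnectedSpace ↥(pullback f s) ∧ IsReduced (pullback f s))
    (Y : FEt.Cat X) [ConnectedSpace Y.left] (Ω : Type u) [Field Ω]
    (s : Spec (CommRingCat.of Ω) ⟶ S) (σ : pullback f s ⟶ Y.left)
    (hσ : σ ≫ Y.hom = pullback.fst f s) :
    (FEt.restrict f).essImage Y := by
  have hgc : GeometricallyConnected f :=
    geometricallyConnected_of_isAlgClosed f fun Ω _ _ s => (hfib Ω s).1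
  have hgr : GeometricallyReduced f :=
    geometricallyReduced_of_isAlgClosed f fun Ω _ _ s => (hfib Ω s).2
  let v : Y.left ⟶ X := Y.hom
  have hv : FEt.prop v := Y.prop
  have hvf : IsFinite v := hv.1
  have hve : Etale v := hv.2
  have hgr' : GeometricallyReduced (v ≫ f) :=
    Groth.Agent.Etcore.SmoothRed.geometricallyReduced_comp v f
  obtain ⟨hp1, hp2, hh1, hh2, hh3, hh4⟩ := SteinEtale.main H0 H1 H2 H3 H4 (v ≫ f)
  let p := (v ≫ f).fromNormalization
  let h := (v ≫ f).toNormalization
  have hp : FEt.prop p := ⟨hp1, hp2⟩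
  have w : h ≫ p = v ≫ f := (v ≫ f).toNormalization_fromNormalization
  have hiso := isIso_comparison f p hp h v hv w Ω s σ hσ
  let Φ : Y.left ⟶ pullback p f := pullback.lift h v w
  have : IsIso Φ := hiso
  have hΦ : Φ ≫ pullback.snd p f = v := pullback.lift_snd _ _ _
  let T : FEt.Cat S := MorphismProperty.Over.mk ⊤ p hp
  refine ⟨T, ⟨MorphismProperty.Over.isoMk (asIso Φ).symm ?_⟩⟩
  change inv Φ ≫ v = pullback.snd p f
  rw [IsIso.inv_comp_eq, hΦ]

end Groth.Agent.Pi1A.SteinCover
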