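import Groth.Agent.Pi1A.EtaleLift
import Groth.Agent.Pi1A.RegPair
import Mathlib.RingTheory.Flat.EquationalCriterion
import Mathlib.LinearAlgebra.TensorProduct.RightExactness
import Mathlib.RingTheory.Smooth.Flat

/-!
# Étale lifts to infinitesimal thickenings `A / x ^ N → A / x`
-/

open TensorProduct

namespace Groth.Agent.Pi1A.Purity

universe u v w

/-- If `f * a = 0 → a ∈ (g)` in `R`, the same holds in a flat module. -/
theorem exists_eq_smul_of_flat {R : Type*} [CommRing R] {E : Type*} [AddCommGroup E] [Module R E]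
    [Module.Flat R E] (f g : R) (h : ∀ a : R, f * a = 0 → ∃ b, a = g * b) (e : E)
    (he : f • e = 0) : ∃ e' : E, e = g • e' := by
  have h1 : ∑ _i : Unit, (fun _ : Unit => f) _i • (fun _ : Unit => e) _i = 0 := by simpa using he
  obtain ⟨k, a, y, h2, h3⟩ := Module.Flat.isTrivialRelation_of_sum_smul_eq_zero h1
  have h4 : ∀ j, ∃ b, a () j = g * b := fun j => h _ (by simpa using h3 j)
  choose b hb using h4
  refine ⟨∑ j, b j • y j, (h2 ()).trans ?_⟩
  rw [Finset.smul_sum]
  refine Finset.sum_congr rfl fun j _ => ?_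
  rw [hb, mul_smul]

theorem mem_map_ker_of_one_tmul_eq_zero {R₀ R E : Type*} [CommRing R₀] [CommRing R] [CommRing E]
    [Algebra R₀ R] [Algebra R₀ E] (hf : Function.Surjective (algebraMap R₀ R)) (y : E)
    (hy : (1 : R) ⊗ₜ[R₀] y = 0) :
    y ∈ (RingHom.ker (algebraMap R₀ R)).map (algebraMap R₀ E) := by
  let F : R₀ →ₐ[R₀] R := Algebra.ofId R₀ R
  have hy2 : (1 : R₀) ⊗ₜ[R₀] y ∈
      RingHom.ker (Algebra.TensorProduct.map F (AlgHom.id R₀ E)) := by
    rw [RingHom.mem_ker, Algebra.TensorProduct.map_tmul, map_one]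
    exact hy
  rw [Algebra.TensorProduct.rTensor_ker F hf] at hy2
  have hle : (RingHom.ker F).map (Algebra.TensorProduct.includeLeft : R₀ →ₐ[R₀] R₀ ⊗[R₀] E) ≤
      ((RingHom.ker (algebraMap R₀ R)).map (algebraMap R₀ E)).comap
        (Algebra.TensorProduct.lid R₀ E) := by
    rw [Ideal.map_le_iff_le_comap]
    intro a ha
    simp only [Ideal.mem_comap, Algebra.TensorProduct.includeLeft_apply,
      Algebra.TensorProduct.lid_tmul]
    rw [Algebra.smul_def, mul_one]
    exact Ideal.mem_map_of_mem _ ha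
  have := hle hy2
  simpa using this

theorem span_pow_le {A : Type*} [CommRing A] (x : A) {N : ℕ} (hN : 1 ≤ N) :
    Ideal.span {x ^ N} ≤ Ideal.span {x} := by
  rw [Ideal.span_singleton_le_span_singleton]
  exact dvd_pow_self x (by lia)

/-- An étale algebra over `A / x` lifts to an étale algebra over `A / x ^ N`. -/
theorem exists_thick {A : Type u} [CommRing A] (x : A) (N : ℕ) (hN : 1 ≤ N) (C : Type w)
    [CommRing C] [Algebra A C] [Algebra (A ⧸ Ideal.span {x}) C]
    [IsScalarTower A (A ⧸ Ideal.span {x}) C] [Algebra.Etale (A ⧸ Ideal.span {x}) C] :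
    ∃ (E : Type u) (_ : CommRing E) (_ : Algebra A E) (_ : Algebra (A ⧸ Ideal.span {x ^ N}) E)
      (_ : IsScalarTower A (A ⧸ Ideal.span {x ^ N}) E),
      Algebra.Etale (A ⧸ Ideal.span {x ^ N}) E ∧
      ∃ π : E →ₐ[A] C, Function.Surjective π ∧ ∀ e, π e = 0 → ∃ e', e = x • e' := by
  let R₀ := A ⧸ Ideal.span {x ^ N}
  let R := A ⧸ Ideal.span {x}
  let f : R₀ →+* R := Ideal.Quotient.factor (span_pow_le x hN)
  have hf : Function.Surjective f := Ideal.Quotient.factor_surjective _
  let _ : Algebra R₀ R := f.toAlgebra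
  have tower1 : IsScalarTower A R₀ R := IsScalarTower.of_algebraMap_eq' rfl
  obtain ⟨E, _, _, hE, ⟨e⟩⟩ := EtaleLift.exists_etale_lift (R₀ := R₀) (R := R) hf C
  let _ : Algebra A E := ((algebraMap R₀ E).comp (algebraMap A R₀)).toAlgebra
  have tower2 : IsScalarTower A R₀ E := IsScalarTower.of_algebraMap_eq' rfl
  let _ : Algebra R₀ C := ((algebraMap R C).comp (algebraMap R₀ R)).toAlgebra
  have tower3 : IsScalarTower R₀ R C := IsScalarTower.of_algebraMap_eq' rfl
  have tower4 : IsScalarTower A R₀ C := by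
    refine IsScalarTower.of_algebraMap_eq fun a => ?_
    rw [IsScalarTower.algebraMap_apply A R C, IsScalarTower.algebraMap_apply A R₀ R,
      ← IsScalarTower.algebraMap_apply R₀ R C]
  let π₀ : E →ₐ[R₀] C := (e.toAlgHom.restrictScalars R₀).comp
    (Algebra.TensorProduct.includeRight : E →ₐ[R₀] R ⊗[R₀] E)
  refine ⟨E, inferInstance, inferInstance, inferInstance, inferInstance, hE,
    π₀.restrictScalars A, ?_, ?_⟩
  · have h1 : Function.Surjective (Algebra.TensorProduct.includeRight : E →ₐ[R₀] R ⊗[R₀] E) := by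
      intro t
      induction t using TensorProduct.induction_on with
      | zero => exact ⟨0, map_zero _⟩
      | tmul r b =>
        obtain ⟨r, rfl⟩ := hf r
        refine ⟨r • b, ?_⟩
        rw [Algebra.TensorProduct.includeRight_apply, ← TensorProduct.smul_tmul,
          Algebra.smul_def, mul_one]
        rfl
      | add a b ha hb =>
        obtain ⟨a, rfl⟩ := ha
        obtain ⟨b, rfl⟩ := hb
        exact ⟨a + b, map_add _ _ _⟩
    exact e.surjective.comp h1
  · intro y hy
    have hy1 : (1 : R) ⊗ₜ[R₀] y = 0 := by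
      have : e ((1 : R) ⊗ₜ[R₀] y) = 0 := hy
      rwa [EmbeddingLike.map_eq_zero_iff] at this
    have hy2 := mem_map_ker_of_one_tmul_eq_zero hf y hy1
    have hk : RingHom.ker (algebraMap R₀ R) = Ideal.span {algebraMap A R₀ x} := by
      have h1 : RingHom.ker (algebraMap R₀ R) = RingHom.ker f := rfl
      rw [h1, Ideal.Quotient.factor_ker, Ideal.map_span, Set.image_singleton]
      rfl
    rw [hk, Ideal.map_span, Set.image_singleton, Ideal.mem_span_singleton'] at hy2
    obtain ⟨z, hz⟩ := hy2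
    refine ⟨z, ?_⟩
    rw [← hz, mul_comm, Algebra.smul_def, IsScalarTower.algebraMap_apply A R₀ E]

end Groth.Agent.Pi1A.Purity
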