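import Mathlib.Algebra.Polynomial.Div
import Mathlib.Algebra.Polynomial.Derivative
import Mathlib.Algebra.Polynomial.FieldDivision
import Mathlib.RingTheory.Polynomial.Basic
import Mathlib.RingTheory.Ideal.Quotient.Operations
import Mathlib.Tactic.LinearCombination

/-!
# The one-variable trace step in the Lipman–Sathaye argument

Let `φ : R → F` be a ring map to a field with kernel `P ⊇ J`, `y ∈ F` a root of a monic polynomial
`h` over `R` such that `y` is a fraction of elements of `φ R`. Let `P'` be the kernel of
`R[X] → F, X ↦ y` and `J' = J R[X] + (h)`. If `g' P' ⊆ J'` then there is `g ∈ R` with `g P ⊆ J` and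
`φ(g) h'(y) = g'(y)`.
-/

set_option autoImplicit false
universe u v

namespace Groth.Agent.Pi1A.TraceOne

open Polynomial Ideal

variable {R : Type u} [CommRing R] {F : Type v} [Field F]

theorem coeff_mem_of_mul_mem {J : Ideal R} (hJ : J ≠ ⊤) {h : R[X]} (hmon : h.Monic) (q : R[X])
    (hq : q.degree < h.degree) (hmem : q ∈ J.map C ⊔ span {h}) (i : ℕ) : q.coeff i ∈ J := by
  have hnt : Nontrivial (R ⧸ J) := Ideal.Quotient.nontrivial_iff.mpr hJ
  obtain ⟨a, ha, b, hb, hab⟩ := Submodule.mem_sup.mp hmem
  obtain ⟨c, rfl⟩ := Ideal.mem_span_singleton.mp hb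
  have ha0 : a.map (Ideal.Quotient.mk J) = 0 := by
    rw [Ideal.mem_map_C_iff] at ha
    ext n
    rw [coeff_map, coeff_zero]
    exact Ideal.Quotient.eq_zero_iff_mem.mpr (ha n)
  have h1 : q.map (Ideal.Quotient.mk J) = h.map (Ideal.Quotient.mk J) *
      c.map (Ideal.Quotient.mk J) := by
    rw [← hab, Polynomial.map_add, ha0, zero_add, Polynomial.map_mul]
  have h2 : q.map (Ideal.Quotient.mk J) = 0 := by
    by_contra hne
    apply (hmon.map (Ideal.Quotient.mk J)).not_dvd_of_degree_lt hne _ ⟨_, h1⟩
    rw [hmon.degree_map]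
    exact lt_of_le_of_lt (degree_map_le) hq
  have h3 := congrArg (fun p => p.coeff i) h2
  simp only [coeff_map, coeff_zero] at h3
  exact Ideal.Quotient.eq_zero_iff_mem.mp h3

theorem traceStep (φ : R →+* F) (J : Ideal R) (hJ : J ≤ RingHom.ker φ) (y : F) (h : R[X])
    (hmon : h.Monic) (hy : eval₂ φ y h = 0) (a b : R) (hb : φ b ≠ 0) (hab : φ b * y = φ a)
    (g' : R[X])
    (hg' : ∀ p : R[X], eval₂ φ y p = 0 → g' * p ∈ J.map C ⊔ span {h}) :
    ∃ g : R, (∀ p : R, φ p = 0 → g * p ∈ J) ∧
      φ g * eval₂ φ y (derivative h) = eval₂ φ y g' := by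
  have hJtop : J ≠ ⊤ := by
    rintro rfl
    have := hJ (Submodule.mem_top (x := (1 : R)))
    rw [RingHom.mem_ker, map_one] at this
    exact one_ne_zero this
  have hntR : Nontrivial R := φ.domain_nontrivial
  have hh1 : h ≠ 1 := by
    rintro rfl
    simp at hy
  have hdeg : 0 < h.natDegree := by
    rw [Nat.pos_iff_ne_zero]
    intro h0
    exact hh1 (hmon.natDegree_eq_zero.mp h0)
  set m := h.natDegree with hm
  set g'' := g' %ₘ h with hg''
  have hgg : g'' + h * (g' /ₘ h) = g' := modByMonic_add_div g' h
  have hdegg : g''.degree < h.degree := degree_modByMonic_lt g' hmon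
  have hg''mem : ∀ p : R[X], eval₂ φ y p = 0 → g'' * p ∈ J.map C ⊔ span {h} := by
    intro p hp
    have h1 := hg' p hp
    have h2 : g'' * p = g' * p - (g' /ₘ h) * p * h := by
      linear_combination p * hgg
    rw [h2]
    exact Ideal.sub_mem _ h1 (Ideal.mul_mem_left _ _
      (Ideal.mem_sup_right (Ideal.mem_span_singleton_self h)))
  refine ⟨g''.coeff (m - 1), ?_, ?_⟩
  · intro p hp
    have h1 := hg''mem (C p) (by rw [eval₂_C, hp])
    have h2 : (g'' * C p).degree < h.degree := by
      refine lt_of_le_of_lt ?_ hdegg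
      rw [mul_comm, ← smul_eq_C_mul]
      exact degree_smul_le p g''
    have h3 := coeff_mem_of_mul_mem hJtop hmon _ h2 h1 (m - 1)
    rwa [coeff_mul_C] at h3
  · set G := g''.map φ with hG
    set H := h.map φ with hH
    have hHmon : H.Monic := hmon.map φ
    have hHdeg : H.natDegree = m := hmon.natDegree_map φ
    have hGcoeff : ∀ i, m ≤ i → G.coeff i = 0 := by
      intro i hi
      rw [hG, coeff_map, coeff_eq_zero_of_degree_lt, map_zero]
      refine lt_of_lt_of_le hdegg ?_
      rw [degree_eq_natDegree hmon.ne_zero]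
      exact_mod_cast hi
    have h1 := hg''mem (C b * X - C a) (by
      rw [eval₂_sub, eval₂_mul, eval₂_C, eval₂_C, eval₂_X, hab, sub_self])
    -- map to `F[X]`
    have h2 : G * (C (φ b) * X - C (φ a)) ∈ span {H} := by
      obtain ⟨c, hc, d, hd, hcd⟩ := Submodule.mem_sup.mp h1
      obtain ⟨e, rfl⟩ := Ideal.mem_span_singleton.mp hd
      have hc0 : c.map φ = 0 := by
        rw [Ideal.mem_map_C_iff] at hc
        ext n
        rw [coeff_map, coeff_zero]
        exact hJ (hc n)
      have := congrArg (Polynomial.map φ) hcd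
      rw [Polynomial.map_add, hc0, zero_add, Polynomial.map_mul, Polynomial.map_mul,
        Polynomial.map_sub, Polynomial.map_mul, map_C, map_C, map_X] at this
      rw [← this]
      exact Ideal.mul_mem_right _ _ (Ideal.mem_span_singleton_self _)
    obtain ⟨q', hq'⟩ := Ideal.mem_span_singleton.mp h2
    have h3 : G * (X - C y) = H * (C (φ b)⁻¹ * q') := by
      have e1 : C (φ b) * X - C (φ a) = C (φ b) * (X - C y) := by
        rw [← hab, C_mul]; ring
      rw [e1] at hq'
      have e2 : C (φ b)⁻¹ * C (φ b) = (1 : F[X]) := by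
        rw [← C_mul, inv_mul_cancel₀ hb, C_1]
      linear_combination (C (φ b)⁻¹) * hq' - G * (X - C y) * e2
    set q := C (φ b)⁻¹ * q' with hq
    -- `q` is a constant
    have h4 : q.natDegree = 0 := by
      by_cases hq0 : q = 0
      · rw [hq0, natDegree_zero]
      have e1 : (H * q).natDegree = m + q.natDegree := by
        rw [hHmon.natDegree_mul' hq0, hHdeg]
      have e2 : (G * (X - C y)).natDegree ≤ m := by
        by_cases hG0 : G = 0
        · rw [hG0, zero_mul, natDegree_zero]; exact Nat.zero_le _
        have : G.natDegree < m := by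
          by_contra hcon
          push Not at hcon
          have := hGcoeff _ hcon
          rw [coeff_natDegree, leadingCoeff_eq_zero] at this
          exact hG0 this
        refine (natDegree_mul_le).trans ?_
        rw [natDegree_X_sub_C]
        omega
      rw [h3, e1] at e2
      omega
    obtain ⟨l, hl⟩ : ∃ l, q = C l := ⟨_, eq_C_of_natDegree_eq_zero h4⟩
    rw [hl] at h3
    have h5 : l = G.coeff (m - 1) := by
      have := congrArg (fun p => p.coeff m) h3
      simp only [coeff_mul_C] at this
      rw [← hHdeg, coeff_natDegree, hHmon.leadingCoeff, one_mul, hHdeg, mul_sub, coeff_sub,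
        coeff_mul_C, hGcoeff m le_rfl, zero_mul, sub_zero] at this
      obtain ⟨m', hm'⟩ : ∃ m', m = m' + 1 := ⟨m - 1, by omega⟩
      rw [hm', coeff_mul_X] at this
      rw [← this, hm', Nat.add_sub_cancel]
    have h6 : G.eval y = l * (derivative H).eval y := by
      have := congrArg (fun p => (derivative p).eval y) h3
      simp only [derivative_mul, derivative_sub, derivative_X, derivative_C, sub_zero, mul_one,
        eval_add, eval_mul, eval_sub, eval_X, eval_C, sub_self, mul_zero, zero_add, add_zero] at this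
      rw [this, mul_comm]
    have h7 : eval₂ φ y g' = G.eval y := by
      rw [← hgg, eval₂_add, eval₂_mul, hy, zero_mul, add_zero, hG, eval_map]
    rw [h7, h6, h5, hG, coeff_map, hH, derivative_map, eval_map]

end Groth.Agent.Pi1A.TraceOne
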